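import Groth.Agent.Hensel.MvHensel
import Groth.Prelude.Def_QuadSing
import Mathlib.LinearAlgebra.Matrix.NonsingularInverse
import Mathlib.Tactic.NoncommRing

/-!
# Lifting isometries of non-degenerate quadratic forms over henselian local rings
-/

set_option autoImplicit false
universe u v

namespace Groth.Agent.Vancyc.H690.QuadIsom

open IsLocalRing Matrix

section Basic

variable {R : Type*} [CommRing R] {N : ℕ}

/-- The upper triangular matrix of a quadratic form. -/
def upper (a : Fin N → Fin N → R) : Matrix (Fin N) (Fin N) R :=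
  Matrix.of fun i j => if i ≤ j then a i j else 0

theorem upper_apply (a : Fin N → Fin N → R) (i j : Fin N) :
    upper a i j = if i ≤ j then a i j else 0 := rfl

/-- The strictly lower triangular part. -/
def lower (a : Fin N → Fin N → R) : Matrix (Fin N) (Fin N) R :=
  Matrix.of fun i j => if i ≤ j then 0 else a i j

theorem lower_apply (a : Fin N → Fin N → R) (i j : Fin N) :
    lower a i j = if i ≤ j then 0 else a i j := rfl

theorem upper_add_lower (C : Matrix (Fin N) (Fin N) R) : upper C + lower C = C := by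
  ext i j
  simp only [upper_apply, lower_apply, Matrix.add_apply]
  split_ifs <;> simp

theorem dotProduct_mulVec_transpose (C : Matrix (Fin N) (Fin N) R) (v : Fin N → R) :
    v ⬝ᵥ (Cᵀ *ᵥ v) = v ⬝ᵥ (C *ᵥ v) := by
  rw [Matrix.mulVec_transpose, dotProduct_comm, Matrix.dotProduct_mulVec]

/-- Folding a matrix to an upper triangular one. -/
def fold (C : Matrix (Fin N) (Fin N) R) : Matrix (Fin N) (Fin N) R := upper C + (lower C)ᵀ

theorem dotProduct_fold (C : Matrix (Fin N) (Fin N) R) (v : Fin N → R) :
    v ⬝ᵥ (fold C *ᵥ v) = v ⬝ᵥ (C *ᵥ v) := by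
  rw [fold, Matrix.add_mulVec, dotProduct_add, dotProduct_mulVec_transpose, ← dotProduct_add,
    ← Matrix.add_mulVec, upper_add_lower]

theorem quadEval_eq {R : Type u} [CommRing R] (a : Fin N → Fin N → R) (v : Fin N → R) :
    VanCyc.quadEval a v = v ⬝ᵥ (upper a *ᵥ v) := by
  rw [VanCyc.quadEval, dotProduct]
  refine Finset.sum_congr rfl fun i _ => ?_
  rw [mulVec, dotProduct, Finset.mul_sum]
  refine Finset.sum_congr rfl fun j _ => ?_
  rw [upper_apply]
  split_ifs
  · ring
  · ring

theorem polarMatrix_eq {R : Type u} [CommRing R] (a : Fin N → Fin N → R) :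
    VanCyc.polarMatrix a = upper a + (upper a)ᵀ := by
  ext i j
  simp only [VanCyc.polarMatrix, upper_apply, Matrix.add_apply, Matrix.transpose_apply]
  rcases lt_trichotomy i j with h | h | h
  · simp [h.ne, h, h.le, not_le.mpr h]
  · subst h
    simp [two_mul]
  · simp [h.ne', h.le, not_le.mpr h, not_lt.mpr h.le]

/-- Expansion of a quadratic form after the substitution `1 + B`. -/
theorem quadEval_one_add {R : Type u} [CommRing R] (a : Fin N → Fin N → R)
    (B : Matrix (Fin N) (Fin N) R) (v : Fin N → R) :
    VanCyc.quadEval a ((1 + B) *ᵥ v) =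
      v ⬝ᵥ ((upper a + VanCyc.polarMatrix a * B + Bᵀ * upper a * B) *ᵥ v) := by
  rw [quadEval_eq, polarMatrix_eq]
  have h1 : v ⬝ᵥ ((Bᵀ * upper a) *ᵥ v) = v ⬝ᵥ (((upper a)ᵀ * B) *ᵥ v) := by
    rw [← dotProduct_mulVec_transpose, Matrix.transpose_mul, Matrix.transpose_transpose]
  have h2 : ∀ (C D : Matrix (Fin N) (Fin N) R) , (C *ᵥ v) ⬝ᵥ (D *ᵥ v) = v ⬝ᵥ ((Cᵀ * D) *ᵥ v) := by
    intro C D
    rw [← Matrix.mulVec_mulVec, Matrix.dotProduct_mulVec v, Matrix.vecMul_transpose]
  rw [Matrix.mulVec_mulVec, h2, Matrix.transpose_add, Matrix.transpose_one]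
  have h3 : (1 + Bᵀ) * (upper a * (1 + B)) =
      upper a + upper a * B + Bᵀ * upper a + Bᵀ * upper a * B := by
    noncomm_ring
  rw [h3, Matrix.add_mul]
  simp only [Matrix.add_mulVec, dotProduct_add, h1]
  ring

end Basic

section System

open MvPolynomial

variable {R : Type u} [CommRing R] {N : ℕ} (a a' : Fin N → Fin N → R)

/-- The unknown upper triangular matrix. -/
noncomputable def unk (R : Type u) [CommRing R] (N : ℕ) :
    Matrix (Fin N) (Fin N) (MvPolynomial (Fin N × Fin N) R) :=
  Matrix.of fun i j => X (i, j)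

theorem unk_apply (i j : Fin N) : unk R N i j = X (i, j) := rfl

/-- The matrix `B = S⁻¹ T`. -/
noncomputable def Bmat : Matrix (Fin N) (Fin N) (MvPolynomial (Fin N × Fin N) R) :=
  ((VanCyc.polarMatrix a)⁻¹).map C * upper (unk R N)

/-- The quadratic part of the system, unfolded. -/
noncomputable def Cmat₀ : Matrix (Fin N) (Fin N) (MvPolynomial (Fin N × Fin N) R) :=
  (Bmat a)ᵀ * ((upper a).map C) * Bmat a

/-- The quadratic part of the system. -/
noncomputable def Cmat : Matrix (Fin N) (Fin N) (MvPolynomial (Fin N × Fin N) R) :=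
  fold (Cmat₀ a)

theorem fold_apply {R : Type*} [CommRing R] (C : Matrix (Fin N) (Fin N) R) (i j : Fin N) :
    fold C i j = (if i ≤ j then C i j else 0) + (if j ≤ i then 0 else C j i) := rfl

/-- The square system. -/
noncomputable def sys (p : Fin N × Fin N) : MvPolynomial (Fin N × Fin N) R :=
  X p + C (upper a p.1 p.2 - upper a' p.1 p.2) + Cmat a p.1 p.2

theorem eval_Bmat_zero (i j : Fin N) : eval 0 (Bmat a i j) = 0 := by
  rw [Bmat, Matrix.mul_apply, map_sum]
  refine Finset.sum_eq_zero fun k _ => ?_
  rw [map_mul, upper_apply, unk_apply]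
  split_ifs <;> simp

/-- products of two entries of `B` have zero derivative at the origin -/
theorem eval_pderiv_Cmat (p : Fin N × Fin N) (i j : Fin N) :
    eval 0 (pderiv p (Cmat a i j)) = 0 := by
  have h1 : ∀ i j, eval 0 (pderiv p (Cmat₀ a i j)) = 0 := by
    intro i j
    rw [Cmat₀, Matrix.mul_apply, map_sum, map_sum]
    refine Finset.sum_eq_zero fun k _ => ?_
    rw [Derivation.leibniz, map_add, smul_eq_mul, smul_eq_mul, map_mul, map_mul, eval_Bmat_zero,
      zero_mul, add_zero, Matrix.mul_apply, map_sum]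
    rw [Finset.sum_eq_zero, zero_mul]
    intro l _
    rw [map_mul, Matrix.transpose_apply, eval_Bmat_zero, zero_mul]
  rw [Cmat, fold_apply, map_add, map_add]
  split_ifs <;> simp only [h1, map_zero, add_zero]

theorem eval_Cmat_zero (i j : Fin N) : eval 0 (Cmat a i j) = 0 := by
  have h1 : ∀ i j, eval 0 (Cmat₀ a i j) = 0 := by
    intro i j
    rw [Cmat₀, Matrix.mul_apply, map_sum]
    refine Finset.sum_eq_zero fun k _ => ?_
    rw [map_mul, eval_Bmat_zero, mul_zero]
  rw [Cmat, fold_apply, map_add]
  split_ifs <;> simp only [h1, map_zero, add_zero]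

end System

/-- Isometries of non-degenerate quadratic forms over a henselian local ring lift. -/
theorem exists_isometry {R : Type u} [CommRing R] [HenselianLocalRing R] {N : ℕ}
    (a a' : Fin N → Fin N → R) (ha : VanCyc.QuadNondeg a)
    (h : ∀ i j, i ≤ j → a i j - a' i j ∈ maximalIdeal R) :
    ∃ M : Matrix (Fin N) (Fin N) R,
      (∀ i j, M i j - (1 : Matrix (Fin N) (Fin N) R) i j ∈ maximalIdeal R) ∧
      ∀ v, VanCyc.quadEval a (M *ᵥ v) = VanCyc.quadEval a' v := by
  classical
  obtain ⟨u, hu0, hu1⟩ := Groth.Agent.Hensel.MvHensel.exists_root (I := maximalIdeal R)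
    (sys a a') 0 (by
      intro p
      rw [sys, map_add, map_add, MvPolynomial.eval_X, MvPolynomial.eval_C, eval_Cmat_zero,
        Pi.zero_apply, zero_add, add_zero, upper_apply, upper_apply]
      split_ifs with hp
      · exact h _ _ hp
      · simp) (by
      have h6 : (MvPolynomial.eval 0).mapMatrix (Groth.Agent.Hensel.MvHensel.jac (sys a a')) =
          (1 : Matrix (Fin N × Fin N) (Fin N × Fin N) R) := by
        ext p q
        have h5 : MvPolynomial.pderiv p (sys a a' q) =
            MvPolynomial.pderiv p (MvPolynomial.X q) + MvPolynomial.pderiv p (Cmat a q.1 q.2) := by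
          rw [sys, map_add, map_add, MvPolynomial.pderiv_C, add_zero]
        rw [RingHom.mapMatrix_apply, Matrix.map_apply, Groth.Agent.Hensel.MvHensel.jac,
          Matrix.of_apply, h5, map_add,
          eval_pderiv_Cmat, add_zero, MvPolynomial.pderiv_X, Matrix.one_apply, Pi.single_apply]
        split_ifs with h1 h2 h2
        · simp
        · exact absurd h1.symm h2
        · exact absurd h2.symm h1
        · simp
      rw [RingHom.map_det, h6, Matrix.det_one, map_one]
      exact isUnit_one)
  set S := VanCyc.polarMatrix a with hS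
  set T : Matrix (Fin N) (Fin N) R := upper fun i j => u (i, j) with hT
  set B : Matrix (Fin N) (Fin N) R := S⁻¹ * T with hB
  have hBe : (Bmat a).map (MvPolynomial.eval u) = B := by
    rw [Bmat, Matrix.map_mul, Matrix.map_map]
    congr 1
    · ext i j
      simp [hS]
    · ext i j
      rw [Matrix.map_apply, upper_apply, hT, upper_apply, unk_apply]
      split_ifs <;> simp
  have hC₀ : (Cmat₀ a).map (MvPolynomial.eval u) = Bᵀ * upper a * B := by
    rw [Cmat₀, Matrix.map_mul, Matrix.map_mul, hBe, Matrix.transpose_map, hBe, Matrix.map_map]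
    congr 2
    ext i j
    simp
  have hC : (Cmat a).map (MvPolynomial.eval u) = fold (Bᵀ * upper a * B) := by
    rw [← hC₀]
    ext i j
    rw [Matrix.map_apply, Cmat, fold_apply, fold_apply, map_add]
    simp only [Matrix.map_apply]
    split_ifs <;> simp
  have heq : ∀ i j, u (i, j) + (upper a i j - upper a' i j) + fold (Bᵀ * upper a * B) i j = 0 := by
    intro i j
    have h7 := hu0 (i, j)
    rw [sys, map_add, map_add, MvPolynomial.eval_X, MvPolynomial.eval_C] at h7
    rw [← hC, Matrix.map_apply]
    exact h7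
  have hTu : ∀ i j, T i j = u (i, j) := by
    intro i j
    rw [hT, upper_apply]
    split_ifs with hij
    · rfl
    · have h8 := heq i j
      rw [upper_apply, upper_apply, fold_apply, if_neg hij, if_neg hij, if_neg hij,
        if_pos (le_of_not_ge hij)] at h8
      simpa using h8.symm
  have hTS : S * B = T := by
    rw [hB, ← Matrix.mul_assoc, Matrix.mul_nonsing_inv _ ha, Matrix.one_mul]
  refine ⟨1 + B, fun i j => ?_, fun v => ?_⟩
  · rw [Matrix.add_apply, add_sub_cancel_left, hB, Matrix.mul_apply]
    refine Ideal.sum_mem _ fun k _ => Ideal.mul_mem_left _ _ ?_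
    rw [hTu]
    simpa using hu1 (k, j)
  · have h9 : upper a + T + fold (Bᵀ * upper a * B) = upper a' := by
      ext i j
      rw [Matrix.add_apply, Matrix.add_apply, hTu]
      linear_combination heq i j
    rw [quadEval_one_add, ← hS, hTS, Matrix.add_mulVec, dotProduct_add, ← dotProduct_fold
      (Bᵀ * upper a * B), ← dotProduct_add, ← Matrix.add_mulVec, h9, quadEval_eq]

end Groth.Agent.Vancyc.H690.QuadIsom
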