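import Groth.Agent.Vancyc.H690.HensPres
import Groth.Agent.S0527
import Mathlib.RingTheory.MvPolynomial.Ideal

/-!
# Truncations of `A{x}`
-/

set_option autoImplicit false
universe u v

namespace Groth.Agent.Vancyc.H690.Trunc

open IsLocalRing Groth.Agent.Vancyc.H690.HensFree MvPolynomial

/-- A ring with a nilpotent maximal ideal is henselian local. -/
theorem henselianLocalRing_of_nilpotent {T : Type u} [CommRing T] (m : Ideal T) [hm : m.IsMaximal]
    (r : ℕ) (hr : m ^ r = ⊥) : HenselianLocalRing T := by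
  have hloc : IsLocalRing T := by
    refine IsLocalRing.of_unique_max_ideal ⟨m, hm, fun m' hm' => ?_⟩
    have h1 : m ^ r ≤ m' := hr ▸ bot_le
    exact (hm.eq_of_le hm'.ne_top (hm'.isPrime.le_of_pow_le h1)).symm
  have hm' : maximalIdeal T = m := (IsLocalRing.eq_maximalIdeal hm).symm
  have h5 : HenselianRing T (maximalIdeal T) := Groth.Agent.S0527.result T _ fun x hx => by
    rw [hm'] at hx
    refine ⟨r, ?_⟩
    have := Ideal.pow_mem_pow hx r
    rwa [hr, Ideal.mem_bot] at this
  exact ⟨fun f hf a₀ h6 h7 ↦ h5.is_henselian f hf a₀ h6 (h7.map _)⟩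

section Field

variable (k : Type u) [Field k] (ι : Type)

/-- The truncated polynomial ring. -/
abbrev Tr (r : ℕ) : Type u := MvPolynomial ι k ⧸ (idealOfVars ι k) ^ r

theorem mem_idealOfVars_iff (p : MvPolynomial ι k) :
    p ∈ idealOfVars ι k ↔ constantCoeff p = 0 := by
  have h := mem_pow_idealOfVars_iff' (R := k) (σ := ι) 1 p
  rw [pow_one] at h
  rw [h, constantCoeff_eq]
  constructor
  · intro h1
    exact h1 0 (by simp)
  · intro h1 x hx
    have : x = 0 := by
      rw [Nat.lt_one_iff] at hx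
      exact (Finsupp.degree_eq_zero_iff x).mp hx
    rw [this, h1]

/-- The maximal ideal of the truncated polynomial ring. -/
theorem isMaximal_map (r : ℕ) (hr : r ≠ 0) :
    ((idealOfVars ι k).map (Ideal.Quotient.mk ((idealOfVars ι k) ^ r))).IsMaximal := by
  have h1 : idealOfVars ι k = RingHom.ker (constantCoeff (σ := ι) (R := k)) := by
    ext p
    rw [mem_idealOfVars_iff, RingHom.mem_ker]
  have h2 : (idealOfVars ι k).IsMaximal := by
    rw [h1]
    exact RingHom.ker_isMaximal_of_surjective _ fun a => ⟨C a, constantCoeff_C _ _⟩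
  refine Ideal.IsMaximal.map_of_surjective_of_ker_le Ideal.Quotient.mk_surjective ?_
  rw [Ideal.mk_ker]
  exact Ideal.pow_le_self hr

theorem henselianLocalRing_tr (r : ℕ) (hr : r ≠ 0) : HenselianLocalRing (Tr k ι r) := by
  have := isMaximal_map k ι r hr
  refine henselianLocalRing_of_nilpotent
    ((idealOfVars ι k).map (Ideal.Quotient.mk ((idealOfVars ι k) ^ r))) r ?_
  rw [← Ideal.map_pow, Ideal.map_quotient_self]

theorem maximalIdeal_tr (r : ℕ) (hr : r ≠ 0) [IsLocalRing (Tr k ι r)] :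
    maximalIdeal (Tr k ι r) = (idealOfVars ι k).map (Ideal.Quotient.mk ((idealOfVars ι k) ^ r)) := by
  have := isMaximal_map k ι r hr
  exact (IsLocalRing.eq_maximalIdeal this).symm

end Field

section Main

variable {A R : Type u} [CommRing A] [IsLocalRing A] [CommRing R] [Algebra A R] {ι : Type}
  {x : ι → R}

/-- The truncation map of `A{x}`. -/
theorem exists_trunc [IsLocalRing R] (h : IsHensFree A R x) (r : ℕ) :
    ∃ τ : R →ₐ[A] Tr (ResidueField A) ι r,
      (∀ p : MvPolynomial ι A, τ (aeval x p) = Ideal.Quotient.mk _ (map (residue A) p)) ∧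
      RingHom.ker τ = (maximalIdeal A).map (algebraMap A R) ⊔ maximalIdeal R ^ r := by
  set k := ResidueField A with hk
  have h1 := h.henselian
  have h2 := h.isLocalHom
  rcases Nat.eq_zero_or_pos r with rfl | hr
  · have hsub : Subsingleton (Tr k ι 0) := by
      refine Ideal.Quotient.subsingleton_iff.mpr ?_
      rw [pow_zero, Ideal.one_eq_top]
    refine ⟨{ toFun := fun _ => 0, map_one' := Subsingleton.elim _ _,
              map_mul' := fun _ _ => Subsingleton.elim _ _, map_zero' := Subsingleton.elim _ _,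
              map_add' := fun _ _ => Subsingleton.elim _ _,
              commutes' := fun _ => Subsingleton.elim _ _ }, fun p => Subsingleton.elim _ _, ?_⟩
    have h0 : maximalIdeal R ^ 0 = ⊤ := by rw [pow_zero, Ideal.one_eq_top]
    rw [h0, sup_top_eq, Ideal.eq_top_iff_one, RingHom.mem_ker]
    exact Subsingleton.elim _ _
  have hr' : r ≠ 0 := hr.ne'
  have h3 := henselianLocalRing_tr k ι r hr'
  have h4 : IsLocalHom (algebraMap A k) := inferInstanceAs (IsLocalHom (residue A))
  have h5 : IsLocalHom (algebraMap A (Tr k ι r)) := by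
    rw [IsScalarTower.algebraMap_eq A k (Tr k ι r)]
    exact RingHom.isLocalHom_comp _ _
  have hX : ∀ i, (Ideal.Quotient.mk ((idealOfVars ι k) ^ r) (X i)) ∈ maximalIdeal (Tr k ι r) := by
    intro i
    rw [maximalIdeal_tr k ι r hr']
    exact Ideal.mem_map_of_mem _ (Ideal.subset_span ⟨i, rfl⟩)
  let τ : R →ₐ[A] Tr k ι r := h.lift _ hX
  have hτx : ∀ i, τ (x i) = Ideal.Quotient.mk ((idealOfVars ι k) ^ r) (X i) := fun i =>
    h.lift_apply _ _ _
  have hτp : ∀ p : MvPolynomial ι A, τ (aeval x p) = Ideal.Quotient.mk _ (map (residue A) p) := by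
    intro p
    have h6 : τ.comp (aeval x) = (Ideal.Quotient.mkₐ A ((idealOfVars ι k) ^ r)).comp
        (mapAlgHom (σ := ι) (Algebra.ofId A k)) := by
      ext i
      simp [hτx]
    have h7 := congr($h6 p)
    exact h7
  set J : Ideal R := (maximalIdeal A).map (algebraMap A R) ⊔ maximalIdeal R ^ r with hJ
  have hJle : J ≤ RingHom.ker τ := by
    refine sup_le ?_ ?_
    · rw [Ideal.map_le_iff_le_comap]
      intro a ha
      rw [Ideal.mem_comap, RingHom.mem_ker, AlgHom.commutes, IsScalarTower.algebraMap_apply A k]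
      have h8 : algebraMap A k a = 0 := (residue_eq_zero_iff a).mpr ha
      rw [h8, map_zero]
    · intro z hz
      have h8 := h.map_maximalIdeal_le τ fun i => by rw [hτx]; exact hX i
      have h9 := Ideal.mem_map_of_mem (τ : R →+* Tr k ι r) hz
      rw [Ideal.map_pow] at h9
      have h10 := Ideal.pow_right_mono h8 r h9
      rw [maximalIdeal_tr k ι r hr', ← Ideal.map_pow, Ideal.map_quotient_self, Ideal.mem_bot] at h10
      exact h10
  have hJm : J ≤ maximalIdeal R := by
    refine sup_le ?_ (Ideal.pow_le_self hr')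
    exact ((local_hom_TFAE (algebraMap A R)).out 0 2 rfl rfl).mp inferInstance
  have h11 : HenselianLocalRing (R ⧸ J) := henselianLocalRing_quotient J hJm
  have h12 : IsLocalHom (Ideal.Quotient.mk J) :=
    IsLocalHom.of_surjective _ Ideal.Quotient.mk_surjective
  have h13 : IsLocalHom (algebraMap A (R ⧸ J)) :=
    RingHom.isLocalHom_comp (Ideal.Quotient.mk J) (algebraMap A R)
  -- the map back
  let ρ₀ : k →ₐ[A] R ⧸ J := Ideal.Quotient.liftₐ (maximalIdeal A)
    (Algebra.ofId A (R ⧸ J)) (by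
      intro a ha
      rw [Algebra.ofId_apply]
      change Ideal.Quotient.mk J (algebraMap A R a) = 0
      rw [Ideal.Quotient.eq_zero_iff_mem]
      exact (le_sup_left : _ ≤ J) (Ideal.mem_map_of_mem _ ha))
  let ρ₁ : MvPolynomial ι k →+* R ⧸ J := eval₂Hom (ρ₀ : k →+* R ⧸ J)
    (fun i => Ideal.Quotient.mk J (x i))
  have hρ₁X : ∀ i, ρ₁ (X i) = Ideal.Quotient.mk J (x i) := fun i => eval₂Hom_X' _ _ _
  have hρ₁ : ∀ p ∈ (idealOfVars ι k) ^ r, ρ₁ p = 0 := by
    intro p hp
    have h14 : (idealOfVars ι k).map ρ₁ ≤ (maximalIdeal R).map (Ideal.Quotient.mk J) := by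
      rw [idealOfVars, Ideal.map_span, Ideal.span_le]
      rintro _ ⟨_, ⟨i, rfl⟩, rfl⟩
      rw [SetLike.mem_coe, hρ₁X]
      exact Ideal.mem_map_of_mem _ (h.mem_maximalIdeal i)
    have h15 := Ideal.mem_map_of_mem ρ₁ hp
    rw [Ideal.map_pow] at h15
    have h16 := Ideal.pow_right_mono h14 r h15
    rw [← Ideal.map_pow] at h16
    have h17 : (maximalIdeal R ^ r).map (Ideal.Quotient.mk J) = ⊥ :=
      Ideal.map_mk_eq_bot_of_le le_sup_right
    rwa [h17, Ideal.mem_bot] at h16
  let ρ : Tr k ι r →+* R ⧸ J := Ideal.Quotient.lift _ ρ₁ hρ₁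
  let ρA : Tr k ι r →ₐ[A] R ⧸ J :=
    { toRingHom := ρ
      commutes' := fun a => by
        change ρ₁ (C (residue A a)) = _
        rw [eval₂Hom_C]
        exact ρ₀.commutes a }
  have h18 : ρA.comp τ = Ideal.Quotient.mkₐ A J := by
    refine h.hom_ext (fun i => ?_) fun i => ?_
    · rw [AlgHom.comp_apply, hτx]
      change ρ₁ (X i) ∈ _
      rw [hρ₁X, IsLocalRing.mem_maximalIdeal, mem_nonunits_iff, isUnit_map_iff]
      exact h.not_isUnit i
    · rw [AlgHom.comp_apply, hτx]
      exact hρ₁X i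
  refine ⟨τ, hτp, le_antisymm (fun z hz => ?_) hJle⟩
  have h19 := congr($h18 z)
  rw [AlgHom.comp_apply, RingHom.mem_ker.mp hz, map_zero] at h19
  exact Ideal.Quotient.eq_zero_iff_mem.mp h19.symm

/-- Membership of polynomials in `𝔪_A R + 𝔪_R ^ r`. -/
theorem aeval_mem_iff [IsLocalRing R] (h : IsHensFree A R x) (r : ℕ) (p : MvPolynomial ι A) :
    aeval x p ∈ (maximalIdeal A).map (algebraMap A R) ⊔ maximalIdeal R ^ r ↔
      map (residue A) p ∈ idealOfVars ι (ResidueField A) ^ r := by
  obtain ⟨τ, hτ, hker⟩ := exists_trunc h r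
  rw [← hker, RingHom.mem_ker, hτ, Ideal.Quotient.eq_zero_iff_mem]

/-- Every element of `A{x}` is a polynomial modulo `𝔪_A R + 𝔪_R ^ r`. -/
theorem exists_aeval_sub_mem [IsLocalRing R] (h : IsHensFree A R x) (r : ℕ) (z : R) :
    ∃ p : MvPolynomial ι A,
      z - aeval x p ∈ (maximalIdeal A).map (algebraMap A R) ⊔ maximalIdeal R ^ r := by
  obtain ⟨τ, hτ, hker⟩ := exists_trunc h r
  obtain ⟨q, hq⟩ := Ideal.Quotient.mk_surjective (τ z)
  obtain ⟨p, hp⟩ := map_surjective (σ := ι) (residue A) residue_surjective q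
  refine ⟨p, ?_⟩
  rw [← hker, RingHom.mem_ker, map_sub, hτ, hp, hq, sub_self]

end Main

end Groth.Agent.Vancyc.H690.Trunc
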