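import Groth.Agent.Vancyc.H690.Deriv
import Groth.Agent.Vancyc.H690.Trunc
import Groth.Agent.Vancyc.H690.QuadIsom

/-!
# The relative Morse lemma in `A{x}`, non-degenerate case
-/

set_option autoImplicit false
universe u v

namespace Groth.Agent.Vancyc.H690.Morse

open IsLocalRing Groth.Agent.Vancyc.H690.HensFree Groth.Agent.Vancyc.H690.InvFun
  Groth.Agent.Vancyc.H690.Deriv Groth.Agent.Vancyc.H690.Trunc Groth.Agent.Vancyc.H690.QuadIsom
  MvPolynomial Matrix

section QuadPoly

variable {A : Type u} [CommRing A] {N : ℕ}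

theorem single_add_single_inj {i j i' j' : Fin N} (h : i ≤ j) (h' : i' ≤ j')
    (e : Finsupp.single i' 1 + Finsupp.single j' 1 =
      (Finsupp.single i 1 + Finsupp.single j 1 : Fin N →₀ ℕ)) : i' = i ∧ j' = j := by
  rw [Finsupp.single_add_single_eq_single_add_single one_ne_zero one_ne_zero] at e
  rcases e with ⟨h1, h2⟩ | ⟨-, h1, h2⟩ | ⟨h1, -⟩
  · exact ⟨h1, h2⟩
  · subst h1 h2
    have := le_antisymm h h'
    exact ⟨this.symm, this⟩
  · exact absurd h1 (by norm_num)

/-- The coefficients of a quadratic form. -/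
theorem coeff_quadPoly (a : Fin N → Fin N → A) (i j : Fin N) (h : i ≤ j) :
    coeff (Finsupp.single i 1 + Finsupp.single j 1) (VanCyc.quadPoly a) = a i j := by
  classical
  have hmono : ∀ i' j' : Fin N, C (a i' j') * X i' * X j' =
      monomial (Finsupp.single i' 1 + Finsupp.single j' 1) (a i' j') := by
    intro i' j'
    rw [X, X, C_mul_monomial, monomial_mul, mul_one, mul_one]
  rw [VanCyc.quadPoly, coeff_sum, Finset.sum_eq_single i]
  · rw [coeff_sum, Finset.sum_eq_single j]
    · rw [if_pos h, hmono, coeff_monomial, if_pos rfl]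
    · intro j' _ hj'
      split_ifs with h'
      · rw [hmono, coeff_monomial, if_neg]
        intro e
        exact hj' (single_add_single_inj h h' e).2
      · exact coeff_zero _
    · intro h1
      exact absurd (Finset.mem_univ _) h1
  · intro i' _ hi'
    rw [coeff_sum]
    refine Finset.sum_eq_zero fun j' _ => ?_
    split_ifs with h'
    · rw [hmono, coeff_monomial, if_neg]
      intro e
      exact hi' (single_add_single_inj h h' e).1
    · exact coeff_zero _
  · intro h1
    exact absurd (Finset.mem_univ _) h1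

theorem aeval_quadPoly {R : Type u} [CommRing R] [Algebra A R] (a : Fin N → Fin N → A)
    (v : Fin N → R) : aeval v (VanCyc.quadPoly a) =
      VanCyc.quadEval (fun i j => algebraMap A R (a i j)) v := by
  rw [VanCyc.quadPoly, VanCyc.quadEval, map_sum]
  refine Finset.sum_congr rfl fun i _ => ?_
  rw [map_sum]
  refine Finset.sum_congr rfl fun j _ => ?_
  split_ifs
  · rw [map_mul, map_mul, aeval_X, aeval_X, algHom_C]
  · rw [map_zero]

theorem degree_single_add_single (i j : Fin N) :
    Finsupp.degree (Finsupp.single i 1 + Finsupp.single j 1 : Fin N →₀ ℕ) = 2 := by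
  rw [map_add, Finsupp.degree_single, Finsupp.degree_single]

end QuadPoly

section Coeff

variable {A R : Type u} [CommRing A] [IsLocalRing A] [CommRing R] [IsLocalRing R] [Algebra A R]
  {N : ℕ} {x : Fin N → R}

/-- Quadratic forms in the coordinates vanishing modulo `𝔪_A R + 𝔪_R ^ 3` have all their
coefficients in the maximal ideal. -/
theorem coeff_mem_of_quadEval_mem (h : IsHensFree A R x) (s : Fin N → Fin N → R)
    (hs : VanCyc.quadEval s x ∈ (maximalIdeal A).map (algebraMap A R) ⊔ maximalIdeal R ^ 3)
    (i j : Fin N) (hij : i ≤ j) : s i j ∈ maximalIdeal R := by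
  have h1 := h.henselian
  have h2 := h.isLocalHom
  obtain ⟨π, hπx, hπ⟩ := exists_closedPoint h
  have h3 : ∀ i j, ∃ c : A, s i j - algebraMap A R c ∈ maximalIdeal R := by
    intro i j
    obtain ⟨c, hc⟩ := residue_surjective (π (s i j))
    refine ⟨c, ?_⟩
    rw [IsLocalRing.mem_maximalIdeal, mem_nonunits_iff, ← hπ, map_sub, AlgHom.commutes, sub_eq_zero]
    exact hc.symm
  choose c hc using h3
  have h4 : VanCyc.quadEval s x - aeval x (VanCyc.quadPoly c) ∈ maximalIdeal R ^ 3 := by
    rw [aeval_quadPoly, VanCyc.quadEval, VanCyc.quadEval, ← Finset.sum_sub_distrib]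
    refine Ideal.sum_mem _ fun i _ => ?_
    rw [← Finset.sum_sub_distrib]
    refine Ideal.sum_mem _ fun j _ => ?_
    split_ifs
    · have h5 : s i j * x i * x j - algebraMap A R (c i j) * x i * x j =
          (s i j - algebraMap A R (c i j)) * x i * x j := by ring
      rw [h5, pow_succ, pow_two]
      exact Ideal.mul_mem_mul (Ideal.mul_mem_mul (hc i j) (h.mem_maximalIdeal i))
        (h.mem_maximalIdeal j)
    · rw [sub_zero]
      exact Ideal.zero_mem _
  have h5 : aeval x (VanCyc.quadPoly c) ∈
      (maximalIdeal A).map (algebraMap A R) ⊔ maximalIdeal R ^ 3 := by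
    have := Ideal.sub_mem _ hs ((le_sup_right : _ ≤ (maximalIdeal A).map (algebraMap A R) ⊔
      maximalIdeal R ^ 3) h4)
    simpa using this
  rw [aeval_mem_iff h, mem_pow_idealOfVars_iff'] at h5
  have h6 := h5 (Finsupp.single i 1 + Finsupp.single j 1) (by
    rw [degree_single_add_single]; norm_num)
  rw [coeff_map, coeff_quadPoly _ _ _ hij, residue_eq_zero_iff] at h6
  have h7 : algebraMap A R (c i j) ∈ maximalIdeal R :=
    ((local_hom_TFAE (algebraMap A R)).out 0 2 rfl rfl).mp inferInstance
      (Ideal.mem_map_of_mem _ h6)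
  have h8 := Ideal.add_mem _ (hc i j) h7
  simpa using h8

end Coeff

section Critical

variable {A R : Type u} [CommRing A] [CommRing R] [Algebra A R]
  {N : ℕ} {x : Fin N → R}

theorem polarMatrix_map (a : Fin N → Fin N → A) :
    VanCyc.polarMatrix (fun i j => algebraMap A R (a i j)) =
      (algebraMap A R).mapMatrix (VanCyc.polarMatrix a) := by
  ext i j
  simp only [VanCyc.polarMatrix, RingHom.mapMatrix_apply, Matrix.map_apply, two_mul]
  split_ifs <;> simp

theorem quadNondeg_map (a : Fin N → Fin N → A) (ha : VanCyc.QuadNondeg a) :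
    VanCyc.QuadNondeg (fun i j => algebraMap A R (a i j)) := by
  rw [VanCyc.QuadNondeg, polarMatrix_map, ← RingHom.map_det]
  exact ha.map _

/-- The partial derivatives of a quadratic form with constant coefficients. -/
theorem derivation_quadEval (a : Fin N → Fin N → A) (D : Derivation A R R) (k : Fin N)
    (hD : ∀ i, D (x i) = if i = k then 1 else 0) :
    D (VanCyc.quadEval (fun i j => algebraMap A R (a i j)) x) =
      (VanCyc.polarMatrix (fun i j => algebraMap A R (a i j)) *ᵥ x) k := by
  rw [polarMatrix_eq, Matrix.add_mulVec, Pi.add_apply, Matrix.mulVec, Matrix.mulVec, dotProduct,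
    dotProduct, VanCyc.quadEval, map_sum]
  have h1 : ∀ i j, D (if i ≤ j then algebraMap A R (a i j) * x i * x j else 0) =
      (if i = k then upper (fun i j => algebraMap A R (a i j)) i j * x j else 0) +
      (if j = k then upper (fun i j => algebraMap A R (a i j)) i j * x i else 0) := by
    intro i j
    rw [upper_apply]
    split_ifs with h1 h2 h3 h3
    all_goals simp [Derivation.leibniz, *]
    all_goals ring
  simp only [map_sum, h1, Finset.sum_add_distrib]
  congr 1
  · rw [Finset.sum_eq_single k]
    · simp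
    · intro b _ hb
      simp [hb]
    · intro h; exact absurd (Finset.mem_univ _) h
  · refine Finset.sum_congr rfl fun i _ => ?_
    rw [Finset.sum_eq_single k]
    · simp
    · intro b _ hb
      simp [hb]
    · intro h; exact absurd (Finset.mem_univ _) h

end Critical

section Main

variable {A R : Type u} [CommRing A] [HenselianLocalRing A] [CommRing R] [IsLocalRing R]
  [Algebra A R] {N : ℕ} {x : Fin N → R}

/-- Existence of the critical section: after a translation by a point of `𝔪_A ^ N`, the function
`F` has no linear term. -/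
theorem exists_critical (h : IsHensFree A R x) (a : Fin N → Fin N → A) (ha : VanCyc.QuadNondeg a)
    (F : R) (hF : F - VanCyc.quadEval (fun i j => algebraMap A R (a i j)) x ∈
      (maximalIdeal A).map (algebraMap A R) ⊔ maximalIdeal R ^ 3) :
    ∃ (c : Fin N → A) (F₀ : A) (s : Fin N → Fin N → R), (∀ i, c i ∈ maximalIdeal A) ∧
      F₀ ∈ maximalIdeal A ∧
      F = algebraMap A R F₀ + VanCyc.quadEval s (fun i => x i - algebraMap A R (c i)) := by
  classical
  have h1 := h.henselian
  have h2 := h.isLocalHom
  have hA : (maximalIdeal A).map (algebraMap A R) ≤ maximalIdeal R :=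
    ((local_hom_TFAE (algebraMap A R)).out 0 2 rfl rfl).mp inferInstance
  have hD' : ∀ k : Fin N, ∃ D : Derivation A R R, ∀ i, D (x i) = if i = k then 1 else 0 :=
    fun k => exists_derivation h _
  choose D hD using hD'
  set â : Fin N → Fin N → R := fun i j => algebraMap A R (a i j) with hâ
  set S := VanCyc.polarMatrix â with hS
  have hSu : IsUnit S.det := quadNondeg_map a ha
  let G : Fin N → R := fun k => D k F
  have hG1 : ∀ k, G k - (S *ᵥ x) k ∈ (maximalIdeal A).map (algebraMap A R) ⊔ maximalIdeal R ^ 2 := by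
    intro k
    have h3 : G k - (S *ᵥ x) k = D k (F - VanCyc.quadEval â x) := by
      rw [map_sub, hâ, derivation_quadEval a (D k) k (hD k)]
    rw [h3]
    obtain ⟨r, hr, t, ht, hrt⟩ := Submodule.mem_sup.mp hF
    rw [← hrt, map_add]
    exact Submodule.add_mem_sup (derivation_map_mem (D k) _ r hr)
      (derivation_pow_mem (D k) _ 2 t ht)
  have hle : (maximalIdeal A).map (algebraMap A R) ⊔ maximalIdeal R ^ 2 ≤ spanIdeal A G :=
    sup_le (le_sup_left.trans le_sup_left) le_sup_right
  have hSx : ∀ k, (S *ᵥ x) k ∈ spanIdeal A G := by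
    intro k
    have h4 : G k ∈ spanIdeal A G :=
      (le_sup_right.trans le_sup_left : _ ≤ spanIdeal A G) (Ideal.subset_span ⟨k, rfl⟩)
    have h5 := Ideal.sub_mem _ h4 (hle (hG1 k))
    simpa using h5
  have hxG : ∀ i, x i ∈ spanIdeal A G := by
    intro i
    have h6 : x = S⁻¹ *ᵥ (S *ᵥ x) := by
      rw [Matrix.mulVec_mulVec, Matrix.nonsing_inv_mul _ hSu, Matrix.one_mulVec]
    rw [h6, Matrix.mulVec, dotProduct]
    exact Ideal.sum_mem _ fun k _ => Ideal.mul_mem_left _ _ (hSx k)
  have hGu : ∀ k, ¬ IsUnit (G k) := by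
    intro k
    have h7 : (S *ᵥ x) k ∈ maximalIdeal R := by
      rw [Matrix.mulVec, dotProduct]
      exact Ideal.sum_mem _ fun k _ => Ideal.mul_mem_left _ _ (h.mem_maximalIdeal k)
    have h8 := Ideal.add_mem _ (sup_le hA (Ideal.pow_le_self two_ne_zero) (hG1 k)) h7
    have h9 : G k ∈ maximalIdeal R := by simpa using h8
    exact h9
  have hGfree : IsHensFree A R G := isHensFree_of_generate h G hxG hGu
  have hidA : IsLocalHom (algebraMap A A) := ⟨fun a ha => ha⟩
  let ε : R →ₐ[A] A := hGfree.lift (fun _ => 0) fun _ => Ideal.zero_mem _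
  have hε : ∀ k, ε (G k) = 0 := fun k => hGfree.lift_apply _ _ _
  have hεloc : IsLocalHom (ε : R →+* A) := hGfree.isLocalHom_of_mem ε fun k => by
    rw [hε]; exact Ideal.zero_mem _
  have hεm : ∀ r, r ∈ maximalIdeal R → ε r ∈ maximalIdeal A := by
    intro r hr hu
    exact hr ((isUnit_map_iff (ε : R →+* A) r).mp hu)
  let c : Fin N → A := fun i => ε (x i)
  have hc : ∀ i, c i ∈ maximalIdeal A := fun i => hεm _ (h.mem_maximalIdeal i)
  have hcR : ∀ i, algebraMap A R (c i) ∈ (maximalIdeal A).map (algebraMap A R) := fun i =>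
    Ideal.mem_map_of_mem _ (hc i)
  let y : Fin N → R := fun i => x i - algebraMap A R (c i)
  have hyx : ∀ i, x i ∈ spanIdeal A y := by
    intro i
    have h10 : y i ∈ spanIdeal A y :=
      (le_sup_right.trans le_sup_left : _ ≤ spanIdeal A y) (Ideal.subset_span ⟨i, rfl⟩)
    have h11 : algebraMap A R (c i) ∈ spanIdeal A y :=
      (le_sup_left.trans le_sup_left : _ ≤ spanIdeal A y) (hcR i)
    have := Ideal.add_mem _ h10 h11
    simpa [y] using this
  have hyu : ∀ i, ¬ IsUnit (y i) := by
    intro i
    exact Ideal.sub_mem _ (h.mem_maximalIdeal i) (hA (hcR i))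
  have hyfree : IsHensFree A R y := isHensFree_of_generate h y hyx hyu
  have hεy : ∀ i, ε (y i) = 0 := by
    intro i
    rw [map_sub, AlgHom.commutes]
    exact sub_self _
  have hker : RingHom.ker ε = Ideal.span (Set.range y) := by
    refine hyfree.ker_eq_of_section ε (Algebra.ofId A R) _ ?_ ?_ ?_
    · rw [Ideal.span_le]
      rintro _ ⟨i, rfl⟩
      exact hεy i
    · rw [Ideal.span_le]
      rintro _ ⟨i, rfl⟩
      exact hyu i
    · intro i
      rw [hεy, map_zero, sub_zero]
      exact Ideal.subset_span ⟨i, rfl⟩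
  have hspan : ∀ r, ε r = 0 → ∃ t : Fin N → R, ∑ i, t i * y i = r := by
    intro r hr
    have h12 : r ∈ Ideal.span (Set.range y) := by
      rw [← hker]
      exact hr
    exact Ideal.mem_span_range_iff_exists_fun.mp h12
  obtain ⟨r, hr⟩ := hspan (F - algebraMap A R (ε F)) (by
    rw [map_sub, AlgHom.commutes]
    exact sub_self _)
  have hDy : ∀ k i, D k (y i) = if i = k then 1 else 0 := by
    intro k i
    rw [map_sub, Derivation.map_algebraMap, sub_zero, hD]
  have hrε : ∀ k, ε (r k) = 0 := by
    intro k
    have h13 : G k = r k + ∑ i, y i * D k (r i) := by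
      have h14 := congr(D k $hr)
      rw [map_sub, Derivation.map_algebraMap, sub_zero, map_sum] at h14
      change D k F = _
      rw [← h14]
      have h15 : ∀ i, D k (r i * y i) = (if i = k then r i else 0) + y i * D k (r i) := by
        intro i
        rw [Derivation.leibniz, hDy, smul_eq_mul, smul_eq_mul, mul_ite, mul_one, mul_zero]
      rw [Finset.sum_congr rfl fun i _ => h15 i, Finset.sum_add_distrib]
      simp
    have h16 := congr(ε $h13)
    rw [hε, map_add, map_sum, Finset.sum_eq_zero, add_zero] at h16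
    · exact h16.symm
    · intro i _
      rw [map_mul, hεy, zero_mul]
  have ht' : ∀ k, ∃ t : Fin N → R, ∑ i, t i * y i = r k := fun k => hspan (r k) (hrε k)
  choose t ht using ht'
  refine ⟨c, ε F, fold (Matrix.of t), hc, hεm F ?_, ?_⟩
  · have h17 : VanCyc.quadEval â x ∈ maximalIdeal R := by
      rw [VanCyc.quadEval]
      refine Ideal.sum_mem _ fun i _ => Ideal.sum_mem _ fun j _ => ?_
      split_ifs
      · exact Ideal.mul_mem_left _ _ (h.mem_maximalIdeal j)
      · exact Ideal.zero_mem _
    have h18 := Ideal.add_mem _ (sup_le hA (Ideal.pow_le_self three_ne_zero) hF) h17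
    simpa using h18
  · have h19 : upper (fold (Matrix.of t)) = fold (Matrix.of t) := by
      ext i j
      rw [upper_apply]
      split_ifs with hij
      · rfl
      · rw [fold_apply, if_neg hij, if_pos (le_of_not_ge hij), add_zero]
    rw [quadEval_eq, h19, dotProduct_fold]
    have h20 : ∑ i, r i * y i = y ⬝ᵥ (Matrix.of t *ᵥ y) := by
      rw [dotProduct]
      refine Finset.sum_congr rfl fun i _ => ?_
      rw [← ht, mul_comm]
      rfl
    rw [hr] at h20
    change F = algebraMap A R (ε F) + y ⬝ᵥ (Matrix.of t *ᵥ y)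
    rw [← h20]
    ring

/-- The relative Morse lemma in `A{x}`: a function whose restriction to the closed fibre has a
non-degenerate quadratic part is, in suitable coordinates, a non-degenerate quadratic form plus a
constant. -/
theorem exists_morse (h : IsHensFree A R x) (a : Fin N → Fin N → A) (ha : VanCyc.QuadNondeg a)
    (F : R) (hF : F - VanCyc.quadEval (fun i j => algebraMap A R (a i j)) x ∈
      (maximalIdeal A).map (algebraMap A R) ⊔ maximalIdeal R ^ 3) :
    ∃ (z : Fin N → R) (b : A), IsHensFree A R z ∧ b ∈ maximalIdeal A ∧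
      F = VanCyc.quadEval (fun i j => algebraMap A R (a i j)) z - algebraMap A R b := by
  have h1 := h.henselian
  have h2 := h.isLocalHom
  have hA : (maximalIdeal A).map (algebraMap A R) ≤ maximalIdeal R :=
    ((local_hom_TFAE (algebraMap A R)).out 0 2 rfl rfl).mp inferInstance
  obtain ⟨c, F₀, s, hc, hF₀, hFs⟩ := exists_critical h a ha F hF
  set â : Fin N → Fin N → R := fun i j => algebraMap A R (a i j) with hâ
  set y : Fin N → R := fun i => x i - algebraMap A R (c i) with hy
  have hcR : ∀ i, algebraMap A R (c i) ∈ (maximalIdeal A).map (algebraMap A R) := fun i =>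
    Ideal.mem_map_of_mem _ (hc i)
  have hcm : ∀ i, algebraMap A R (c i) ∈ maximalIdeal R := fun i => hA (hcR i)
  have hym : ∀ i, y i ∈ maximalIdeal R := fun i =>
    Ideal.sub_mem _ (h.mem_maximalIdeal i) (hcm i)
  -- comparison of the tables
  have hquad : ∀ (t : Fin N → Fin N → R), VanCyc.quadEval t x - VanCyc.quadEval t y ∈
      (maximalIdeal A).map (algebraMap A R) := by
    intro t
    rw [VanCyc.quadEval, VanCyc.quadEval, ← Finset.sum_sub_distrib]
    refine Ideal.sum_mem _ fun i _ => ?_
    rw [← Finset.sum_sub_distrib]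
    refine Ideal.sum_mem _ fun j _ => ?_
    split_ifs
    · have h3 : t i j * x i * x j - t i j * y i * y j =
          (t i j * y j) * algebraMap A R (c i) + (t i j * x i) * algebraMap A R (c j) := by
        simp only [hy]
        ring
      rw [h3]
      exact Ideal.add_mem _ (Ideal.mul_mem_left _ _ (hcR i)) (Ideal.mul_mem_left _ _ (hcR j))
    · rw [sub_zero]
      exact Ideal.zero_mem _
  have hsub : ∀ i j, i ≤ j → â i j - s i j ∈ maximalIdeal R := by
    intro i j hij
    have h4 : VanCyc.quadEval (fun i j => â i j - s i j) x ∈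
        (maximalIdeal A).map (algebraMap A R) ⊔ maximalIdeal R ^ 3 := by
      have h5 : VanCyc.quadEval (fun i j => â i j - s i j) x =
          -(F - VanCyc.quadEval â x) + algebraMap A R F₀ -
            (VanCyc.quadEval s x - VanCyc.quadEval s y) := by
        have h6 : VanCyc.quadEval (fun i j => â i j - s i j) x =
            VanCyc.quadEval â x - VanCyc.quadEval s x := by
          rw [VanCyc.quadEval, VanCyc.quadEval, VanCyc.quadEval, ← Finset.sum_sub_distrib]
          refine Finset.sum_congr rfl fun i _ => ?_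
          rw [← Finset.sum_sub_distrib]
          refine Finset.sum_congr rfl fun j _ => ?_
          split_ifs
          · ring
          · ring
        rw [h6, hFs]
        ring
      rw [h5]
      refine Ideal.sub_mem _ (Ideal.add_mem _ (Ideal.neg_mem_iff _ |>.mpr hF) ?_) ?_
      · exact (le_sup_left : _ ≤ (maximalIdeal A).map (algebraMap A R) ⊔ maximalIdeal R ^ 3)
          (Ideal.mem_map_of_mem _ hF₀)
      · exact (le_sup_left : _ ≤ (maximalIdeal A).map (algebraMap A R) ⊔ maximalIdeal R ^ 3)
          (hquad s)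
    exact coeff_mem_of_quadEval_mem h _ h4 i j hij
  obtain ⟨M, hM, hMq⟩ := exists_isometry â s (quadNondeg_map a ha) hsub
  let z : Fin N → R := M *ᵥ y
  have hzy : ∀ i, z i - y i ∈ maximalIdeal R ^ 2 := by
    intro i
    have h7 : z i - y i = ((M - 1) *ᵥ y) i := by
      rw [Matrix.sub_mulVec, Matrix.one_mulVec]
      rfl
    rw [h7, Matrix.mulVec, dotProduct, pow_two]
    refine Ideal.sum_mem _ fun j _ => Ideal.mul_mem_mul ?_ (hym j)
    rw [Matrix.sub_apply]
    exact hM i j
  have hzx : ∀ i, x i ∈ spanIdeal A z := by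
    intro i
    have h8 : x i = z i - (z i - y i) + algebraMap A R (c i) := by
      simp only [hy]
      ring
    rw [h8]
    refine Ideal.add_mem _ (Ideal.sub_mem _ ?_ ?_) ?_
    · exact (le_sup_right.trans le_sup_left : _ ≤ spanIdeal A z) (Ideal.subset_span ⟨i, rfl⟩)
    · exact (le_sup_right : _ ≤ spanIdeal A z) (hzy i)
    · exact (le_sup_left.trans le_sup_left : _ ≤ spanIdeal A z) (hcR i)
  have hzu : ∀ i, ¬ IsUnit (z i) := by
    intro i
    have h9 := Ideal.add_mem _ (Ideal.pow_le_self two_ne_zero (hzy i)) (hym i)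
    have h10 : z i ∈ maximalIdeal R := by simpa using h9
    exact h10
  refine ⟨z, -F₀, isHensFree_of_generate h z hzx hzu, Ideal.neg_mem_iff _ |>.mpr hF₀, ?_⟩
  rw [hMq, map_neg, hFs]
  ring

end Main

end Groth.Agent.Vancyc.H690.Morse
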