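import Groth.Agent.Vancyc.H690.Equation2
import Groth.Agent.Vancyc.H690.Morse

/-!
# Deformations of non-degenerate quadratic singularities: assembly
-/

set_option autoImplicit false
universe u v

namespace Groth.Agent.Vancyc.H690.Model

open IsLocalRing VanCyc TensorProduct Groth.Agent.Vancyc.H690.HensFree
  Groth.Agent.Vancyc.H690.HensPres Groth.Agent.Vancyc.H690.FinPres
  Groth.Agent.Vancyc.H690.Transfer Groth.Agent.Vancyc.H690.Equation

/-- The henselization at a rational point of a finitely presented algebra. -/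
theorem exists_presentation (A : Type u) [CommRing A] [HenselianLocalRing A]
    (B₀ : Type u) [CommRing B₀] [Algebra A B₀] [Algebra.FinitePresentation A B₀]
    (P : Ideal B₀) [P.IsPrime] (hP : (maximalIdeal A).map (algebraMap A B₀) ≤ P)
    (hc : ∀ b : B₀, ∃ c : A, b - algebraMap A B₀ c ∈ P)
    (Bh : Type u) [CommRing Bh] [IsLocalRing Bh] [Algebra (Localization.AtPrime P) Bh]
    [IsLocalHom (algebraMap (Localization.AtPrime P) Bh)]
    [Hensel.IsHenselization (Localization.AtPrime P) Bh]
    [Algebra A Bh] [IsScalarTower A (Localization.AtPrime P) Bh] :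
    ∃ (m : ℕ) (R₀ : Type u) (_ : CommRing R₀) (_ : Algebra A R₀) (Y : Fin m → R₀)
      (π₀ : R₀ →ₐ[A] Bh), IsHensFree A R₀ Y ∧ Function.Surjective π₀ ∧ (RingHom.ker π₀).FG := by
  have hft : Algebra.FiniteType A B₀ := inferInstance
  obtain ⟨m, f, hf⟩ := Algebra.FiniteType.iff_quotient_mvPolynomial''.mp hft
  choose c hc' using fun i => hc (f (MvPolynomial.X i))
  let y : Fin m → B₀ := fun i => f (MvPolynomial.X i) - algebraMap A B₀ (c i)
  have hy : Function.Surjective (MvPolynomial.aeval (R := A) y) := by
    have h1 : (MvPolynomial.aeval (R := A) y).comp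
        (MvPolynomial.aeval fun i => MvPolynomial.X i + MvPolynomial.C (c i)) = f := by
      ext i
      rw [AlgHom.comp_apply, MvPolynomial.aeval_X, map_add, MvPolynomial.aeval_X,
        MvPolynomial.algHom_C]
      exact sub_add_cancel _ _
    intro b
    obtain ⟨p, rfl⟩ := hf b
    exact ⟨_, congr($h1 p)⟩
  have hfg : (RingHom.ker (MvPolynomial.aeval (R := A) y)).FG :=
    Algebra.FinitePresentation.ker_fG_of_surjective _ hy
  have hpres := isHensPres_of_isHenselization (A := A) y hy P hP hc' Bh
  obtain ⟨R₀, _, _, Y, h₀⟩ := exists_isHensFree A (Fin m)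
  obtain ⟨π₀, hπ₀, -, hker⟩ := exists_surjective_ker_eq h₀ hpres
  refine ⟨m, R₀, inferInstance, inferInstance, Y, π₀, h₀, hπ₀, ?_⟩
  rw [hker]
  exact hfg.map _

/-- The henselization of the model. -/
theorem exists_model (A : Type u) [CommRing A] [IsLocalRing A] {N : ℕ}
    (a : Fin N → Fin N → A) (b : A) [(originQuot A a b).IsPrime]
    (C : Type u) [CommRing C] [IsLocalRing C]
    [Algebra (Localization.AtPrime (originQuot A a b)) C]
    [IsLocalHom (algebraMap (Localization.AtPrime (originQuot A a b)) C)]
    [Hensel.IsHenselization (Localization.AtPrime (originQuot A a b)) C]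
    [Algebra A C] [IsScalarTower A (Localization.AtPrime (originQuot A a b)) C]
    {R : Type u} [CommRing R] [Algebra A R] {z : Fin N → R} (h : IsHensFree A R z) :
    ∃ π : R →ₐ[A] C, Function.Surjective π ∧
      RingHom.ker π = Ideal.span {quadEval (fun i j => algebraMap A R (a i j)) z -
        algebraMap A R b} := by
  let y : Fin N → quadRing A a b := fun i => Ideal.Quotient.mk _ (MvPolynomial.X i)
  have hmk : MvPolynomial.aeval (R := A) y =
      Ideal.Quotient.mkₐ A (Ideal.span {quadPoly a - MvPolynomial.C b}) := by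
    ext i
    rw [MvPolynomial.aeval_X]
    rfl
  have hy : Function.Surjective (MvPolynomial.aeval (R := A) y) := by
    rw [hmk]
    exact Ideal.Quotient.mkₐ_surjective A _
  have hP : (maximalIdeal A).map (algebraMap A (quadRing A a b)) ≤ originQuot A a b := by
    have h1 : algebraMap A (quadRing A a b) = (Ideal.Quotient.mk _).comp MvPolynomial.C := rfl
    rw [h1, ← Ideal.map_map]
    exact Ideal.map_mono le_sup_left
  have hyP : ∀ i, y i ∈ originQuot A a b := fun i =>
    Ideal.mem_map_of_mem _ ((le_sup_right : _ ≤ originIdeal A) (Ideal.subset_span ⟨i, rfl⟩))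
  have hpres := isHensPres_of_isHenselization (A := A) y hy (originQuot A a b) hP hyP C
  obtain ⟨π, hπ, -, hker⟩ := exists_surjective_ker_eq h hpres
  refine ⟨π, hπ, ?_⟩
  have h1 : RingHom.ker (MvPolynomial.aeval (R := A) y) =
      Ideal.span {quadPoly a - MvPolynomial.C b} := by
    rw [hmk]
    ext p
    rw [RingHom.mem_ker, Ideal.Quotient.mkₐ_eq_mk, Ideal.Quotient.eq_zero_iff_mem]
  rw [hker, h1, Ideal.map_span, Set.image_singleton]
  congr 2
  rw [map_sub, Morse.aeval_quadPoly, MvPolynomial.algHom_C]

end Groth.Agent.Vancyc.H690.Model
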