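import Groth.Agent.Vancyc.H690.InvFun
import Mathlib.RingTheory.Derivation.Basic

/-!
# Partial derivatives on `A{x}`
-/

set_option autoImplicit false
universe u v

namespace Groth.Agent.Vancyc.H690.Deriv

open IsLocalRing Groth.Agent.Vancyc.H690.HensFree Groth.Agent.Vancyc.H690.InvFun

section

variable {A R : Type u} [CommRing A] [IsLocalRing A] [CommRing R] [Algebra A R] {ι : Type v}
  {x : ι → R}

omit [IsLocalRing A] in
/-- `A`-derivations of `A{x}` with arbitrary prescribed values on `x`. -/
theorem exists_derivation (h : IsHensFree A R x) (v : ι → R) :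
    ∃ D : Derivation A R R, ∀ i, D (x i) = v i := by
  have h1 := h.henselian
  have h2 := h.isLocalHom
  have h3 : HenselianLocalRing (DualNumber R) := henselian_dual R
  have h4 : IsLocalHom (algebraMap A (DualNumber R)) := by
    refine ⟨fun a ha => ?_⟩
    rw [TrivSqZeroExt.algebraMap_eq_inl', TrivSqZeroExt.isUnit_iff_isUnit_fst,
      TrivSqZeroExt.fst_inl] at ha
    exact (isUnit_map_iff (algebraMap A R) a).mp ha
  have hmem : ∀ z : DualNumber R, z ∈ maximalIdeal (DualNumber R) ↔
      TrivSqZeroExt.fst z ∈ maximalIdeal R := by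
    intro z
    rw [IsLocalRing.mem_maximalIdeal, mem_nonunits_iff, TrivSqZeroExt.isUnit_iff_isUnit_fst]
    rfl
  let δ : R →ₐ[A] DualNumber R := h.lift
    (fun i => TrivSqZeroExt.inl (x i) + TrivSqZeroExt.inr (v i)) fun i => by
      rw [hmem, TrivSqZeroExt.fst_add, TrivSqZeroExt.fst_inl, TrivSqZeroExt.fst_inr, add_zero]
      exact h.mem_maximalIdeal i
  have hδ : ∀ i, δ (x i) = TrivSqZeroExt.inl (x i) + TrivSqZeroExt.inr (v i) := fun i =>
    h.lift_apply _ _ _
  have hfst : (TrivSqZeroExt.fstHom A R R).comp δ = AlgHom.id A R := by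
    refine h.hom_ext (fun i => ?_) fun i => ?_
    · rw [AlgHom.comp_apply, hδ]
      simpa using h.mem_maximalIdeal i
    · rw [AlgHom.comp_apply, hδ]
      simp
  have hfst' : ∀ r, TrivSqZeroExt.fst (δ r) = r := fun r => congr($hfst r)
  refine ⟨Derivation.mk' ((TrivSqZeroExt.sndHom R R).restrictScalars A ∘ₗ δ.toLinearMap)
    fun a b => ?_, fun i => ?_⟩
  · change TrivSqZeroExt.snd (δ (a * b)) = a • TrivSqZeroExt.snd (δ b) +
      b • TrivSqZeroExt.snd (δ a)
    rw [map_mul, TrivSqZeroExt.snd_mul, hfst', hfst']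
    simp only [smul_eq_mul, MulOpposite.smul_eq_mul_unop, MulOpposite.unop_op]
    ring
  · change TrivSqZeroExt.snd (δ (x i)) = _
    rw [hδ]
    simp

omit [IsLocalRing A] in
/-- A derivation maps `J` into `J` for ideals `J` extended from `A`. -/
theorem derivation_map_mem (D : Derivation A R R) (I : Ideal A) (r : R)
    (hr : r ∈ I.map (algebraMap A R)) : D r ∈ I.map (algebraMap A R) := by
  refine Submodule.span_induction ?_ ?_ ?_ ?_ hr
  · rintro _ ⟨a, ha, rfl⟩
    rw [Derivation.map_algebraMap]
    exact Ideal.zero_mem _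
  · rw [map_zero]
    exact Ideal.zero_mem _
  · intro s t _ _ hs ht
    rw [map_add]
    exact Ideal.add_mem _ hs ht
  · intro c s hs hs'
    rw [smul_eq_mul, Derivation.leibniz]
    refine Ideal.add_mem _ (Ideal.mul_mem_left _ _ hs') ?_
    rw [smul_eq_mul]
    exact Ideal.mul_mem_right _ _ hs

omit [IsLocalRing A] in
/-- A derivation maps `J ^ (n + 1)` into `J ^ n`. -/
theorem derivation_pow_mem (D : Derivation A R R) (J : Ideal R) (n : ℕ) (r : R)
    (hr : r ∈ J ^ (n + 1)) : D r ∈ J ^ n := by
  induction n generalizing r with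
  | zero =>
    rw [pow_zero, Ideal.one_eq_top]
    trivial
  | succ n ih =>
    rw [pow_succ] at hr
    refine Submodule.mul_induction_on hr ?_ ?_
    · intro s hs t ht
      rw [Derivation.leibniz, smul_eq_mul, smul_eq_mul]
      refine Ideal.add_mem _ (Ideal.mul_mem_right _ _ hs) ?_
      rw [mul_comm, pow_succ]
      exact Ideal.mul_mem_mul (ih s hs) ht
    · intro s t hs ht
      rw [map_add]
      exact Ideal.add_mem _ hs ht

end

end Groth.Agent.Vancyc.H690.Deriv
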