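import Mathlib.Algebra.DualNumber
import Groth.Agent.Vancyc.H690.QuadIsom

/-!
# The ring `K[ε][η]` in coordinates
-/

set_option autoImplicit false
universe u v

namespace Groth.Agent.Vancyc.H690.DualDual

open TrivSqZeroExt Matrix

section

variable {K : Type u} [CommRing K]

omit [CommRing K] in
/-- The four coordinates determine an element. -/
theorem ext4 {s t : DualNumber (DualNumber K)} (h1 : fst (fst s) = fst (fst t))
    (h2 : snd (fst s) = snd (fst t)) (h3 : fst (snd s) = fst (snd t))
    (h4 : snd (snd s) = snd (snd t)) : s = t :=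
  TrivSqZeroExt.ext (TrivSqZeroExt.ext h1 h2) (TrivSqZeroExt.ext h3 h4)

theorem snd_mul' (s t : DualNumber K) : snd (s * t) = fst s * snd t + snd s * fst t := rfl

theorem mul1 (s t : DualNumber (DualNumber K)) :
    fst (fst (s * t)) = fst (fst s) * fst (fst t) := rfl

theorem mul2 (s t : DualNumber (DualNumber K)) :
    snd (fst (s * t)) = fst (fst s) * snd (fst t) + snd (fst s) * fst (fst t) := rfl

theorem mul3 (s t : DualNumber (DualNumber K)) :
    fst (snd (s * t)) = fst (fst s) * fst (snd t) + fst (snd s) * fst (fst t) := by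
  rw [snd_mul', fst_add, fst_mul, fst_mul]

theorem mul4 (s t : DualNumber (DualNumber K)) :
    snd (snd (s * t)) = (fst (fst s) * snd (snd t) + snd (fst s) * fst (snd t)) +
      (fst (snd s) * snd (fst t) + snd (snd s) * fst (fst t)) := by
  rw [snd_mul', snd_add, snd_mul', snd_mul']

/-- The element with given coordinates. -/
def mk4 (a b c d : K) : DualNumber (DualNumber K) := ((a, b), (c, d))

omit [CommRing K] in
@[simp] theorem mk4_1 (a b c d : K) : fst (fst (mk4 a b c d)) = a := rfl
omit [CommRing K] in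
@[simp] theorem mk4_2 (a b c d : K) : snd (fst (mk4 a b c d)) = b := rfl
omit [CommRing K] in
@[simp] theorem mk4_3 (a b c d : K) : fst (snd (mk4 a b c d)) = c := rfl
omit [CommRing K] in
@[simp] theorem mk4_4 (a b c d : K) : snd (snd (mk4 a b c d)) = d := rfl

theorem algebraMap_eq (a : K) : algebraMap K (DualNumber (DualNumber K)) a = mk4 a 0 0 0 := rfl

theorem mk4_mul (a b c d a' b' c' d' : K) : mk4 a b c d * mk4 a' b' c' d' =
    mk4 (a * a') (a * b' + b * a') (a * c' + c * a') ((a * d' + b * c') + (c * b' + d * a')) := by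
  refine ext4 ?_ ?_ ?_ ?_
  · rw [mul1]; rfl
  · rw [mul2]; rfl
  · rw [mul3]; rfl
  · rw [mul4]; rfl

theorem mk4_add (a b c d a' b' c' d' : K) : mk4 a b c d + mk4 a' b' c' d' =
    mk4 (a + a') (b + b') (c + c') (d + d') := rfl

theorem mk4_zero : mk4 (0 : K) 0 0 0 = 0 := rfl

theorem sum_mk4 {ι : Type*} (s : Finset ι) (f : ι → K) :
    ∑ i ∈ s, mk4 0 0 0 (f i) = mk4 0 0 0 (∑ i ∈ s, f i) := by
  classical
  induction s using Finset.induction_on with
  | empty => rw [Finset.sum_empty, Finset.sum_empty, mk4_zero]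
  | insert i s hi ih =>
    rw [Finset.sum_insert hi, Finset.sum_insert hi, ih, mk4_add, add_zero]

end

section Quad

variable {K : Type u} [Field K]

/-- A quadratic form evaluated at tangent vectors over `K[ε][η]`. -/
theorem quadEval_dual {N : ℕ} (a : Fin N → Fin N → K) (c v e : Fin N → K) :
    VanCyc.quadEval (fun i j => algebraMap K (DualNumber (DualNumber K)) (a i j))
      (fun i => mk4 0 (c i) (v i) (e i)) =
      mk4 0 0 0 (v ⬝ᵥ (VanCyc.polarMatrix a *ᵥ c)) := by
  rw [Groth.Agent.Vancyc.H690.QuadIsom.polarMatrix_eq, Matrix.add_mulVec, dotProduct_add]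
  have h1 : v ⬝ᵥ ((Groth.Agent.Vancyc.H690.QuadIsom.upper a)ᵀ *ᵥ c) =
      c ⬝ᵥ (Groth.Agent.Vancyc.H690.QuadIsom.upper a *ᵥ v) := by
    rw [Matrix.mulVec_transpose, dotProduct_comm, Matrix.dotProduct_mulVec]
  rw [h1, VanCyc.quadEval, dotProduct, dotProduct, ← Finset.sum_add_distrib, ← sum_mk4]
  refine Finset.sum_congr rfl fun i _ => ?_
  rw [mulVec, mulVec, dotProduct, dotProduct, Finset.mul_sum, Finset.mul_sum,
    ← Finset.sum_add_distrib, ← sum_mk4]
  refine Finset.sum_congr rfl fun j _ => ?_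
  rw [Groth.Agent.Vancyc.H690.QuadIsom.upper_apply]
  split_ifs
  · rw [algebraMap_eq, mk4_mul, mk4_mul]
    congr 1
    · ring
    · ring
    · ring
    · ring
  · rw [zero_mul, zero_mul, mul_zero, mul_zero, add_zero, mk4_zero]

end Quad

section Proj

variable {K : Type u} [Field K]

/-- The projection `K[ε][η] → K[η]`. -/
def proj (K : Type u) [Field K] : DualNumber (DualNumber K) →ₐ[K] DualNumber K where
  toFun t := ((fst (fst t), fst (snd t)) : K × K)
  map_one' := rfl
  map_mul' s t := by
    refine TrivSqZeroExt.ext ?_ ?_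
    · exact mul1 s t
    · exact mul3 s t
  map_zero' := rfl
  map_add' s t := rfl
  commutes' r := rfl

theorem fst_proj (t : DualNumber (DualNumber K)) : fst (proj K t) = fst (fst t) := rfl

theorem snd_proj (t : DualNumber (DualNumber K)) : snd (proj K t) = fst (snd t) := rfl

/-- products of three infinitesimals vanish -/
theorem mul_eq_zero_of (s t : DualNumber (DualNumber K)) (h1 : fst (fst s) = 0)
    (h2 : snd (fst s) = 0) (h3 : fst (snd s) = 0) (h4 : fst (fst t) = 0) : s * t = 0 := by
  refine ext4 ?_ ?_ ?_ ?_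
  · rw [mul1, h1, zero_mul]; rfl
  · rw [mul2, h1, h2, zero_mul, zero_mul, add_zero]; rfl
  · rw [mul3, h1, h3, zero_mul, zero_mul, add_zero]; rfl
  · rw [mul4, h1, h2, h3, h4, zero_mul, zero_mul, zero_mul, mul_zero, add_zero, add_zero]; rfl

theorem mul_of (s t : DualNumber (DualNumber K)) (h1 : fst (fst s) = 0)
    (h2 : fst (fst t) = 0) : fst (fst (s * t)) = 0 ∧ snd (fst (s * t)) = 0 ∧
      fst (snd (s * t)) = 0 := by
  refine ⟨?_, ?_, ?_⟩
  · rw [mul1, h1, zero_mul]
  · rw [mul2, h1, h2, zero_mul, mul_zero, add_zero]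
  · rw [mul3, h1, h2, zero_mul, mul_zero, add_zero]

end Proj

end Groth.Agent.Vancyc.H690.DualDual
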