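import Mathlib.Algebra.DualNumber
import Mathlib.RingTheory.Derivation.Basic
import Mathlib.LinearAlgebra.Basis.VectorSpace
import Mathlib.RingTheory.TensorProduct.Basic

/-!
# Combining two tangent vectors, one of which factors through a field
-/

set_option autoImplicit false
universe u v

namespace Groth.Agent.Vancyc.H690.DualLift

open TrivSqZeroExt

/-- Square-zero lift of a field derivation: a connection. -/
theorem exists_connection {κ K : Type*} [Field κ] [Field K] [Algebra κ K] (δ : κ → K)
    (hadd : ∀ a b, δ (a + b) = δ a + δ b) (hmul : ∀ a b, δ (a * b) = a • δ b + b • δ a) :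
    ∃ Δ : K → K, (∀ a b, Δ (a + b) = Δ a + Δ b) ∧
      ∀ (y : κ) (a : K), Δ (algebraMap κ K y * a) = algebraMap κ K y * Δ a + δ y * a := by
  have h0 : δ 0 = 0 := by simpa using hadd 0 0
  let b := Module.Basis.ofVectorSpace κ K
  let Δ : K → K := fun a => (b.repr a).sum fun β y => δ y * b β
  have hΔadd : ∀ a c, Δ (a + c) = Δ a + Δ c := by
    intro a c
    change (b.repr (a + c)).sum _ = _
    rw [map_add, Finsupp.sum_add_index']
    · intro β
      rw [h0, zero_mul]
    · intro β y y'
      rw [hadd, add_mul]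
  refine ⟨Δ, hΔadd, fun y a => ?_⟩
  have h1 : algebraMap κ K y * a = y • a := (Algebra.smul_def y a).symm
  have h2 : a = (b.repr a).sum fun β z => z • b β := (b.linearCombination_repr a).symm
  have h3 : δ y * a = (b.repr a).sum fun β z => δ y * (z • b β) := by
    conv_lhs => rw [h2]
    rw [Finsupp.mul_sum]
  change (b.repr (algebraMap κ K y * a)).sum _ = algebraMap κ K y *
    ((b.repr a).sum fun β y => δ y * b β) + _
  rw [h1, map_smul, Finsupp.sum_smul_index (by intro β; rw [h0, zero_mul]), h3, Finsupp.mul_sum,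
    ← Finsupp.sum_add]
  refine Finsupp.sum_congr fun β _ => ?_
  rw [hmul, Algebra.smul_def, Algebra.smul_def, Algebra.smul_def]
  ring

variable {k κ K O : Type*} [Field k] [Field κ] [Field K] [CommRing O] [Algebra k κ] [Algebra k K]
  [Algebra κ K] [Algebra k O] [Algebra O κ] [IsScalarTower k O κ]

/-- Given a tangent vector `φ₀` of `κ` and a tangent vector `χ₀` of `O`, both at the geometric point
`K`, there is a common lift over `K[ε][η]`. -/
theorem exists_combine (φ₀ : κ →ₐ[k] DualNumber K) (hφ₀ : ∀ y, fst (φ₀ y) = algebraMap κ K y)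
    (χ₀ : O →ₐ[k] DualNumber K) (hχ₀ : ∀ b, fst (χ₀ b) = algebraMap κ K (algebraMap O κ b)) :
    ∃ Ψ : O →ₐ[k] DualNumber (DualNumber K), (∀ b, fst (Ψ b) = φ₀ (algebraMap O κ b)) ∧
      ∀ b, fst (snd (Ψ b)) = snd (χ₀ b) := by
  have hmulδ : ∀ a b, snd (φ₀ (a * b)) = a • snd (φ₀ b) + b • snd (φ₀ a) := by
    intro a b
    rw [map_mul, snd_mul, hφ₀, hφ₀]
    simp only [smul_eq_mul, MulOpposite.smul_eq_mul_unop, MulOpposite.unop_op]
    rw [Algebra.smul_def, Algebra.smul_def]
    ring
  obtain ⟨Δ, hΔadd, hΔmul⟩ := exists_connection (fun y => snd (φ₀ y))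
    (fun a b => by rw [map_add, snd_add]) hmulδ
  have hΔ0 : Δ 0 = 0 := by simpa using hΔadd 0 0
  have hχmul : ∀ b b', snd (χ₀ (b * b')) = algebraMap κ K (algebraMap O κ b) * snd (χ₀ b') +
      algebraMap κ K (algebraMap O κ b') * snd (χ₀ b) := by
    intro b b'
    rw [map_mul, snd_mul, hχ₀, hχ₀]
    simp only [smul_eq_mul, MulOpposite.smul_eq_mul_unop, MulOpposite.unop_op]
    ring
  have hχ1 : snd (χ₀ 1) = 0 := by rw [map_one, snd_one]
  let Ψ' : O →+* DualNumber (DualNumber K) :=
    { toFun := fun b => inl (φ₀ (algebraMap O κ b)) +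
        inr (inl (snd (χ₀ b)) + inr (Δ (snd (χ₀ b))))
      map_one' := by
        rw [hχ1, hΔ0, map_one, map_one]
        simp
      map_mul' := by
        intro b b'
        ext
        · simp
        · simp
        · simp only [snd_add, snd_inl, zero_add, snd_inr, snd_mul, fst_add, fst_inl, fst_inr,
            add_zero, smul_eq_mul, MulOpposite.smul_eq_mul_unop, MulOpposite.unop_op, fst_mul,
            hφ₀, hχmul]
          ring
        · simp only [snd_add, snd_inl, zero_add, snd_inr, snd_mul, fst_add, fst_inl, fst_inr,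
            add_zero, smul_eq_mul, MulOpposite.smul_eq_mul_unop, MulOpposite.unop_op,
            hφ₀, hχmul, hΔadd, hΔmul]
          ring
      map_zero' := by
        simp [hΔ0]
      map_add' := by
        intro b b'
        ext
        · simp
        · simp
        · simp
        · simp only [map_add, snd_add, snd_inl, zero_add, snd_inr, hΔadd] }
  have hΨ' : ∀ b, Ψ' b = inl (φ₀ (algebraMap O κ b)) +
        inr (inl (snd (χ₀ b)) + inr (Δ (snd (χ₀ b)))) := fun b => rfl
  have hcomm : ∀ c : k, Ψ' (algebraMap k O c) = algebraMap k (DualNumber (DualNumber K)) c := by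
    intro c
    have h1 : snd (χ₀ (algebraMap k O c)) = 0 := by
      rw [AlgHom.commutes]
      rfl
    rw [hΨ', h1, hΔ0, ← IsScalarTower.algebraMap_apply k O κ, AlgHom.commutes]
    ext <;> simp [algebraMap_eq_inl']
  refine ⟨{ toRingHom := Ψ', commutes' := hcomm }, fun b => ?_, fun b => ?_⟩
  · have h2 := congr(fst $(hΨ' b))
    rw [fst_add, fst_inl, fst_inr, add_zero] at h2
    exact h2
  · have h2 := congr(fst (snd $(hΨ' b)))
    rw [snd_add, snd_inl, snd_inr, zero_add, fst_add, fst_inl, fst_inr, add_zero] at h2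
    exact h2

end Groth.Agent.Vancyc.H690.DualLift
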