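import Groth.Agent.Vancyc.H690.HensGen
import Groth.Agent.S0511
import Mathlib.RingTheory.Flat.EquationalCriterion
import Mathlib.RingTheory.Filtration
import Mathlib.RingTheory.Ideal.Over
import Mathlib.RingTheory.Nakayama
import Mathlib.RingTheory.Polynomial.Basic

/-!
# Flat quotients of `A{x}` by one equation modulo `𝔪_A`
-/

set_option autoImplicit false
universe u v

namespace Groth.Agent.Vancyc.H690.FlatKer

open IsLocalRing Groth.Agent.Vancyc.H690.HensFree Groth.Agent.Vancyc.H690.HensPres
  Groth.Agent.Vancyc.H690.HensGen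

/-- `A{x}` is Noetherian when `A` is. -/
theorem isNoetherianRing {A R : Type u} [CommRing A] [IsLocalRing A] [CommRing R] [Algebra A R]
    [IsNoetherianRing A] {ι : Type} [Finite ι] {x : ι → R} (h : IsHensFree A R x) :
    IsNoetherianRing R := by
  obtain ⟨S, _, _, _, _, hS, -⟩ :=
    Groth.Agent.Hensel.Exist.exists_isHenselization (Localization.AtPrime (orig A ι))
  let _ : Algebra A S := ((algebraMap (Localization.AtPrime (orig A ι)) S).comp
    (algebraMap A (Localization.AtPrime (orig A ι)))).toAlgebra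
  have : IsScalarTower A (Localization.AtPrime (orig A ι)) S := IsScalarTower.of_algebraMap_eq
    fun _ => rfl
  have h' := isHensFree_of_isHenselization A ι S
  obtain ⟨e, -⟩ := exists_algEquiv h' h
  have h1 : IsNoetherianRing (Localization.AtPrime (orig A ι)) :=
    IsLocalization.isNoetherianRing (orig A ι).primeCompl _ inferInstance
  have h2 : IsNoetherianRing S :=
    (Groth.Agent.S0511.result (Localization.AtPrime (orig A ι)) S).mp h1
  exact isNoetherianRing_of_ringEquiv S e.toRingEquiv

/-- Base change of `A{x}` along `A → A / I`. -/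
theorem isHensFree_quotient {A R : Type u} [CommRing A] [IsLocalRing A] [CommRing R] [Algebra A R]
    {ι : Type v} {x : ι → R} (h : IsHensFree A R x) (I : Ideal A) (hI : I ≤ maximalIdeal A) :
    IsHensFree (A ⧸ I) (R ⧸ I.map (algebraMap A R)) fun i => Ideal.Quotient.mk _ (x i) := by
  have h1 := h.henselian
  have h2 := h.isLocalHom
  set J := I.map (algebraMap A R) with hJ
  have hJm : J ≤ maximalIdeal R := by
    refine (Ideal.map_mono hI).trans ?_
    exact ((local_hom_TFAE (algebraMap A R)).out 0 2 rfl rfl).mp inferInstance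
  have h3 : HenselianLocalRing (R ⧸ J) := henselianLocalRing_quotient J hJm
  have h4 : IsLocalHom (Ideal.Quotient.mk J) :=
    IsLocalHom.of_surjective _ Ideal.Quotient.mk_surjective
  have h5 : Nontrivial (A ⧸ I) := Ideal.Quotient.nontrivial_iff.mpr fun h =>
    (maximalIdeal.isMaximal A).ne_top (top_le_iff.mp (h ▸ hI))
  have h6 : IsLocalRing (A ⧸ I) := IsLocalRing.of_surjective' _ Ideal.Quotient.mk_surjective
  have h7 : IsLocalHom (Ideal.Quotient.mk I) :=
    IsLocalHom.of_surjective _ Ideal.Quotient.mk_surjective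
  refine ⟨h3, ⟨fun a ha => ?_⟩, fun i hi => ?_, fun T _ _ _ _ t ht => ?_⟩
  · obtain ⟨a, rfl⟩ := Ideal.Quotient.mk_surjective a
    rw [Ideal.Quotient.algebraMap_quotient_map_quotient] at ha
    exact (((isUnit_map_iff (algebraMap A R) a).mp
      ((isUnit_map_iff (Ideal.Quotient.mk J) _).mp ha)).map (Ideal.Quotient.mk I))
  · exact h.not_isUnit i ((isUnit_map_iff (Ideal.Quotient.mk J) _).mp hi)
  · let _ : Algebra A T := ((algebraMap (A ⧸ I) T).comp (Ideal.Quotient.mk I)).toAlgebra
    have h8 : ∀ a : A, algebraMap A T a = algebraMap (A ⧸ I) T (Ideal.Quotient.mk I a) :=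
      fun a => rfl
    have h9 : IsLocalHom (algebraMap A T) :=
      RingHom.isLocalHom_comp (algebraMap (A ⧸ I) T) (Ideal.Quotient.mk I)
    let φ : R →ₐ[A] T := h.lift t ht
    have hφ : ∀ i, φ (x i) = t i := fun i => h.lift_apply _ _ _
    have hφJ : ∀ r ∈ J, φ r = 0 := by
      intro r hr
      have h10 : J ≤ RingHom.ker φ := by
        rw [hJ, Ideal.map_le_iff_le_comap]
        intro a ha
        rw [Ideal.mem_comap, RingHom.mem_ker, AlgHom.commutes, h8,
          Ideal.Quotient.eq_zero_iff_mem.mpr ha, map_zero]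
      exact h10 hr
    let φ' : R ⧸ J →+* T := Ideal.Quotient.lift J (φ : R →+* T) hφJ
    refine ⟨{ toRingHom := φ', commutes' := fun a => ?_ }, fun i => hφ i, fun ψ hψ => ?_⟩
    · obtain ⟨a, rfl⟩ := Ideal.Quotient.mk_surjective a
      change φ (algebraMap A R a) = _
      rw [AlgHom.commutes, h8]
    · let ψ' : R →ₐ[A] T :=
        { toRingHom := (ψ : R ⧸ J →+* T).comp (Ideal.Quotient.mk J)
          commutes' := fun a => by
            change ψ (Ideal.Quotient.mk J (algebraMap A R a)) = _
            rw [h8, ← AlgHom.commutes ψ]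
            rfl }
      have h10 : ψ' = φ := h.hom_ext (fun i => by
        change ψ (Ideal.Quotient.mk J (x i)) ∈ _
        rw [hψ]
        exact ht i) fun i => by
        change ψ (Ideal.Quotient.mk J (x i)) = _
        rw [hψ, hφ]
      ext r
      obtain ⟨r, rfl⟩ := Ideal.Quotient.mk_surjective r
      exact congr($h10 r)

/-- The closed fibre of `A{x}` is Noetherian. -/
theorem isNoetherianRing_fibre {A R : Type u} [CommRing A] [IsLocalRing A] [CommRing R]
    [Algebra A R] {ι : Type} [Finite ι] {x : ι → R} (h : IsHensFree A R x) :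
    IsNoetherianRing (R ⧸ (maximalIdeal A).map (algebraMap A R)) := by
  have h1 := isHensFree_quotient h (maximalIdeal A) le_rfl
  have h2 : IsNoetherianRing (A ⧸ maximalIdeal A) :=
    inferInstanceAs (IsNoetherianRing (ResidueField A))
  have h3 : IsLocalRing (A ⧸ maximalIdeal A) :=
    inferInstanceAs (IsLocalRing (ResidueField A))
  exact isNoetherianRing h1

/-- Relations with coefficients in `I` in the kernel of a map onto a flat algebra. -/
theorem inf_ker_le {A R S : Type u} [CommRing A] [CommRing R] [Algebra A R] [CommRing S]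
    [Algebra A S] (φ : R →ₐ[A] S) (hφ : Function.Surjective φ) [Module.Flat A S] (I : Ideal A) :
    I.map (algebraMap A R) ⊓ RingHom.ker φ ≤ I.map (algebraMap A R) * RingHom.ker φ := by
  rintro z ⟨hz, hzk⟩
  obtain ⟨n, r, g, hg⟩ := Submodule.mem_span_set'.mp hz
  choose a ha haz using fun i => (g i).2
  have h1 : z = ∑ i, algebraMap A R (a i) * r i := by
    rw [← hg]
    refine Finset.sum_congr rfl fun i _ => ?_
    rw [haz, smul_eq_mul, mul_comm]
  have h2 : ∑ i, a i • φ (r i) = 0 := by
    have h3 : φ z = 0 := hzk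
    rw [h1, map_sum] at h3
    rw [← h3]
    refine Finset.sum_congr rfl fun i _ => ?_
    rw [map_mul, AlgHom.commutes, Algebra.smul_def]
  obtain ⟨m, c, y, hy, hc⟩ := Module.Flat.isTrivialRelation_of_sum_smul_eq_zero h2
  choose Y hY using fun j => hφ (y j)
  have h4 : z = ∑ i, algebraMap A R (a i) * (r i - ∑ j, algebraMap A R (c i j) * Y j) := by
    have h5 : ∑ i, algebraMap A R (a i) * ∑ j, algebraMap A R (c i j) * Y j = 0 := by
      simp only [Finset.mul_sum]
      rw [Finset.sum_comm]
      refine Finset.sum_eq_zero fun j _ => ?_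
      have h6 := congr(algebraMap A R $(hc j))
      rw [map_sum, map_zero] at h6
      have h7 : ∑ i, algebraMap A R (a i) * (algebraMap A R (c i j) * Y j) =
          (∑ i, algebraMap A R (a i * c i j)) * Y j := by
        rw [Finset.sum_mul]
        refine Finset.sum_congr rfl fun i _ => ?_
        rw [map_mul, mul_assoc]
      rw [h7, h6, zero_mul]
    simp only [mul_sub, Finset.sum_sub_distrib]
    rw [h5, sub_zero, h1]
  rw [h4]
  refine Ideal.sum_mem _ fun i _ => Ideal.mul_mem_mul (Ideal.mem_map_of_mem _ (ha i)) ?_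
  have hy' : φ (r i) = ∑ j, c i j • y j := hy i
  rw [RingHom.mem_ker, map_sub, map_sum, hy', sub_eq_zero]
  refine Finset.sum_congr rfl fun j _ => ?_
  rw [map_mul, AlgHom.commutes, hY, Algebra.smul_def]

/-- **The kernel is principal.** -/
theorem ker_eq_span {A R S : Type u} [CommRing A] [IsLocalRing A] [CommRing R] [IsLocalRing R]
    [Algebra A R] [CommRing S] [Nontrivial S] [Algebra A S] {ι : Type} [Finite ι] {x : ι → R}
    (h : IsHensFree A R x) (φ : R →ₐ[A] S) (hφ : Function.Surjective φ) [Module.Flat A S]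
    (hfg : (RingHom.ker φ).FG) (F : R) (hF : φ F = 0)
    (H : ∀ z, φ z = 0 → ∀ r, 3 ≤ r → z ∈ Ideal.span {F} ⊔ ((maximalIdeal A).map (algebraMap A R) ⊔
      maximalIdeal R ^ r)) :
    RingHom.ker φ = Ideal.span {F} := by
  have h2 := h.isLocalHom
  have hA : (maximalIdeal A).map (algebraMap A R) ≤ maximalIdeal R :=
    ((local_hom_TFAE (algebraMap A R)).out 0 2 rfl rfl).mp inferInstance
  have hFm : F ∈ maximalIdeal R := fun hu => not_isUnit_zero (M₀ := S) (hF ▸ hu.map φ)
  set 𝔟 : Ideal R := (maximalIdeal A).map (algebraMap A R) ⊔ Ideal.span {F} with h𝔟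
  have h𝔟m : 𝔟 ≤ maximalIdeal R := by
    refine sup_le hA ?_
    rw [Ideal.span_singleton_le_iff_mem]
    exact hFm
  have h3 : Nontrivial (R ⧸ 𝔟) := Ideal.Quotient.nontrivial_iff.mpr fun h =>
    (maximalIdeal.isMaximal R).ne_top (top_le_iff.mp (h ▸ h𝔟m))
  have h4 : IsLocalRing (R ⧸ 𝔟) := IsLocalRing.of_surjective' _ Ideal.Quotient.mk_surjective
  have h5 : IsNoetherianRing (R ⧸ 𝔟) := by
    have h6 := isNoetherianRing_fibre h
    exact isNoetherianRing_of_surjective _ _ (Ideal.Quotient.factor
      (le_sup_left : (maximalIdeal A).map (algebraMap A R) ≤ 𝔟))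
      (Ideal.Quotient.factor_surjective le_sup_left)
  have h6 : ∀ z, φ z = 0 → z ∈ 𝔟 := by
    intro z hz
    have h7 : Ideal.Quotient.mk 𝔟 z ∈ ⨅ i : ℕ, maximalIdeal (R ⧸ 𝔟) ^ i := by
      rw [Ideal.mem_iInf]
      intro i
      have h8 := H z hz (max 3 i) (le_max_left _ _)
      have h9 : Ideal.span {F} ⊔ ((maximalIdeal A).map (algebraMap A R) ⊔
          maximalIdeal R ^ (max 3 i)) ≤ (maximalIdeal (R ⧸ 𝔟) ^ i).comap
            (Ideal.Quotient.mk 𝔟) := by
        refine sup_le ?_ (sup_le ?_ ?_)
        · refine (le_sup_right : _ ≤ 𝔟).trans ?_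
          intro y hy
          rw [Ideal.mem_comap, Ideal.Quotient.eq_zero_iff_mem.mpr hy]
          exact zero_mem _
        · refine (le_sup_left : _ ≤ 𝔟).trans ?_
          intro y hy
          rw [Ideal.mem_comap, Ideal.Quotient.eq_zero_iff_mem.mpr hy]
          exact zero_mem _
        · refine (Ideal.pow_le_pow_right (le_max_right 3 i)).trans ?_
          rw [← Ideal.map_le_iff_le_comap, Ideal.map_pow]
          refine Ideal.pow_right_mono ?_ i
          rw [Ideal.map_le_iff_le_comap]
          intro y hy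
          rw [Ideal.mem_comap]
          have h10 : IsLocalHom (Ideal.Quotient.mk 𝔟) :=
            IsLocalHom.of_surjective _ Ideal.Quotient.mk_surjective
          rw [IsLocalRing.mem_maximalIdeal, mem_nonunits_iff, isUnit_map_iff]
          exact hy
      exact h9 h8
    rw [Ideal.iInf_pow_eq_bot_of_isLocalRing _ (maximalIdeal.isMaximal _).ne_top,
      Ideal.mem_bot, Ideal.Quotient.eq_zero_iff_mem] at h7
    exact h7
  refine le_antisymm ?_ ?_
  · refine Submodule.le_of_le_smul_of_le_jacobson_bot (I := (maximalIdeal A).map (algebraMap A R))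
      hfg (hA.trans (IsLocalRing.maximalIdeal_le_jacobson _)) ?_
    intro z hz
    obtain ⟨m, hm, y, hy, hmy⟩ := Submodule.mem_sup.mp (h6 z hz)
    have h7 : φ y = 0 := by
      obtain ⟨c, rfl⟩ := Ideal.mem_span_singleton'.mp hy
      rw [map_mul, hF, mul_zero]
    have h8 : φ m = 0 := by
      have h9 : m = z - y := by rw [← hmy]; ring
      have h10 : φ z = 0 := hz
      rw [h9, map_sub, h10, h7, sub_zero]
    have h9 := inf_ker_le φ hφ (maximalIdeal A) ⟨hm, h8⟩
    rw [← hmy, add_comm]
    exact Submodule.add_mem_sup hy (by rw [smul_eq_mul]; exact h9)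
  · rw [Ideal.span_singleton_le_iff_mem]
    exact hF

end Groth.Agent.Vancyc.H690.FlatKer
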