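import Groth.Agent.Vancyc.H690.InvFun

/-!
# Change of presentation of a quotient of a henselian polynomial ring
-/

set_option autoImplicit false
universe u v

namespace Groth.Agent.Vancyc.H690.FinPres

open IsLocalRing Groth.Agent.Vancyc.H690.HensFree Groth.Agent.Vancyc.H690.HensPres
  Groth.Agent.Vancyc.H690.InvFun

variable {A R R₀ S : Type u} [CommRing A] [IsLocalRing A] [CommRing R] [Algebra A R]
  [CommRing R₀] [Algebra A R₀] [CommRing S] [Algebra A S] {ι κ : Type} {x : ι → R} {Y : κ → R₀}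

omit [IsLocalRing A] in
theorem not_isUnit_of_map {T : Type u} [CommRing T] [IsLocalRing T] {R : Type u} [CommRing R]
    (φ : R →+* T) {r : R} (h : φ r ∈ maximalIdeal T) : ¬ IsUnit r := fun hr =>
  h (hr.map φ)

/-- A surjection onto a local ring maps the maximal ideal onto the maximal ideal. -/
theorem map_maximalIdeal_of_surjective {R T : Type u} [CommRing R] [IsLocalRing R] [CommRing T]
    [IsLocalRing T] (φ : R →+* T) (hφ : Function.Surjective φ) :
    (maximalIdeal R).map φ = maximalIdeal T := by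
  have h1 : ((maximalIdeal T).comap φ).IsMaximal := Ideal.comap_isMaximal_of_surjective φ hφ
  rw [← IsLocalRing.eq_maximalIdeal h1, Ideal.map_comap_of_surjective φ hφ]

/-- **Surjectivity** from generation modulo the square of the maximal ideal. -/
theorem surjective_of_gen [Finite ι] [Finite κ] [HenselianLocalRing S] [IsLocalHom (algebraMap A S)]
    (h : IsHensFree A R x) (φ : R →ₐ[A] S) (hφ : ∀ i, φ (x i) ∈ maximalIdeal S)
    (h₀ : IsHensFree A R₀ Y) (π₀ : R₀ →ₐ[A] S) (hπ₀ : Function.Surjective π₀)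
    (hgen : ∀ j, π₀ (Y j) ∈ (maximalIdeal A).map (algebraMap A S) ⊔
      Ideal.span (Set.range fun i => φ (x i)) ⊔ maximalIdeal S ^ 2) :
    Function.Surjective φ := by
  obtain ⟨R₁, _, _, X₁, h₁⟩ := exists_isHensFree A (ι ⊕ κ)
  have := h.henselian
  have := h.isLocalHom
  have := h₀.henselian
  have := h₀.isLocalHom
  have := h₁.henselian
  have := h₁.isLocalHom
  have hY : ∀ j, π₀ (Y j) ∈ maximalIdeal S := by
    intro j
    have h2 : IsLocalHom (π₀ : R₀ →+* S) := IsLocalHom.of_surjective _ hπ₀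
    exact fun hu => h₀.not_isUnit j ((isUnit_map_iff (π₀ : R₀ →+* S) (Y j)).mp hu)
  let β : R₀ →ₐ[A] R₁ := h₀.lift (fun j => X₁ (Sum.inr j)) fun j => h₁.not_isUnit _
  have hβ : ∀ j, β (Y j) = X₁ (Sum.inr j) := fun j => h₀.lift_apply _ _ _
  let s : ι ⊕ κ → S := Sum.elim (fun i => φ (x i)) fun j => π₀ (Y j)
  have hs : ∀ o, s o ∈ maximalIdeal S := by
    rintro (i | j)
    · exact hφ i
    · exact hY j
  let π₁ : R₁ →ₐ[A] S := h₁.lift s hs
  have hπ₁ : ∀ o, π₁ (X₁ o) = s o := fun o => h₁.lift_apply _ _ _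
  have hπβ : π₁.comp β = π₀ := h₀.hom_ext
    (fun j => by rw [AlgHom.comp_apply, hβ, hπ₁]; exact hY j)
    fun j => by rw [AlgHom.comp_apply, hβ, hπ₁]; rfl
  have hπ₁s : Function.Surjective π₁ := by
    intro t
    obtain ⟨r, hr⟩ := hπ₀ t
    exact ⟨β r, by rw [← AlgHom.comp_apply, hπβ, hr]⟩
  -- lifting the relation
  set I₁ : Ideal R₁ := (maximalIdeal A).map (algebraMap A R₁) ⊔
    Ideal.span (Set.range fun i => X₁ (Sum.inl i)) ⊔ maximalIdeal R₁ ^ 2 with hI₁
  have hmap : I₁.map (π₁ : R₁ →+* S) = (maximalIdeal A).map (algebraMap A S) ⊔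
      Ideal.span (Set.range fun i => φ (x i)) ⊔ maximalIdeal S ^ 2 := by
    have hm1 : (maximalIdeal R₁).map (π₁ : R₁ →+* S) = maximalIdeal S :=
      map_maximalIdeal_of_surjective (π₁ : R₁ →+* S) hπ₁s
    have hr : ((π₁ : R₁ →+* S) ∘ fun i => X₁ (Sum.inl i)) = fun i => φ (x i) :=
      funext fun i => hπ₁ (Sum.inl i)
    rw [hI₁, Ideal.map_sup, Ideal.map_sup, Ideal.map_map, π₁.comp_algebraMap, Ideal.map_pow,
      hm1, Ideal.map_span, ← Set.range_comp, hr]
  have hlift : ∀ j, ∃ t ∈ I₁, π₁ t = π₁ (X₁ (Sum.inr j)) := by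
    intro j
    have h2 : π₁ (X₁ (Sum.inr j)) ∈ I₁.map (π₁ : R₁ →+* S) := by
      rw [hmap, hπ₁]
      exact hgen j
    exact (Ideal.mem_map_iff_of_surjective (π₁ : R₁ →+* S) hπ₁s).mp h2
  choose t ht ht' using hlift
  let G : ι ⊕ κ → R₁ := Sum.elim (fun i => X₁ (Sum.inl i)) fun j => X₁ (Sum.inr j) - t j
  have hI₁G : I₁ ≤ spanIdeal A G := by
    refine sup_le (sup_le (le_sup_left.trans le_sup_left) ?_) le_sup_right
    refine le_trans ?_ (le_sup_right.trans le_sup_left)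
    refine Ideal.span_mono ?_
    rintro _ ⟨i, rfl⟩
    exact ⟨Sum.inl i, rfl⟩
  have hGmem : ∀ o, G o ∈ spanIdeal A G := fun o =>
    (le_sup_right.trans le_sup_left : _ ≤ spanIdeal A G) (Ideal.subset_span ⟨o, rfl⟩)
  have hG : ∀ o, X₁ o ∈ spanIdeal A G := by
    rintro (i | j)
    · exact hGmem (Sum.inl i)
    · have h2 := add_mem (hGmem (Sum.inr j)) (hI₁G (ht j))
      have h3 : G (Sum.inr j) + t j = X₁ (Sum.inr j) := sub_add_cancel _ _
      rwa [h3] at h2
  have hGu : ∀ o, ¬ IsUnit (G o) := by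
    rintro (i | j)
    · exact h₁.not_isUnit _
    · refine not_isUnit_of_map (π₁ : R₁ →+* S) ?_
      have h2 : (π₁ : R₁ →+* S) (G (Sum.inr j)) = 0 := by
        change π₁ (X₁ (Sum.inr j) - t j) = 0
        rw [map_sub, ht', sub_self]
      rw [h2]
      exact zero_mem _
  have h₂ : IsHensFree A R₁ G := isHensFree_of_generate h₁ G hG hGu
  let δ : R₁ →ₐ[A] R := h₂.lift (Sum.elim x fun _ => 0) (by
    rintro (i | j)
    · exact h.not_isUnit i
    · exact zero_mem _)
  have hδ : ∀ o, δ (G o) = (Sum.elim x fun _ => 0 : ι ⊕ κ → R) o := fun o => h₂.lift_apply _ _ _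
  have hφδ : φ.comp δ = π₁ := by
    refine h₂.hom_ext ?_ ?_
    · rintro (i | j)
      · rw [AlgHom.comp_apply, hδ]
        exact hφ i
      · rw [AlgHom.comp_apply, hδ]
        change φ 0 ∈ _
        rw [map_zero]
        exact zero_mem _
    · rintro (i | j)
      · rw [AlgHom.comp_apply, hδ]
        exact (hπ₁ (Sum.inl i)).symm
      · rw [AlgHom.comp_apply, hδ]
        change φ 0 = π₁ (X₁ (Sum.inr j) - t j)
        rw [map_zero, map_sub, ht', sub_self]
  intro s'
  obtain ⟨r, hr⟩ := hπ₁s s'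
  exact ⟨δ r, by rw [← AlgHom.comp_apply, hφδ, hr]⟩

omit [IsLocalRing A] in
/-- **Finiteness of the kernel** does not depend on the presentation. -/
theorem ker_fg [Finite ι] [Nontrivial S] (h : IsHensFree A R x) (φ : R →ₐ[A] S)
    (hφ : Function.Surjective φ) (h₀ : IsHensFree A R₀ Y) (π₀ : R₀ →ₐ[A] S)
    (hπ₀ : Function.Surjective π₀) (hfg : (RingHom.ker π₀).FG) : (RingHom.ker φ).FG := by
  have := h.henselian
  have := h.isLocalHom
  have := h₀.henselian
  have := h₀.isLocalHom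
  have : IsLocalRing S := IsLocalRing.of_surjective' (φ : R →+* S) hφ
  have : HenselianLocalRing S := henselianLocalRing_of_surjective (φ : R →+* S) hφ
  have hφl : IsLocalHom (φ : R →+* S) := IsLocalHom.of_surjective _ hφ
  have hπ₀l : IsLocalHom (π₀ : R₀ →+* S) := IsLocalHom.of_surjective _ hπ₀
  have : IsLocalHom (algebraMap A S) := by
    rw [← φ.comp_algebraMap]
    exact RingHom.isLocalHom_comp _ _
  have hY : ∀ j, π₀ (Y j) ∈ maximalIdeal S := fun j hu =>
    h₀.not_isUnit j ((isUnit_map_iff (π₀ : R₀ →+* S) (Y j)).mp hu)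
  have hx : ∀ i, φ (x i) ∈ maximalIdeal S := fun i hu =>
    h.not_isUnit i ((isUnit_map_iff (φ : R →+* S) (x i)).mp hu)
  choose Y' hY' using fun j => hφ (π₀ (Y j))
  choose X' hX' using fun i => hπ₀ (φ (x i))
  let ψ : R₀ →ₐ[A] R := h₀.lift Y' fun j => not_isUnit_of_map (φ : R →+* S)
    (show φ (Y' j) ∈ _ by rw [hY']; exact hY j)
  have hψ : ∀ j, ψ (Y j) = Y' j := fun j => h₀.lift_apply _ _ _
  have hφψ : φ.comp ψ = π₀ := h₀.hom_ext
    (fun j => by rw [AlgHom.comp_apply, hψ, hY']; exact hY j)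
    fun j => by rw [AlgHom.comp_apply, hψ, hY']
  set J : Ideal R := (RingHom.ker π₀).map (ψ : R₀ →+* R) ⊔
    Ideal.span (Set.range fun i => x i - ψ (X' i)) with hJ
  have hJk : J ≤ RingHom.ker φ := by
    refine sup_le ?_ ?_
    · rw [Ideal.map_le_iff_le_comap]
      intro r hr
      change φ (ψ r) = 0
      rw [← AlgHom.comp_apply, hφψ]
      exact hr
    · rw [Ideal.span_le]
      rintro _ ⟨i, rfl⟩
      change φ (x i - ψ (X' i)) = 0
      rw [map_sub, ← AlgHom.comp_apply φ ψ, hφψ, hX', sub_self]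
  have hJm : J ≤ maximalIdeal R := by
    refine hJk.trans fun r hr => ?_
    refine not_isUnit_of_map (φ : R →+* S) ?_
    have h2 : (φ : R →+* S) r = 0 := hr
    rw [h2]
    exact zero_mem _
  have h3 : HenselianLocalRing (R ⧸ J) := henselianLocalRing_quotient J hJm
  have h4 : IsLocalHom (Ideal.Quotient.mk J) :=
    IsLocalHom.of_surjective _ Ideal.Quotient.mk_surjective
  have h5 : IsLocalHom (algebraMap A (R ⧸ J)) :=
    RingHom.isLocalHom_comp (Ideal.Quotient.mk J) (algebraMap A R)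
  let e : (R₀ ⧸ RingHom.ker π₀) ≃ₐ[A] S := Ideal.quotientKerAlgEquivOfSurjective hπ₀
  let θ₀ : (R₀ ⧸ RingHom.ker π₀) →ₐ[A] R ⧸ J := Ideal.Quotient.liftₐ (RingHom.ker π₀)
    ((Ideal.Quotient.mkₐ A J).comp ψ) (fun r hr => by
      rw [AlgHom.comp_apply, Ideal.Quotient.mkₐ_eq_mk, Ideal.Quotient.eq_zero_iff_mem]
      exact (le_sup_left : _ ≤ J) (Ideal.mem_map_of_mem _ hr))
  let θ : S →ₐ[A] R ⧸ J := θ₀.comp e.symm.toAlgHom
  have hθ : ∀ r, θ (π₀ r) = Ideal.Quotient.mk J (ψ r) := by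
    intro r
    have h6 : e (Ideal.Quotient.mk _ r) = π₀ r := rfl
    rw [← h6]
    change θ₀ (e.symm (e (Ideal.Quotient.mk _ r))) = _
    rw [e.symm_apply_apply]
    rfl
  have h6 : Ideal.Quotient.mkₐ A J = θ.comp φ := by
    refine h.hom_ext (fun i => ?_) fun i => ?_
    · rw [Ideal.Quotient.mkₐ_eq_mk, IsLocalRing.mem_maximalIdeal, mem_nonunits_iff,
        isUnit_map_iff]
      exact h.not_isUnit i
    · rw [AlgHom.comp_apply, ← hX' i, hθ, Ideal.Quotient.mkₐ_eq_mk, Ideal.Quotient.eq]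
      exact (le_sup_right : _ ≤ J) (Ideal.subset_span ⟨i, rfl⟩)
  have h7 : RingHom.ker φ = J := by
    refine le_antisymm (fun r hr => ?_) hJk
    have h8 := congr($h6 r)
    rw [AlgHom.comp_apply, (RingHom.mem_ker).mp hr, map_zero] at h8
    rwa [Ideal.Quotient.mkₐ_eq_mk, Ideal.Quotient.eq_zero_iff_mem] at h8
  rw [h7, hJ]
  refine Submodule.FG.sup (hfg.map _) ?_
  exact Submodule.fg_span (Set.finite_range _)

end Groth.Agent.Vancyc.H690.FinPres
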