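import Groth.Prelude.Def_QuadSing
import Groth.Agent.Vancyc.H690.FinPres
import Groth.Agent.S0507
import Groth.Agent.S0509
import Groth.Agent.S0510
import Mathlib.RingTheory.Flat.FaithfullyFlat.Algebra
import Mathlib.RingTheory.EssentialFiniteness
import Mathlib.Algebra.CharP.Defs

/-!
# From a local algebra to its henselization and its closed fibre
-/

set_option autoImplicit false
universe u v

namespace Groth.Agent.Vancyc.H690.Transfer

open IsLocalRing VanCyc Groth.Agent.Vancyc.H690.FinPres

section Hens

variable {A B Bh : Type u} [CommRing A] [IsLocalRing A] [CommRing B] [IsLocalRing B] [Algebra A B]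
  [CommRing Bh] [IsLocalRing Bh] [Algebra B Bh] [IsLocalHom (algebraMap B Bh)]
  [Hensel.IsHenselization B Bh] [Algebra A Bh] [IsScalarTower A B Bh]

/-- `B` is dense in its henselization. -/
theorem exists_sub_mem {B Bh : Type u} [CommRing B] [IsLocalRing B]
    [CommRing Bh] [IsLocalRing Bh] [Algebra B Bh] [IsLocalHom (algebraMap B Bh)]
    [Hensel.IsHenselization B Bh] (r : ℕ) (z : Bh) :
    ∃ b : B, z - algebraMap B Bh b ∈ maximalIdeal Bh ^ r := by
  obtain ⟨b, hb⟩ := (Groth.Agent.S0510.result B Bh r).2 (Ideal.Quotient.mk _ z)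
  obtain ⟨b, rfl⟩ := Ideal.Quotient.mk_surjective b
  refine ⟨b, ?_⟩
  rw [Ideal.quotientMap_mk, eq_comm, Ideal.Quotient.eq, Ideal.map_pow,
    Groth.Agent.S0507.result B Bh] at hb
  exact hb

/-- Contraction from the henselization. -/
theorem mem_hens_iff (r : ℕ) (b : B) :
    algebraMap B Bh b ∈ (maximalIdeal A).map (algebraMap A Bh) ⊔ maximalIdeal Bh ^ r ↔
      b ∈ (maximalIdeal A).map (algebraMap A B) ⊔ maximalIdeal B ^ r := by
  have h1 := Groth.Agent.S0509.result B Bh
  have h2 : ((maximalIdeal A).map (algebraMap A B) ⊔ maximalIdeal B ^ r).map (algebraMap B Bh) =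
      (maximalIdeal A).map (algebraMap A Bh) ⊔ maximalIdeal Bh ^ r := by
    rw [Ideal.map_sup, Ideal.map_map, ← IsScalarTower.algebraMap_eq, Ideal.map_pow,
      Groth.Agent.S0507.result B Bh]
  rw [← h2, ← Ideal.mem_comap, Ideal.comap_map_eq_self_of_faithfullyFlat]

end Hens

section Fib

variable {A B : Type u} [CommRing A] [IsLocalRing A] [CommRing B] [IsLocalRing B] [Algebra A B]

theorem isLocalRing_fib (hAB : (maximalIdeal A).map (algebraMap A B) ≤ maximalIdeal B) :
    IsLocalRing (fibQuot A B) := by
  have h1 : Nontrivial (B ⧸ (maximalIdeal A).map (algebraMap A B)) :=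
    Ideal.Quotient.nontrivial_iff.mpr fun h =>
      (maximalIdeal.isMaximal B).ne_top (top_le_iff.mp (h ▸ hAB))
  exact IsLocalRing.of_surjective' (Ideal.Quotient.mk _) Ideal.Quotient.mk_surjective

/-- Contraction from the closed fibre. -/
theorem mem_fib_iff [IsLocalRing (fibQuot A B)] (r : ℕ) (b : B) :
    Ideal.Quotient.mk ((maximalIdeal A).map (algebraMap A B)) b ∈
      maximalIdeal (fibQuot A B) ^ r ↔
      b ∈ (maximalIdeal A).map (algebraMap A B) ⊔ maximalIdeal B ^ r := by
  have h1 : (maximalIdeal B).map (Ideal.Quotient.mk ((maximalIdeal A).map (algebraMap A B))) =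
      maximalIdeal (fibQuot A B) :=
    map_maximalIdeal_of_surjective (T := fibQuot A B) _ Ideal.Quotient.mk_surjective
  rw [← h1, ← Ideal.map_pow, ← Ideal.mem_comap,
    Ideal.comap_map_of_surjective _ Ideal.Quotient.mk_surjective]
  have h2 : (⊥ : Ideal (B ⧸ (maximalIdeal A).map (algebraMap A B))).comap
      (Ideal.Quotient.mk ((maximalIdeal A).map (algebraMap A B))) =
      (maximalIdeal A).map (algebraMap A B) := by
    ext z
    rw [Ideal.mem_comap, Ideal.mem_bot, Ideal.Quotient.eq_zero_iff_mem]
  rw [h2, sup_comm]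

end Fib

section Ess

variable {A : Type u} [CommRing A] [IsLocalRing A] (B₀ : Type u) [CommRing B₀] [Algebra A B₀]
  [Algebra.FiniteType A B₀] (P : Ideal B₀) [P.IsPrime]

/-- The closed fibre is essentially of finite type over the residue field. -/
theorem essFiniteType_fib :
    letI := (fibHom A (Localization.AtPrime P)).toAlgebra
    Algebra.EssFiniteType (ResidueField A) (fibQuot A (Localization.AtPrime P)) := by
  let _ := (fibHom A (Localization.AtPrime P)).toAlgebra
  have h1 : IsScalarTower A (ResidueField A) (fibQuot A (Localization.AtPrime P)) :=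
    IsScalarTower.of_algebraMap_eq fun _ => rfl
  have h2 : Algebra.EssFiniteType A (Localization.AtPrime P) :=
    Algebra.EssFiniteType.comp A B₀ (Localization.AtPrime P)
  have h3 : Algebra.EssFiniteType A (fibQuot A (Localization.AtPrime P)) := inferInstance
  exact Algebra.EssFiniteType.of_comp A (ResidueField A) _

omit [Algebra.FiniteType A B₀] in
/-- The residue field of the closed fibre is purely inseparable over `k`. -/
theorem pow_mem_fib [IsLocalRing (fibQuot A (Localization.AtPrime P))]
    (hPi : ∀ y : B₀, ∃ (e : ℕ) (c : A),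
      y ^ ringExpChar (ResidueField A) ^ e - algebraMap A B₀ c ∈ P)
    (y : ResidueField (fibQuot A (Localization.AtPrime P))) :
    letI := (fibHom A (Localization.AtPrime P)).toAlgebra
    ∃ (e : ℕ) (c : ResidueField A), y ^ ringExpChar (ResidueField A) ^ e =
      algebraMap (ResidueField A) (ResidueField (fibQuot A (Localization.AtPrime P))) c := by
  let _ := (fibHom A (Localization.AtPrime P)).toAlgebra
  set q := ringExpChar (ResidueField A) with hq
  let B := Localization.AtPrime P
  let β : B →+* ResidueField (fibQuot A B) :=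
    (residue (fibQuot A B)).comp (Ideal.Quotient.mk ((maximalIdeal A).map (algebraMap A B)))
  have hβl : IsLocalHom β := by
    have h1 : Function.Surjective β := residue_surjective.comp Ideal.Quotient.mk_surjective
    exact IsLocalHom.of_surjective β h1
  have hβA : ∀ c : A, β (algebraMap A B c) =
      algebraMap (ResidueField A) (ResidueField (fibQuot A B)) (residue A c) := fun c => rfl
  have hβ0 : ∀ b : B, b ∈ maximalIdeal B → β b = 0 := by
    intro b hb
    by_contra h
    exact hb ((isUnit_map_iff β b).mp (isUnit_iff_ne_zero.mpr h))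
  have h1 : ∀ b : B₀, ∃ (e : ℕ) (c : ResidueField A), β (algebraMap B₀ B b) ^ q ^ e =
      algebraMap (ResidueField A) (ResidueField (fibQuot A B)) c := by
    intro b
    obtain ⟨e, c, hc⟩ := hPi b
    refine ⟨e, residue A c, ?_⟩
    have h2 : algebraMap B₀ B (b ^ q ^ e - algebraMap A B₀ c) ∈ maximalIdeal B :=
      (IsLocalization.AtPrime.to_map_mem_maximal_iff B P _).mpr hc
    have h3 := hβ0 _ h2
    rw [map_sub, map_sub, map_pow, map_pow, ← IsScalarTower.algebraMap_apply, hβA,
      sub_eq_zero] at h3
    exact h3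
  obtain ⟨b, hb⟩ : ∃ b : B, β b = y := by
    obtain ⟨o, ho⟩ := residue_surjective y
    obtain ⟨b, hb⟩ := Ideal.Quotient.mk_surjective o
    exact ⟨b, by rw [← ho, ← hb]; rfl⟩
  obtain ⟨⟨b₀, s⟩, hbs⟩ := IsLocalization.surj P.primeCompl b
  have hs : β (algebraMap B₀ B s) ≠ 0 :=
    ((IsLocalization.map_units B s).map β).ne_zero
  have hy : y = β (algebraMap B₀ B b₀) / β (algebraMap B₀ B s) := by
    rw [eq_div_iff hs, ← hb, ← map_mul, hbs]
  obtain ⟨e, c, hc⟩ := h1 b₀
  obtain ⟨e', c', hc'⟩ := h1 s
  refine ⟨e + e', c ^ q ^ e' / c' ^ q ^ e, ?_⟩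
  rw [hy, div_pow, pow_add, pow_mul, hc, mul_comm (q ^ e), pow_mul, hc', map_div₀, map_pow, map_pow]

end Ess

end Groth.Agent.Vancyc.H690.Transfer
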