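import Groth.Agent.Vancyc.H690.FibMain
import Groth.Agent.Vancyc.H690.FlatKer
import Groth.Agent.Vancyc.H690.Transfer
import Groth.Agent.Vancyc.H690.Trunc

/-!
# The equation of a relative non-degenerate quadratic point
-/

set_option autoImplicit false
universe u v

namespace Groth.Agent.Vancyc.H690.Equation

open IsLocalRing VanCyc TensorProduct Groth.Agent.Vancyc.H690.HensFree
  Groth.Agent.Vancyc.H690.HensPres Groth.Agent.Vancyc.H690.FinPres
  Groth.Agent.Vancyc.H690.Transfer

/-- The output of the analysis of the closed fibre. -/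
structure FibData (A B : Type u) [CommRing A] [IsLocalRing A] [CommRing B] [IsLocalRing B]
    [Algebra A B] {N : ℕ} (X : Fin N → B) (a : Fin N → Fin N → A) : Prop where
  mem : ∀ i, X i ∈ maximalIdeal B
  const : ∀ b : B, ∃ c : A, b - algebraMap A B c ∈ maximalIdeal B
  gen : ∀ z ∈ maximalIdeal B, ∃ c : Fin N → A, z - ∑ i, algebraMap A B (c i) * X i ∈
    (maximalIdeal A).map (algebraMap A B) ⊔ maximalIdeal B ^ 2
  nondeg : QuadNondeg a
  quad : MvPolynomial.aeval X (quadPoly a) ∈
    (maximalIdeal A).map (algebraMap A B) ⊔ maximalIdeal B ^ 3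
  div : ∀ r, 3 ≤ r → ∀ f p : MvPolynomial (Fin N) A,
    MvPolynomial.map (residue A) (f - quadPoly a) ∈
      MvPolynomial.idealOfVars (Fin N) (ResidueField A) ^ 3 →
    MvPolynomial.aeval X f ∈ (maximalIdeal A).map (algebraMap A B) ⊔ maximalIdeal B ^ r →
    MvPolynomial.aeval X p ∈ (maximalIdeal A).map (algebraMap A B) ⊔ maximalIdeal B ^ r →
    ∃ s : MvPolynomial (Fin N) A, MvPolynomial.map (residue A) (p - s * f) ∈
      MvPolynomial.idealOfVars (Fin N) (ResidueField A) ^ r

theorem map_quadPoly {A k : Type u} [CommRing A] [CommRing k] (f : A →+* k) {N : ℕ}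
    (a : Fin N → Fin N → A) :
    MvPolynomial.map f (quadPoly a) = quadPoly fun i j => f (a i j) := by
  rw [quadPoly, quadPoly, map_sum]
  refine Finset.sum_congr rfl fun i _ => ?_
  rw [map_sum]
  refine Finset.sum_congr rfl fun j _ => ?_
  split_ifs
  · rw [map_mul, map_mul, MvPolynomial.map_C, MvPolynomial.map_X, MvPolynomial.map_X]
  · rw [map_zero]

/-- The closed fibre of a radicial non-degenerate quadratic point. -/
theorem exists_fibData (A : Type u) [CommRing A] [IsLocalRing A]
    (B₀ : Type u) [CommRing B₀] [Algebra A B₀] [Algebra.FiniteType A B₀]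
    (P : Ideal B₀) [P.IsPrime] (hP : (maximalIdeal A).map (algebraMap A B₀) ≤ P)
    (hPi : ∀ y : B₀, ∃ (e : ℕ) (c : A),
      y ^ ringExpChar (ResidueField A) ^ e - algebraMap A B₀ c ∈ P)
    (n : ℕ) (hq : IsNondegQuadPt (fibHom A (Localization.AtPrime P)) n) :
    ∃ (X : Fin (n + 1) → Localization.AtPrime P) (a : Fin (n + 1) → Fin (n + 1) → A),
      FibData A (Localization.AtPrime P) X a := by
  let B := Localization.AtPrime P
  let k := ResidueField A
  let O := fibQuot A B
  have hAB : (maximalIdeal A).map (algebraMap A B) ≤ maximalIdeal B := by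
    rw [IsScalarTower.algebraMap_eq A B₀ B, ← Ideal.map_map]
    refine (Ideal.map_mono hP).trans ?_
    rw [Localization.AtPrime.map_eq_maximalIdeal]
  have hO : IsLocalRing O := isLocalRing_fib hAB
  let _ : Algebra k O := (fibHom A B).toAlgebra
  have hess : Algebra.EssFiniteType k O := essFiniteType_fib B₀ P
  have hs : Function.Surjective (algebraMap k (ResidueField O)) :=
    ResField.surjective_algebraMap (pow_mem_fib B₀ P hPi) hq
  obtain ⟨x, hx, hgen, a, ha, hquad, hdiv⟩ := FibMain.exists_coords hs hq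
  let m : B →+* O := Ideal.Quotient.mk _
  have hm : Function.Surjective m := Ideal.Quotient.mk_surjective
  have hmA : ∀ c : A, m (algebraMap A B c) = algebraMap k O (residue A c) := fun c => rfl
  have hmem : ∀ (r : ℕ) (b : B), m b ∈ maximalIdeal O ^ r ↔
      b ∈ (maximalIdeal A).map (algebraMap A B) ⊔ maximalIdeal B ^ r :=
    fun r b => mem_fib_iff r b
  have hmem1 : ∀ b : B, m b ∈ maximalIdeal O ↔ b ∈ maximalIdeal B := by
    intro b
    have h1 := hmem 1 b
    rwa [pow_one, pow_one, sup_eq_right.mpr hAB] at h1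
  choose X hX using fun i => hm (x i)
  choose â hâ using fun i j => residue_surjective (a i j)
  have haev : ∀ p : MvPolynomial (Fin (n + 1)) A,
      m (MvPolynomial.aeval X p) = MvPolynomial.aeval x (MvPolynomial.map (residue A) p) := by
    intro p
    induction p using MvPolynomial.induction_on with
    | C c => rw [MvPolynomial.map_C, MvPolynomial.algHom_C, MvPolynomial.algHom_C, hmA]
    | add p q hp hq => rw [map_add, map_add, hp, hq, map_add, map_add]
    | mul_X p i hp => rw [map_mul, map_mul, hp, map_mul, map_mul, MvPolynomial.map_X,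
        MvPolynomial.aeval_X, MvPolynomial.aeval_X, hX]
  have hâa : MvPolynomial.map (residue A) (quadPoly â) = quadPoly a := by
    rw [map_quadPoly]
    congr 1
    funext i j
    exact hâ i j
  refine ⟨X, â, ⟨fun i => ?_, fun b => ?_, fun z hz => ?_, ?_, ?_, fun r hr f p hf hfX hpX => ?_⟩⟩
  · rw [← hmem1, hX]
    exact hx i
  · obtain ⟨c, hc⟩ := hs (residue O (m b))
    obtain ⟨c, rfl⟩ := residue_surjective c
    refine ⟨c, ?_⟩
    rw [← hmem1, map_sub, hmA, ← residue_eq_zero_iff, map_sub, ← hc, sub_eq_zero]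
    rfl
  · obtain ⟨c, hc⟩ := hgen (m z) ((hmem1 z).mpr hz)
    choose ĉ hĉ using fun i => residue_surjective (c i)
    refine ⟨ĉ, ?_⟩
    have h1 : m (z - ∑ i, algebraMap A B (ĉ i) * X i) =
        m z - ∑ i, algebraMap k O (c i) * x i := by
      rw [map_sub, map_sum]
      congr 1
      refine Finset.sum_congr rfl fun i _ => ?_
      rw [map_mul, hmA, hĉ, hX]
    refine (hmem 2 _).mp ?_
    rw [h1]
    exact hc
  · have h1 : (residue A) (polarMatrix â).det = (polarMatrix a).det := by
      rw [RingHom.map_det]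
      congr 1
      ext i j
      rw [RingHom.mapMatrix_apply, Matrix.map_apply, polarMatrix, polarMatrix]
      split_ifs
      · rw [map_mul, map_ofNat, hâ]
      · rw [hâ]
      · rw [hâ]
    rw [QuadNondeg] at ha ⊢
    rw [← h1] at ha
    exact (isUnit_map_iff (residue A) _).mp ha
  · rw [← hmem, haev, hâa]
    exact hquad
  · rw [← hmem, haev] at hfX hpX
    rw [map_sub, hâa] at hf
    obtain ⟨s, hs⟩ := hdiv r hr _ _ hf hfX hpX
    obtain ⟨ŝ, rfl⟩ := MvPolynomial.map_surjective (residue A) residue_surjective s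
    refine ⟨ŝ, ?_⟩
    rw [map_sub, map_mul]
    exact hs

end Groth.Agent.Vancyc.H690.Equation
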