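import Groth.Agent.Vancyc.H690.ResDer2
import Groth.Agent.Vancyc.H690.Morse
import Mathlib.RingTheory.Kaehler.Basic
import Groth.Agent.Vancyc.H678.P2
import Groth.Agent.Vancyc.H689.TruncPS
import Mathlib.RingTheory.Unramified.Field
import Mathlib.FieldTheory.PurelyInseparable.Basic
import Mathlib.RingTheory.EssentialFiniteness

/-!
# The residue field at a non-degenerate quadratic point is separable

`O` a local `k`-algebra essentially of finite type, with residue field purely inseparable over `k`, such that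
every localisation of `k̄ ⊗ O` at a maximal ideal is a non-degenerate quadratic singularity.  Then `k` is the
residue field of `O`.
-/

set_option autoImplicit false
universe u v

namespace Groth.Agent.Vancyc.H690.ResField

open IsLocalRing TensorProduct VanCyc

/-- Coordinates at a quadratic point. -/
theorem exists_gen {K L : Type u} [Field K] [CommRing L] [IsLocalRing L] [IsNoetherianRing L]
    [Algebra K L] {n : ℕ} (hq : IsNondegQuadSing K L n) :
    ∃ x : Fin (n + 1) → L, (∀ i, x i ∈ maximalIdeal L) ∧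
      maximalIdeal L ≤ Ideal.span (Set.range x) ⊔ maximalIdeal L ^ 2 := by
  obtain ⟨f, hf, ⟨e⟩⟩ := hq
  obtain ⟨τ, hτ, hk⟩ := Groth.Agent.Vancyc.H689.TruncPS.hasTrunc_of_completion f e 2
  choose x hx using fun i => Ideal.Quotient.mk_surjective (τ (MvPowerSeries.X i))
  have hker : ∀ g, g ∈ Groth.Agent.Vancyc.H689.PSPow.M K (n + 1) ^ 2 → τ g = 0 := by
    intro g hg
    rw [← RingHom.mem_ker, hk]
    exact Ideal.mem_sup_right hg
  have hx1 : ∀ i, x i ∈ maximalIdeal L := by
    intro i
    have h1 : x i ^ 2 ∈ maximalIdeal L ^ 2 := by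
      rw [← Ideal.Quotient.eq_zero_iff_mem, map_pow, hx, ← map_pow]
      have h2 : (MvPowerSeries.X i : MvPowerSeries (Fin (n + 1)) K) ∈
          Groth.Agent.Vancyc.H689.PSPow.M K (n + 1) := Ideal.subset_span (Set.mem_range_self i)
      exact hker _ (Ideal.pow_mem_pow h2 2)
    exact Ideal.IsPrime.mem_of_pow_mem inferInstance 2 (Ideal.pow_le_self two_ne_zero h1)
  have hspan : ∀ g ∈ Groth.Agent.Vancyc.H689.PSPow.M K (n + 1), ∀ l : L,
      Ideal.Quotient.mk (maximalIdeal L ^ 2) l = τ g →
      l ∈ Ideal.span (Set.range x) ⊔ maximalIdeal L ^ 2 := by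
    intro g hg l hl
    have h1 : τ g ∈ (Ideal.span (Set.range x)).map (Ideal.Quotient.mk (maximalIdeal L ^ 2)) := by
      have h2 := Ideal.mem_map_of_mem τ hg
      rw [Groth.Agent.Vancyc.H689.PSPow.M, Ideal.map_span, ← Set.range_comp] at h2
      rw [Ideal.map_span, ← Set.range_comp]
      have h3 : (τ ∘ MvPowerSeries.X : Fin (n + 1) → L ⧸ maximalIdeal L ^ 2) =
          (Ideal.Quotient.mk (maximalIdeal L ^ 2)) ∘ x := by
        funext i
        exact (hx i).symm
      rwa [h3] at h2
    rw [← hl] at h1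
    have h2 : l ∈ ((Ideal.span (Set.range x)).map (Ideal.Quotient.mk (maximalIdeal L ^ 2))).comap
      (Ideal.Quotient.mk (maximalIdeal L ^ 2)) := h1
    rw [Ideal.comap_map_of_surjective _ Ideal.Quotient.mk_surjective] at h2
    have h3 : (⊥ : Ideal (L ⧸ maximalIdeal L ^ 2)).comap (Ideal.Quotient.mk (maximalIdeal L ^ 2)) =
        maximalIdeal L ^ 2 := by
      ext z
      rw [Ideal.mem_comap, Ideal.mem_bot, Ideal.Quotient.eq_zero_iff_mem]
    rwa [h3] at h2
  refine ⟨x, hx1, fun l hl => ?_⟩
  obtain ⟨g, hg⟩ := hτ (Ideal.Quotient.mk _ l)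
  set c := MvPowerSeries.constantCoeff g with hc
  have hgc : g - MvPowerSeries.C c ∈ Groth.Agent.Vancyc.H689.PSPow.M K (n + 1) := by
    rw [Groth.Agent.Vancyc.H689.PSPow.M, CurvesB.SeriesEval.mem_span_range_X_iff]
    simp [hc]
  have hτc : τ (MvPowerSeries.C c) = Ideal.Quotient.mk _ (algebraMap K L c) := by
    have h1 : (MvPowerSeries.C c : MvPowerSeries (Fin (n + 1)) K) = algebraMap K _ c := rfl
    rw [h1, AlgHom.commutes]
    rfl
  have h2 := hspan _ hgc (l - algebraMap K L c) (by rw [map_sub, map_sub, hg, hτc])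
  have hle : Ideal.span (Set.range x) ⊔ maximalIdeal L ^ 2 ≤ maximalIdeal L := by
    refine sup_le ?_ (Ideal.pow_le_self two_ne_zero)
    rw [Ideal.span_le]
    rintro _ ⟨i, rfl⟩
    exact hx1 i
  have h3 : algebraMap K L c ∈ maximalIdeal L := by
    have h4 := Ideal.sub_mem _ hl (hle h2)
    rwa [sub_sub_cancel] at h4
  have h4 : c = 0 := by
    by_contra h5
    exact h3 ((isUnit_iff_ne_zero.mpr h5).map (algebraMap K L))
  rwa [h4, map_zero, sub_zero] at h2

/-- Coordinates with the control of truncations. -/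
theorem low_terms {K L : Type u} [Field K] [CommRing L] [IsLocalRing L]
    [Algebra K L] {n : ℕ} (x : Fin (n + 1) → L) (g : MvPowerSeries (Fin (n + 1)) K)
    (hg : NondegQuadSeries g)
    (H : ∀ (r : ℕ) (p : MvPolynomial (Fin (n + 1)) K), MvPolynomial.aeval x p ∈ maximalIdeal L ^ r ↔
        (p : MvPowerSeries (Fin (n + 1)) K) ∈ Ideal.span {g} ⊔
          (Ideal.span (Set.range MvPowerSeries.X)) ^ r) :
    (∀ p : MvPolynomial (Fin (n + 1)) K, MvPolynomial.aeval x p ∈ maximalIdeal L ^ 2 →
      p ∈ MvPolynomial.idealOfVars (Fin (n + 1)) K ^ 2) ∧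
    MvPolynomial.aeval x (quadPoly (quadPart g)) ∈ maximalIdeal L ^ 3 := by
  refine ⟨fun p hp => ?_, ?_⟩
  · rw [H] at hp
    rw [← Groth.Agent.Vancyc.H689.PSPow.coe_mem_pow_iff]
    have h1 : Ideal.span {g} ≤ Groth.Agent.Vancyc.H689.PSPow.M K (n + 1) ^ 2 := by
      rw [Ideal.span_singleton_le_iff_mem]
      exact Groth.Agent.Vancyc.H689.PSPow.mem_sq_of_noLowTerms hg.1
    rwa [sup_eq_right.mpr h1] at hp
  · rw [H]
    have h1 := Groth.Agent.Vancyc.H689.PSPow.sub_quadPart_mem hg.1
    have h2 : ((quadPoly (quadPart g) : MvPolynomial (Fin (n + 1)) K) :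
        MvPowerSeries (Fin (n + 1)) K) = g - (g - ((quadPoly (quadPart g) :
          MvPolynomial (Fin (n + 1)) K) : MvPowerSeries (Fin (n + 1)) K)) := by ring
    rw [h2]
    exact Ideal.sub_mem _ (Ideal.mem_sup_left (Ideal.mem_span_singleton_self g))
      (Ideal.mem_sup_right h1)

/-- The map to the dual numbers attached to a derivation. -/
theorem exists_dual {k κ K : Type u} [Field k] [Field κ] [Field K] [Algebra k κ] [Algebra k K]
    [Algebra κ K] [IsScalarTower k κ K] (D : Derivation k κ κ) :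
    ∃ φ₀ : κ →ₐ[k] DualNumber K, (∀ y, TrivSqZeroExt.fst (φ₀ y) = algebraMap κ K y) ∧
      ∀ y, TrivSqZeroExt.snd (φ₀ y) = algebraMap κ K (D y) := by
  refine ⟨{ toFun := fun y => (TrivSqZeroExt.inl (algebraMap κ K y) +
          TrivSqZeroExt.inr (algebraMap κ K (D y)) : DualNumber K)
            map_one' := ?_
            map_mul' := ?_
            map_zero' := ?_
            map_add' := ?_
            commutes' := ?_ }, fun y => ?_, fun y => ?_⟩
  · rw [Derivation.map_one_eq_zero, map_zero, map_one, TrivSqZeroExt.inr_zero, add_zero,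
      TrivSqZeroExt.inl_one]
  · intro y z
    refine TrivSqZeroExt.ext ?_ ?_
    · rw [TrivSqZeroExt.fst_mul, TrivSqZeroExt.fst_add, TrivSqZeroExt.fst_add,
        TrivSqZeroExt.fst_add, TrivSqZeroExt.fst_inl, TrivSqZeroExt.fst_inl,
        TrivSqZeroExt.fst_inl, TrivSqZeroExt.fst_inr, TrivSqZeroExt.fst_inr,
        TrivSqZeroExt.fst_inr, map_mul]
      ring
    · rw [DualDual.snd_mul', TrivSqZeroExt.fst_add, TrivSqZeroExt.fst_add,
        TrivSqZeroExt.snd_add, TrivSqZeroExt.snd_add, TrivSqZeroExt.snd_add,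
        TrivSqZeroExt.fst_inl, TrivSqZeroExt.fst_inl, TrivSqZeroExt.snd_inl,
        TrivSqZeroExt.snd_inl, TrivSqZeroExt.snd_inl, TrivSqZeroExt.fst_inr,
        TrivSqZeroExt.fst_inr, TrivSqZeroExt.snd_inr, TrivSqZeroExt.snd_inr,
        TrivSqZeroExt.snd_inr, Derivation.leibniz, map_add, smul_eq_mul, smul_eq_mul, map_mul,
        map_mul]
      ring
  · rw [map_zero, map_zero, map_zero, TrivSqZeroExt.inr_zero, add_zero, TrivSqZeroExt.inl_zero]
  · intro y z
    rw [map_add, map_add, map_add, TrivSqZeroExt.inl_add, TrivSqZeroExt.inr_add]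
    abel
  · intro r
    rw [Derivation.map_algebraMap, map_zero, TrivSqZeroExt.inr_zero, add_zero,
      ← IsScalarTower.algebraMap_apply]
    rfl
  · change TrivSqZeroExt.fst (TrivSqZeroExt.inl (algebraMap κ K y) +
          TrivSqZeroExt.inr (algebraMap κ K (D y)) : DualNumber K) = _
    rw [TrivSqZeroExt.fst_add, TrivSqZeroExt.fst_inl, TrivSqZeroExt.fst_inr, add_zero]
  · change TrivSqZeroExt.snd (TrivSqZeroExt.inl (algebraMap κ K y) +
          TrivSqZeroExt.inr (algebraMap κ K (D y)) : DualNumber K) = _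
    rw [TrivSqZeroExt.snd_add, TrivSqZeroExt.snd_inl, TrivSqZeroExt.snd_inr, zero_add]

/-- `k` is separably closed in the residue field. -/
theorem surjective_algebraMap {k O : Type u} [Field k] [CommRing O] [IsLocalRing O] [Algebra k O]
    [Algebra.EssFiniteType k O]
    (hpi : ∀ y : ResidueField O, ∃ (e : ℕ) (c : k), y ^ ringExpChar k ^ e =
      algebraMap k (ResidueField O) c) {n : ℕ}
    (hq : ∀ (M : Ideal (AlgebraicClosure k ⊗[k] O)) [M.IsMaximal],
      IsNondegQuadSing (AlgebraicClosure k) (Localization.AtPrime M) n) :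
    Function.Surjective (algebraMap k (ResidueField O)) := by
  have hpure : IsPurelyInseparable k (ResidueField O) := by
    rw [isPurelyInseparable_iff_pow_mem k (ringExpChar k)]
    intro y
    obtain ⟨e, c, h⟩ := hpi y
    exact ⟨e, c, h.symm⟩
  have hess : Algebra.EssFiniteType k (ResidueField O) :=
    inferInstanceAs (Algebra.EssFiniteType k (O ⧸ maximalIdeal O))
  let κ := ResidueField O
  let K := AlgebraicClosure k
  let emb : κ →ₐ[k] K := IsAlgClosed.lift
  let _ : Algebra κ K := emb.toRingHom.toAlgebra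
  have : IsScalarTower k κ K := IsScalarTower.of_algebraMap_eq fun c => (emb.commutes c).symm
  have : IsNoetherianRing (K ⊗[k] O) := Algebra.EssFiniteType.isNoetherianRing K _
  let L := Localization.AtPrime (RingHom.ker (ResDer.mu k κ K O))
  have : IsNoetherianRing L := IsLocalization.isNoetherianRing
    (RingHom.ker (ResDer.mu k κ K O)).primeCompl L inferInstance
  have hq' : IsNondegQuadSing K L n := hq _
  obtain ⟨x, hx, hgen⟩ := exists_gen hq'
  obtain ⟨g, hg, H⟩ := Groth.Agent.Vancyc.H678.P2.exists_nondegQuadSeries hq' x hx hgen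
  obtain ⟨H2, H3⟩ := low_terms x g hg H
  have H4 : VanCyc.quadEval (fun i j => algebraMap K L (quadPart g i j)) x ∈ maximalIdeal L ^ 3 := by
    rw [Groth.Agent.Vancyc.H690.Morse.aeval_quadPoly] at H3
    exact H3
  have hder : ∀ D : Derivation k κ κ, D = 0 := by
    intro D
    obtain ⟨φ₀, hφ1, hφ2⟩ := exists_dual (K := K) D
    ext y
    obtain ⟨b, rfl⟩ := IsLocalRing.residue_surjective y
    have h1 := ResDer2.snd_eq_zero (k := k) (κ := κ) (K := K) (O := O) (L := L) φ₀
      hφ1 x hx hgen H2 (quadPart g) hg.2 H4 b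
    have h2 : algebraMap κ K (D (algebraMap O κ b)) = 0 := by
      rw [← h1, hφ2]
    have h3 := (algebraMap κ K).injective (h2.trans (map_zero _).symm)
    rw [Derivation.zero_apply]
    exact h3
  have hΩ : Subsingleton (Ω[κ⁄k]) := by
    refine ⟨fun a b => ?_⟩
    rw [← sub_eq_zero, ← Module.forall_dual_apply_eq_zero_iff κ]
    intro f
    have h1 : f = 0 := by
      have h2 := hder (f.compDer (KaehlerDifferential.D k κ))
      have h3 := (KaehlerDifferential.linearMapEquivDerivation k κ (M := κ)).injective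
        (a₁ := f) (a₂ := 0)
      apply h3
      rw [map_zero]
      exact h2
    rw [h1, LinearMap.zero_apply]
  have hunr : Algebra.FormallyUnramified k κ := ⟨hΩ⟩
  have hsep : Algebra.IsSeparable k κ := (Algebra.FormallyUnramified.iff_isSeparable k κ).mp hunr
  exact IsPurelyInseparable.surjective_algebraMap_of_isSeparable k κ

end Groth.Agent.Vancyc.H690.ResField
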