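import Groth.Agent.Vancyc.H690.FibKey
import Groth.Agent.Vancyc.H690.ResField
import Mathlib.LinearAlgebra.Dimension.StrongRankCondition
import Mathlib.LinearAlgebra.Dimension.Finite
import Mathlib.LinearAlgebra.Dimension.Free

/-!
# Coordinates at a rational non-degenerate quadratic point
-/

set_option autoImplicit false
universe u v

namespace Groth.Agent.Vancyc.H690.FibCoord

open IsLocalRing TensorProduct Groth.Agent.Vancyc.H690.ResDer Groth.Agent.Vancyc.H690.FibKey VanCyc

section Coord

variable {k κ K O : Type u} [Field k] [Field κ] [Field K] [CommRing O] [Algebra k κ] [Algebra k K]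
  [Algebra κ K] [IsScalarTower k κ K] [Algebra k O] [Algebra O κ] [IsScalarTower k O κ]
  [IsLocalRing O] {L : Type u} [CommRing L] [IsLocalRing L] [Algebra (K ⊗[k] O) L] [Algebra K L]
  [IsScalarTower K (K ⊗[k] O) L] [IsLocalization.AtPrime L (RingHom.ker (mu k κ K O))]

/-- The cotangent space of `O` has dimension at most that of `L`. -/
theorem rank_cotangent_le (k κ K O L : Type u) [Field k] [Field κ] [Field K] [CommRing O]
    [Algebra k κ] [Algebra k K] [Algebra κ K] [IsScalarTower k κ K] [Algebra k O] [Algebra O κ]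
    [IsScalarTower k O κ] [IsLocalRing O] [CommRing L] [IsLocalRing L] [Algebra (K ⊗[k] O) L]
    [Algebra K L] [IsScalarTower K (K ⊗[k] O) L]
    [IsLocalization.AtPrime L (RingHom.ker (mu k κ K O))] (hκ : ∀ b : O, algebraMap O κ b = 0 → b ∈ maximalIdeal O)
    (hκ' : ∀ b ∈ maximalIdeal O, algebraMap O κ b = 0)
    (hs : Function.Surjective (algebraMap k κ)) {N : ℕ} (x : Fin N → L)
    (hx : ∀ i, x i ∈ maximalIdeal L)
    (hgen : maximalIdeal L ≤ Ideal.span (Set.range x) ⊔ maximalIdeal L ^ 2) :
    Module.rank k (maximalIdeal O).Cotangent ≤ N := by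
  classical
  refine rank_le fun s hsi => ?_
  obtain ⟨ρ, hρO, hρ⟩ := exists_residue k κ K O (L := L)
  let V := L ⧸ (maximalIdeal L ^ 2)
  let mkV : L →ₐ[K] V := Ideal.Quotient.mkₐ K _
  have hmkV : ∀ l, mkV l = 0 ↔ l ∈ maximalIdeal L ^ 2 := fun l => Ideal.Quotient.eq_zero_iff_mem
  -- the span of the coordinates
  have hspan : ∀ l ∈ maximalIdeal L, mkV l ∈ Submodule.span K (Set.range fun i => mkV (x i)) := by
    intro l hl
    obtain ⟨y, hy, z, hz, hyz⟩ := Submodule.mem_sup.mp (hgen hl)
    obtain ⟨c, hc⟩ := Ideal.mem_span_range_iff_exists_fun.mp hy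
    rw [← hyz, map_add, (hmkV z).mpr hz, add_zero, ← hc, map_sum]
    refine Submodule.sum_mem _ fun i _ => ?_
    have h1 : mkV (c i * x i) = ρ (c i) • mkV (x i) := by
      rw [← map_smul, ← sub_eq_zero, ← map_sub, hmkV, Algebra.smul_def, ← sub_mul, pow_two]
      refine Ideal.mul_mem_mul ?_ (hx i)
      rw [← hρ, RingHom.mem_ker, map_sub, AlgHom.commutes, Algebra.algebraMap_self_apply, sub_self]
    rw [h1]
    exact Submodule.smul_mem _ _ (Submodule.subset_span ⟨i, rfl⟩)
  choose z hz using fun u : s => (maximalIdeal O).toCotangent_surjective u.1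
  let w : s → V := fun u => mkV (algebraMap (K ⊗[k] O) L (1 ⊗ₜ (z u : O)))
  have hw : LinearIndependent K w := by
    rw [Fintype.linearIndependent_iff]
    intro c hc u
    rw [← Module.forall_dual_apply_eq_zero_iff k]
    intro ℓ
    have h1 : algebraMap (K ⊗[k] O) L (∑ u, c u ⊗ₜ (z u : O)) ∈ maximalIdeal L ^ 2 := by
      rw [← hmkV, map_sum, map_sum, ← hc]
      refine Finset.sum_congr rfl fun u _ => ?_
      rw [← map_smul]
      congr 1
      have h2 : (c u ⊗ₜ[k] (z u : O) : K ⊗[k] O) = algebraMap K (K ⊗[k] O) (c u) * (1 ⊗ₜ (z u : O)) := by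
        rw [Algebra.TensorProduct.algebraMap_apply, Algebra.TensorProduct.tmul_mul_tmul, mul_one,
          one_mul, Algebra.algebraMap_self_apply]
      rw [h2, map_mul, ← IsScalarTower.algebraMap_apply, Algebra.smul_def]
    have h2 := push_mem_pow (κ := κ) (L := L) hκ hκ' hs ℓ 2 _ h1
    rw [map_sum] at h2
    simp only [push_tmul] at h2
    have h3 : ∑ u, ℓ (c u) • (maximalIdeal O).toCotangent (z u) = 0 := by
      have h4 : ∑ u, ℓ (c u) • (maximalIdeal O).toCotangent (z u) =
          (maximalIdeal O).toCotangent (∑ u, ℓ (c u) • z u) := by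
        rw [map_sum]
        refine Finset.sum_congr rfl fun u _ => ?_
        rw [← algebraMap_smul O (ℓ (c u)) (z u), map_smul, algebraMap_smul]
      rw [h4, Ideal.toCotangent_eq_zero]
      convert h2
      rw [AddSubmonoidClass.coe_finsetSum]
      refine Finset.sum_congr rfl fun u _ => ?_
      rfl
    simp only [hz] at h3
    exact Fintype.linearIndependent_iff.mp hsi (fun u => ℓ (c u)) h3 u
  have h5 := linearIndependent_le_span' w hw (Set.range fun i => mkV (x i)) (by
    rintro _ ⟨u, rfl⟩
    refine hspan _ ?_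
    have h6 := algebraMap_mem (κ := κ) (k := k) (K := K) (L := L) hκ' (z u : O) 1
      (by rw [pow_one]; exact (z u).2)
    rwa [pow_one] at h6)
  have h6 : Fintype.card (Set.range fun i => mkV (x i)) ≤ N := by
    have h7 := Fintype.card_range_le fun i => mkV (x i)
    rwa [Fintype.card_fin] at h7
  rw [Cardinal.mk_coe_finset] at h5
  exact (Nat.cast_le.mp h5).trans h6

end Coord

/-- Coordinates from a bound on the dimension of the cotangent space. -/
theorem exists_coord_of_rank {k O : Type u} [Field k] [CommRing O] [IsLocalRing O] [Algebra k O]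
    {N : ℕ} (h : Module.rank k (maximalIdeal O).Cotangent ≤ N) :
    ∃ x : Fin N → O, (∀ i, x i ∈ maximalIdeal O) ∧
      ∀ z ∈ maximalIdeal O, ∃ c : Fin N → k, z - ∑ i, algebraMap k O (c i) * x i ∈
        maximalIdeal O ^ 2 := by
  classical
  have hfin : Module.Finite k (maximalIdeal O).Cotangent :=
    Module.rank_lt_aleph0_iff.mp (h.trans_lt (Cardinal.natCast_lt_aleph0))
  have hd : Module.finrank k (maximalIdeal O).Cotangent ≤ N := Module.finrank_le_of_rank_le h
  let b := Module.finBasis k (maximalIdeal O).Cotangent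
  let t : Fin N → (maximalIdeal O).Cotangent := fun i =>
    if h : (i : ℕ) < Module.finrank k (maximalIdeal O).Cotangent then b ⟨i, h⟩ else 0
  have ht : Submodule.span k (Set.range t) = ⊤ := by
    rw [eq_top_iff, ← b.span_eq]
    refine Submodule.span_mono ?_
    rintro _ ⟨j, rfl⟩
    refine ⟨Fin.castLE hd j, ?_⟩
    have h1 : ((Fin.castLE hd j : Fin N) : ℕ) < Module.finrank k (maximalIdeal O).Cotangent := j.2
    change (if h : _ then b ⟨_, h⟩ else 0) = _
    rw [dif_pos h1]
    rfl
  choose y hy using fun i => (maximalIdeal O).toCotangent_surjective (t i)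
  refine ⟨fun i => y i, fun i => (y i).2, fun z hz => ?_⟩
  have h1 : (maximalIdeal O).toCotangent ⟨z, hz⟩ ∈ Submodule.span k (Set.range t) := by
    rw [ht]
    trivial
  obtain ⟨c, hc⟩ := (Submodule.mem_span_range_iff_exists_fun k).mp h1
  refine ⟨c, ?_⟩
  have h2 : (maximalIdeal O).toCotangent (⟨z, hz⟩ - ∑ i, algebraMap k O (c i) • y i) = 0 := by
    rw [map_sub, ← hc, map_sum, sub_eq_zero]
    refine Finset.sum_congr rfl fun i _ => ?_
    rw [map_smul, hy, algebraMap_smul]
  rw [Ideal.toCotangent_eq_zero] at h2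
  convert h2
  rw [AddSubgroupClass.coe_sub, AddSubmonoidClass.coe_finsetSum]
  rfl

end Groth.Agent.Vancyc.H690.FibCoord
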