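import Groth.Agent.Vancyc.H690.ResDer
import Mathlib.RingTheory.Localization.AtPrime.Basic
import Mathlib.RingTheory.MvPolynomial.Ideal
import Mathlib.LinearAlgebra.Dual.Lemmas

/-!
# Descending membership in powers of the maximal ideal from `K ⊗ O` to `O`
-/

set_option autoImplicit false
universe u v

namespace Groth.Agent.Vancyc.H690.FibKey

open IsLocalRing TensorProduct Groth.Agent.Vancyc.H690.ResDer

section Functional

variable {k K O : Type*} [Field k] [Field K] [CommRing O] [Algebra k K] [Algebra k O]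

/-- The map `K ⊗ O → O` induced by a functional. -/
noncomputable def push (ℓ : K →ₗ[k] k) : K ⊗[k] O →ₗ[k] O :=
  (TensorProduct.lid k O).toLinearMap.comp (LinearMap.rTensor O ℓ)

theorem push_tmul (ℓ : K →ₗ[k] k) (a : K) (b : O) : push ℓ (a ⊗ₜ[k] b) = ℓ a • b := by
  rw [push, LinearMap.comp_apply, LinearMap.rTensor_tmul]
  exact TensorProduct.lid_tmul b (ℓ a)

theorem push_mul (ℓ : K →ₗ[k] k) (z : K ⊗[k] O) (c : O) :
    push ℓ (z * (1 ⊗ₜ c)) = push ℓ z * c := by
  induction z using TensorProduct.induction_on with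
  | zero => rw [zero_mul, map_zero, zero_mul]
  | tmul a b => rw [Algebra.TensorProduct.tmul_mul_tmul, mul_one, push_tmul, push_tmul,
      smul_mul_assoc]
  | add y z hy hz => rw [add_mul, map_add, hy, hz, map_add, add_mul]

theorem push_mem (ℓ : K →ₗ[k] k) (I : Ideal O) (z : K ⊗[k] O)
    (hz : z ∈ I.map (Algebra.TensorProduct.includeRight : O →ₐ[k] K ⊗[k] O)) : push ℓ z ∈ I := by
  refine Submodule.span_induction (p := fun z _ => ∀ w : K ⊗[k] O, push ℓ (w * z) ∈ I)
    ?_ ?_ ?_ ?_ hz 1 |> fun h => by rwa [one_mul] at h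
  · rintro _ ⟨c, hc, rfl⟩ w
    have h1 : (Algebra.TensorProduct.includeRight : O →ₐ[k] K ⊗[k] O) c = 1 ⊗ₜ c := rfl
    rw [h1, push_mul]
    exact Ideal.mul_mem_left _ _ hc
  · intro w
    rw [mul_zero, map_zero]
    exact zero_mem _
  · intro y z _ _ hy hz w
    rw [mul_add, map_add]
    exact add_mem (hy w) (hz w)
  · intro c z _ hz w
    rw [smul_eq_mul, ← mul_assoc]
    exact hz _

/-- Apply a functional to the coefficients of a polynomial. -/
noncomputable def lc {σ : Type*} (ℓ : K →ₗ[k] k) (p : MvPolynomial σ K) : MvPolynomial σ k :=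
  ∑ d ∈ p.support, MvPolynomial.monomial d (ℓ (p.coeff d))

theorem coeff_lc {σ : Type*} (ℓ : K →ₗ[k] k) (p : MvPolynomial σ K) (d : σ →₀ ℕ) :
    (lc ℓ p).coeff d = ℓ (p.coeff d) := by
  classical
  rw [lc, MvPolynomial.coeff_sum]
  simp only [MvPolynomial.coeff_monomial]
  rw [Finset.sum_ite_eq' p.support d fun d => ℓ (p.coeff d)]
  split_ifs with h
  · rfl
  · rw [MvPolynomial.notMem_support_iff.mp h, map_zero]

theorem push_aeval {σ : Type*} (ℓ : K →ₗ[k] k) (x : σ → O) (p : MvPolynomial σ K) :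
    push ℓ (MvPolynomial.aeval (fun i => (1 ⊗ₜ[k] x i : K ⊗[k] O)) p) =
      MvPolynomial.aeval x (lc ℓ p) := by
  conv_lhs => rw [p.as_sum]
  rw [lc, map_sum, map_sum, map_sum]
  refine Finset.sum_congr rfl fun d _ => ?_
  rw [MvPolynomial.aeval_monomial, MvPolynomial.aeval_monomial]
  have h1 : (d.prod fun i n => (1 ⊗ₜ[k] x i : K ⊗[k] O) ^ n) = 1 ⊗ₜ (d.prod fun i n => x i ^ n) := by
    have h2 : ∀ c : O, (1 ⊗ₜ[k] c : K ⊗[k] O) =
      (Algebra.TensorProduct.includeRight : O →ₐ[k] K ⊗[k] O) c := fun c => rfl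
    simp only [h2]
    rw [Finsupp.prod, Finsupp.prod, map_prod]
    simp only [map_pow]
  rw [h1, Algebra.TensorProduct.algebraMap_apply, Algebra.TensorProduct.tmul_mul_tmul, mul_one,
    one_mul, push_tmul, Algebra.algebraMap_self_apply, Algebra.smul_def]

theorem lc_sub_mul {σ : Type*} (ℓ : K →ₗ[k] k) (hℓ : ℓ 1 = 1) (p f : MvPolynomial σ k)
    (s : MvPolynomial σ K) :
    lc ℓ (MvPolynomial.map (algebraMap k K) p - s * MvPolynomial.map (algebraMap k K) f) =
      p - lc ℓ s * f := by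
  classical
  ext d
  have h1 : ∀ (a : K) (b : k), ℓ (a * algebraMap k K b) = ℓ a * b := by
    intro a b
    rw [mul_comm, ← Algebra.smul_def, map_smul, smul_eq_mul, mul_comm]
  rw [coeff_lc, MvPolynomial.coeff_sub, map_sub, MvPolynomial.coeff_sub, MvPolynomial.coeff_map,
    MvPolynomial.coeff_mul, MvPolynomial.coeff_mul, map_sum]
  congr 1
  · have h2 := h1 1 (p.coeff d)
    rwa [one_mul, hℓ, one_mul] at h2
  · refine Finset.sum_congr rfl fun e _ => ?_
    rw [MvPolynomial.coeff_map, h1, coeff_lc]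

end Functional

section Powers

/-- Powers of a maximal ideal are contracted from the localisation. -/
theorem mem_pow_of_algebraMap_mem {R L : Type*} [CommRing R] [CommRing L] [Algebra R L]
    (M : Ideal R) [M.IsMaximal] [IsLocalization.AtPrime L M] [IsLocalRing L] (r : ℕ) (z : R)
    (hz : algebraMap R L z ∈ maximalIdeal L ^ r) : z ∈ M ^ r := by
  rw [← IsLocalization.AtPrime.map_eq_maximalIdeal M L, ← Ideal.map_pow,
    IsLocalization.mem_map_algebraMap_iff M.primeCompl] at hz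
  obtain ⟨⟨a, s⟩, h⟩ := hz
  rw [← map_mul, IsLocalization.eq_iff_exists M.primeCompl] at h
  obtain ⟨t, ht⟩ := h
  have hst : (t : R) * s ∉ M := fun h => by
    rcases (Ideal.IsPrime.mem_or_mem (hI := inferInstance) h : (t : R) ∈ M ∨ (s : R) ∈ M) with h | h
    · exact t.2 h
    · exact s.2 h
  have h1 : (t : R) * s * z ∈ M ^ r := by
    have h2 : (t : R) * s * z = t * a := by linear_combination ht
    rw [h2]
    exact Ideal.mul_mem_left _ _ a.2
  obtain ⟨y, hy⟩ : ∃ y : R, 1 - y * ((t : R) * (s : R)) ∈ M := by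
    obtain ⟨y, m, hm, hym⟩ := Ideal.IsMaximal.exists_inv (I := M) inferInstance hst
    exact ⟨y, by rw [← hym]; simpa using hm⟩
  have h2 : (1 - y * ((t : R) * (s : R))) ^ r * z ∈ M ^ r :=
    Ideal.mul_mem_right _ _ (Ideal.pow_mem_pow hy r)
  have h3 : (1 - (1 - y * (t * s)) ^ r) * z ∈ M ^ r := by
    obtain ⟨w, hw⟩ := sub_dvd_pow_sub_pow (1 : R) (1 - y * (t * s)) r
    rw [one_pow] at hw
    have h4 : (1 - (1 - y * (t * s)) ^ r) * z = (y * w) * (t * s * z) := by
      rw [hw]
      ring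
    rw [h4]
    exact Ideal.mul_mem_left _ _ h1
  have h4 := add_mem h2 h3
  have h5 : (1 - y * (t * s)) ^ r * z + (1 - (1 - y * (t * s)) ^ r) * z = z := by ring
  rwa [h5] at h4

end Powers

section Key

variable {k κ K O : Type*} [Field k] [Field κ] [Field K] [CommRing O] [Algebra k κ] [Algebra k K]
  [Algebra κ K] [IsScalarTower k κ K] [Algebra k O] [Algebra O κ] [IsScalarTower k O κ]
  [IsLocalRing O]

/-- The ideal of the geometric point is generated by the maximal ideal. -/
theorem ker_mu (hκ : ∀ b : O, algebraMap O κ b = 0 → b ∈ maximalIdeal O)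
    (hκ' : ∀ b ∈ maximalIdeal O, algebraMap O κ b = 0)
    (hs : Function.Surjective (algebraMap k κ)) :
    RingHom.ker (mu k κ K O) =
      (maximalIdeal O).map (Algebra.TensorProduct.includeRight : O →ₐ[k] K ⊗[k] O) := by
  refine le_antisymm ?_ ?_
  · intro z hz
    have h1 : ∀ z : K ⊗[k] O, z - (mu k κ K O z) ⊗ₜ 1 ∈
        (maximalIdeal O).map (Algebra.TensorProduct.includeRight : O →ₐ[k] K ⊗[k] O) := by
      intro z
      induction z using TensorProduct.induction_on with
      | zero => rw [map_zero, TensorProduct.zero_tmul, sub_zero]; exact zero_mem _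
      | tmul a b =>
        obtain ⟨c, hc⟩ := hs (algebraMap O κ b)
        have h2 : b - algebraMap k O c ∈ maximalIdeal O := by
          refine hκ _ ?_
          rw [map_sub, ← IsScalarTower.algebraMap_apply, hc, sub_self]
        have h3 : a ⊗ₜ[k] b - (mu k κ K O (a ⊗ₜ b)) ⊗ₜ 1 =
            (a ⊗ₜ 1) * (Algebra.TensorProduct.includeRight : O →ₐ[k] K ⊗[k] O)
              (b - algebraMap k O c) := by
          rw [mu_tmul, ← hc, ← IsScalarTower.algebraMap_apply,
            Algebra.TensorProduct.includeRight_apply, Algebra.TensorProduct.tmul_mul_tmul, mul_one,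
            one_mul, TensorProduct.tmul_sub, mul_comm a, ← Algebra.smul_def,
            TensorProduct.smul_tmul, Algebra.smul_def, mul_one]
        rw [h3]
        exact Ideal.mul_mem_left _ _ (Ideal.mem_map_of_mem _ h2)
      | add y z hy hz =>
        rw [map_add, TensorProduct.add_tmul]
        have h2 := add_mem hy hz
        have h3 : y - (mu k κ K O y) ⊗ₜ 1 + (z - (mu k κ K O z) ⊗ₜ 1) =
          y + z - ((mu k κ K O y) ⊗ₜ 1 + (mu k κ K O z) ⊗ₜ 1) := by abel
        rwa [h3] at h2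
    have h2 := h1 z
    rw [RingHom.mem_ker] at hz
    rwa [hz, TensorProduct.zero_tmul, sub_zero] at h2
  · rw [Ideal.map_le_iff_le_comap]
    intro b hb
    rw [Ideal.mem_comap, RingHom.mem_ker, Algebra.TensorProduct.includeRight_apply, mu_tmul,
      hκ' b hb, map_zero, mul_zero]

variable {L : Type*} [CommRing L] [IsLocalRing L] [Algebra (K ⊗[k] O) L] [Algebra K L]
  [IsScalarTower K (K ⊗[k] O) L] [IsLocalization.AtPrime L (RingHom.ker (mu k κ K O))]

omit [Algebra K L] [IsScalarTower K (K ⊗[k] O) L] in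
/-- **Descent of membership.** -/
theorem push_mem_pow (hκ : ∀ b : O, algebraMap O κ b = 0 → b ∈ maximalIdeal O)
    (hκ' : ∀ b ∈ maximalIdeal O, algebraMap O κ b = 0)
    (hs : Function.Surjective (algebraMap k κ)) (ℓ : K →ₗ[k] k) (r : ℕ) (z : K ⊗[k] O)
    (hz : algebraMap (K ⊗[k] O) L z ∈ maximalIdeal L ^ r) : push ℓ z ∈ maximalIdeal O ^ r := by
  have h1 := mem_pow_of_algebraMap_mem (RingHom.ker (mu k κ K O)) r z hz
  rw [ker_mu hκ hκ' hs, ← Ideal.map_pow] at h1
  exact push_mem ℓ _ z h1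

/-- Polynomials. -/
theorem aeval_lc_mem (hκ : ∀ b : O, algebraMap O κ b = 0 → b ∈ maximalIdeal O)
    (hκ' : ∀ b ∈ maximalIdeal O, algebraMap O κ b = 0)
    (hs : Function.Surjective (algebraMap k κ)) (ℓ : K →ₗ[k] k) (r : ℕ) {σ : Type*} (x : σ → O)
    (p : MvPolynomial σ K)
    (hp : MvPolynomial.aeval (fun i => algebraMap (K ⊗[k] O) L (1 ⊗ₜ x i)) p ∈
      maximalIdeal L ^ r) : MvPolynomial.aeval x (lc ℓ p) ∈ maximalIdeal O ^ r := by
  rw [← push_aeval]
  refine push_mem_pow (κ := κ) (L := L) hκ hκ' hs ℓ r _ ?_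
  have h1 : MvPolynomial.aeval (fun i => algebraMap (K ⊗[k] O) L (1 ⊗ₜ x i)) p =
      algebraMap (K ⊗[k] O) L (MvPolynomial.aeval (fun i => (1 ⊗ₜ[k] x i : K ⊗[k] O)) p) :=
    MvPolynomial.aeval_algebraMap_apply L (fun i => (1 ⊗ₜ[k] x i : K ⊗[k] O)) p
  rwa [← h1]

omit [Algebra K L] [IsScalarTower K (K ⊗[k] O) L] in
/-- The maximal ideal of `O` maps to the one of `L`. -/
theorem algebraMap_mem (hκ' : ∀ b ∈ maximalIdeal O, algebraMap O κ b = 0) (b : O) (r : ℕ)
    (hb : b ∈ maximalIdeal O ^ r) : algebraMap (K ⊗[k] O) L (1 ⊗ₜ b) ∈ maximalIdeal L ^ r := by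
  rw [← IsLocalization.AtPrime.map_eq_maximalIdeal (RingHom.ker (mu k κ K O)) L, ← Ideal.map_pow]
  refine Ideal.mem_map_of_mem _ ?_
  have h1 : (maximalIdeal O).map (Algebra.TensorProduct.includeRight : O →ₐ[k] K ⊗[k] O) ≤
      RingHom.ker (mu k κ K O) := by
    rw [Ideal.map_le_iff_le_comap]
    intro b hb
    rw [Ideal.mem_comap, RingHom.mem_ker, Algebra.TensorProduct.includeRight_apply, mu_tmul,
      hκ' b hb, map_zero, mul_zero]
  have h2 := Ideal.mem_map_of_mem
    (Algebra.TensorProduct.includeRight : O →ₐ[k] K ⊗[k] O) hb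
  rw [Ideal.map_pow] at h2
  exact Ideal.pow_right_mono h1 r h2

end Key

end Groth.Agent.Vancyc.H690.FibKey
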