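import Groth.Agent.Vancyc.H690.FibKey
import Groth.Agent.Vancyc.H690.Morse
import Groth.Agent.Vancyc.H689.PSPow

/-!
# Descending the equation of a non-degenerate quadratic singularity
-/

set_option autoImplicit false
universe u v

namespace Groth.Agent.Vancyc.H690.FibQuad

open IsLocalRing Groth.Agent.Vancyc.H690.FibKey VanCyc Groth.Agent.Vancyc.H689.PSPow

variable {K : Type u} [Field K] {N : ℕ}

theorem coe_sub (p q : MvPolynomial (Fin N) K) :
    ((p - q : MvPolynomial (Fin N) K) : MvPowerSeries (Fin N) K) = p - q :=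
  map_sub (MvPolynomial.coeToMvPowerSeries.ringHom (σ := Fin N) (R := K)) p q

/-- The low terms of elements of `(g)`. -/
theorem mul_sub_mem {g : MvPowerSeries (Fin N) K} (hg : NoLowTerms g)
    (u : MvPowerSeries (Fin N) K) :
    u * g - MvPowerSeries.C (MvPowerSeries.constantCoeff u) *
      ((quadPoly (quadPart g) : MvPolynomial (Fin N) K) : MvPowerSeries (Fin N) K) ∈
      M K N ^ 3 := by
  have h1 : u - MvPowerSeries.C (MvPowerSeries.constantCoeff u) ∈ M K N := by
    rw [M, CurvesB.SeriesEval.mem_span_range_X_iff]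
    simp
  have h2 : (u - MvPowerSeries.C (MvPowerSeries.constantCoeff u)) * g ∈ M K N ^ 3 := by
    rw [pow_succ' _ 2]
    exact Ideal.mul_mem_mul h1 (mem_sq_of_noLowTerms hg)
  have h3 := Ideal.mul_mem_left _ (MvPowerSeries.C (MvPowerSeries.constantCoeff u))
    (sub_quadPart_mem hg)
  have h4 := add_mem h2 h3
  convert h4 using 1
  ring

/-- Comparison of quadratic forms modulo terms of order three. -/
theorem eq_of_sub_mem (a q : Fin N → Fin N → K) (c : K)
    (h : ((quadPoly a : MvPolynomial (Fin N) K) : MvPowerSeries (Fin N) K) -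
      MvPowerSeries.C c * ((quadPoly q : MvPolynomial (Fin N) K) : MvPowerSeries (Fin N) K) ∈
        M K N ^ 3) (i j : Fin N) (hij : i ≤ j) : a i j = c * q i j := by
  rw [mem_pow_iff] at h
  have h1 := h (Finsupp.single i 1 + Finsupp.single j 1) (by
    rw [map_add, Finsupp.degree_single, Finsupp.degree_single]
    norm_num)
  rw [map_sub, MvPowerSeries.coeff_C_mul, MvPolynomial.coeff_coe, MvPolynomial.coeff_coe,
    coeff_quadPoly_pair _ hij, coeff_quadPoly_pair _ hij, sub_eq_zero] at h1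
  exact h1

theorem exists_ne_zero (hN : 0 < N) (q : Fin N → Fin N → K) (hq : QuadNondeg q) :
    ∃ i j, i ≤ j ∧ q i j ≠ 0 := by
  by_contra h
  push Not at h
  have h1 : polarMatrix q = 0 := by
    ext i j
    rw [polarMatrix]
    split_ifs with h1 h2
    · rw [h i i le_rfl, mul_zero]
      rfl
    · rw [h i j h2.le]
      rfl
    · rw [h j i (not_lt.mp h2)]
      rfl
  have : Nonempty (Fin N) := ⟨⟨0, hN⟩⟩
  rw [QuadNondeg, h1, Matrix.det_zero] at hq
  exact not_isUnit_zero hq

theorem nondeg_of_eq (a q : Fin N → Fin N → K) (c : K) (hc : c ≠ 0)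
    (h : ∀ i j, i ≤ j → a i j = c * q i j) (hq : QuadNondeg q) : QuadNondeg a := by
  have h1 : polarMatrix a = c • polarMatrix q := by
    ext i j
    rw [Matrix.smul_apply, polarMatrix, polarMatrix]
    split_ifs with h1 h2
    · rw [h i i le_rfl, smul_eq_mul]
      ring
    · rw [h i j h2.le]
      rfl
    · rw [h j i (not_lt.mp h2)]
      rfl
  rw [QuadNondeg, h1, Matrix.det_smul]
  exact ((isUnit_iff_ne_zero.mpr hc).pow _).mul hq

section Main

variable {k : Type u} [Field k] [Algebra k K] {O : Type u} [CommRing O] [IsLocalRing O]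
  [Algebra k O]

theorem lc_quadPoly (ℓ : K →ₗ[k] k) (q : Fin N → Fin N → K) :
    lc ℓ (quadPoly q) = quadPoly fun i j => ℓ (q i j) := by
  ext d
  rw [coeff_lc, coeff_quadPoly, coeff_quadPoly, map_sum]
  refine Finset.sum_congr rfl fun i _ => ?_
  rw [map_sum]
  refine Finset.sum_congr rfl fun j _ => ?_
  split_ifs
  · rfl
  · rw [map_zero]
  · rw [map_zero]

theorem map_quadPoly (a : Fin N → Fin N → k) :
    MvPolynomial.map (algebraMap k K) (quadPoly a) = quadPoly fun i j => algebraMap k K (a i j) := by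
  rw [quadPoly, quadPoly, map_sum]
  refine Finset.sum_congr rfl fun i _ => ?_
  rw [map_sum]
  refine Finset.sum_congr rfl fun j _ => ?_
  split_ifs
  · rw [map_mul, map_mul, MvPolynomial.map_C, MvPolynomial.map_X, MvPolynomial.map_X]
  · rw [map_zero]

theorem map_mem (r : ℕ) (p : MvPolynomial (Fin N) k)
    (hp : p ∈ MvPolynomial.idealOfVars (Fin N) k ^ r) :
    MvPolynomial.map (algebraMap k K) p ∈ MvPolynomial.idealOfVars (Fin N) K ^ r := by
  rw [MvPolynomial.mem_pow_idealOfVars_iff'] at hp ⊢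
  intro d hd
  rw [MvPolynomial.coeff_map, hp d hd, map_zero]

theorem lc_mem (ℓ : K →ₗ[k] k) (r : ℕ) (p : MvPolynomial (Fin N) K)
    (hp : p ∈ MvPolynomial.idealOfVars (Fin N) K ^ r) :
    lc ℓ p ∈ MvPolynomial.idealOfVars (Fin N) k ^ r := by
  rw [MvPolynomial.mem_pow_idealOfVars_iff'] at hp ⊢
  intro d hd
  rw [coeff_lc, hp d hd, map_zero]

/-- **The equation descends.** -/
theorem exists_quad (hN : 0 < N) (x : Fin N → O) (g : MvPowerSeries (Fin N) K)
    (hg : NondegQuadSeries g)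
    (D : ∀ (ℓ : K →ₗ[k] k) (r : ℕ) (p : MvPolynomial (Fin N) K),
      (p : MvPowerSeries (Fin N) K) ∈ Ideal.span {g} ⊔ M K N ^ r →
      MvPolynomial.aeval x (lc ℓ p) ∈ maximalIdeal O ^ r)
    (U : ∀ (r : ℕ) (p : MvPolynomial (Fin N) k), MvPolynomial.aeval x p ∈ maximalIdeal O ^ r →
      ((MvPolynomial.map (algebraMap k K) p : MvPolynomial (Fin N) K) :
        MvPowerSeries (Fin N) K) ∈ Ideal.span {g} ⊔ M K N ^ r) :
    ∃ a : Fin N → Fin N → k, QuadNondeg a ∧
      MvPolynomial.aeval x (quadPoly a) ∈ maximalIdeal O ^ 3 ∧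
      ∀ r, 3 ≤ r → ∀ f p : MvPolynomial (Fin N) k,
        f - quadPoly a ∈ MvPolynomial.idealOfVars (Fin N) k ^ 3 →
        MvPolynomial.aeval x f ∈ maximalIdeal O ^ r → MvPolynomial.aeval x p ∈ maximalIdeal O ^ r →
        ∃ s : MvPolynomial (Fin N) k, p - s * f ∈ MvPolynomial.idealOfVars (Fin N) k ^ r := by
  set q := quadPart g with hqdef
  have hspan : ∀ (r : ℕ) (P : MvPowerSeries (Fin N) K), P ∈ Ideal.span {g} ⊔ M K N ^ r →
      ∃ v m, m ∈ M K N ^ r ∧ P = v * g + m := by
    intro r P hP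
    obtain ⟨y, hy, m, hm, hym⟩ := Submodule.mem_sup.mp hP
    obtain ⟨v, hv⟩ := Ideal.mem_span_singleton'.mp hy
    exact ⟨v, m, hm, by rw [hv, hym]⟩
  obtain ⟨i₀, j₀, hij₀, hq₀⟩ := exists_ne_zero hN q hg.2
  obtain ⟨ℓ, hℓ⟩ : ∃ ℓ : K →ₗ[k] k, ℓ (q i₀ j₀) ≠ 0 := by
    by_contra h
    push Not at h
    exact hq₀ ((Module.forall_dual_apply_eq_zero_iff k _).mp h)
  let a : Fin N → Fin N → k := fun i j => ℓ (q i j)
  have hq3 : ((quadPoly q : MvPolynomial (Fin N) K) : MvPowerSeries (Fin N) K) ∈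
      Ideal.span {g} ⊔ M K N ^ 3 := by
    have h1 := sub_quadPart_mem hg.1
    have h2 : ((quadPoly q : MvPolynomial (Fin N) K) :
        MvPowerSeries (Fin N) K) = g - (g - ((quadPoly q :
          MvPolynomial (Fin N) K) : MvPowerSeries (Fin N) K)) := by ring
    rw [h2]
    exact Ideal.sub_mem _ (Ideal.mem_sup_left (Ideal.mem_span_singleton_self g))
      (Ideal.mem_sup_right h1)
  have ha3 : MvPolynomial.aeval x (quadPoly a) ∈ maximalIdeal O ^ 3 := by
    have h1 := D ℓ 3 _ hq3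
    rwa [lc_quadPoly] at h1
  obtain ⟨v₀, m₀, hm₀, hv₀⟩ := hspan 3 _ (U 3 _ ha3)
  rw [map_quadPoly] at hv₀
  set c := MvPowerSeries.constantCoeff v₀ with hcdef
  have hac : ((quadPoly fun i j => algebraMap k K (a i j) : MvPolynomial (Fin N) K) :
      MvPowerSeries (Fin N) K) - MvPowerSeries.C c * ((quadPoly q : MvPolynomial (Fin N) K) :
        MvPowerSeries (Fin N) K) ∈ M K N ^ 3 := by
    have h1 := add_mem (mul_sub_mem hg.1 v₀) hm₀
    rw [hv₀]
    convert h1 using 1
    ring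
  have hac' := eq_of_sub_mem _ _ _ hac
  have hc : c ≠ 0 := by
    intro h
    have h1 := hac' i₀ j₀ hij₀
    rw [h, zero_mul] at h1
    exact hℓ ((map_eq_zero_iff _ (algebraMap k K).injective).mp h1)
  have hnd : QuadNondeg fun i j => algebraMap k K (a i j) := nondeg_of_eq _ q c hc hac' hg.2
  refine ⟨a, ?_, ha3, fun r hr f p hf hfx hpx => ?_⟩
  · rw [QuadNondeg] at hnd ⊢
    have h1 : polarMatrix (fun i j => algebraMap k K (a i j)) =
        (algebraMap k K).mapMatrix (polarMatrix a) := by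
      ext i j
      rw [RingHom.mapMatrix_apply, Matrix.map_apply, polarMatrix, polarMatrix]
      split_ifs
      · rw [map_mul, map_ofNat]
      · rfl
      · rfl
    rw [h1, ← RingHom.map_det] at hnd
    rw [isUnit_iff_ne_zero] at hnd ⊢
    exact fun h => hnd (by rw [h, map_zero])
  · obtain ⟨v, m, hm, hv⟩ := hspan r _ (U r _ hfx)
    obtain ⟨w, m', hm', hw⟩ := hspan r _ (U r _ hpx)
    have hle : M K N ^ r ≤ M K N ^ 3 := Ideal.pow_le_pow_right hr
    have hfa : ((MvPolynomial.map (algebraMap k K) f : MvPolynomial (Fin N) K) :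
        MvPowerSeries (Fin N) K) - ((quadPoly fun i j => algebraMap k K (a i j) :
          MvPolynomial (Fin N) K) : MvPowerSeries (Fin N) K) ∈ M K N ^ 3 := by
      have h1 := (coe_mem_pow_iff 3 _).mpr (map_mem (K := K) 3 _ hf)
      rwa [map_sub, map_quadPoly, coe_sub] at h1
    have hvc : MvPowerSeries.constantCoeff v = c := by
      have h1 : MvPowerSeries.C (c - MvPowerSeries.constantCoeff v) *
          ((quadPoly q : MvPolynomial (Fin N) K) : MvPowerSeries (Fin N) K) ∈ M K N ^ 3 := by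
        have h2 := sub_mem (sub_mem (add_mem (mul_sub_mem hg.1 v) (hle hm)) hfa) hac
        convert h2 using 1
        rw [hv, map_sub]
        ring
      have h2 := eq_of_sub_mem 0 q (c - MvPowerSeries.constantCoeff v) (by
        have h3 : (quadPoly (0 : Fin N → Fin N → K)) = 0 := by
          rw [quadPoly]
          refine Finset.sum_eq_zero fun i _ => Finset.sum_eq_zero fun j _ => ?_
          split_ifs
          · simp
          · rfl
        rw [h3, MvPolynomial.coe_zero, zero_sub]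
        exact neg_mem h1) i₀ j₀ hij₀
      rw [Pi.zero_apply, Pi.zero_apply, eq_comm, mul_eq_zero, sub_eq_zero] at h2
      rcases h2 with h2 | h2
      · exact h2.symm
      · exact absurd h2 hq₀
    have hunit : IsUnit v := by
      rw [MvPowerSeries.isUnit_iff_constantCoeff, hvc]
      exact isUnit_iff_ne_zero.mpr hc
    obtain ⟨v, rfl⟩ := hunit
    obtain ⟨s, hs⟩ := exists_poly r (w * (↑v⁻¹ : MvPowerSeries (Fin N) K))
    obtain ⟨ℓ₁, hℓ₁⟩ : ∃ ℓ₁ : K →ₗ[k] k, ℓ₁ 1 = 1 := by
      obtain ⟨ℓ', hℓ'⟩ : ∃ ℓ' : K →ₗ[k] k, ℓ' 1 ≠ 0 := by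
        by_contra h
        push Not at h
        exact one_ne_zero ((Module.forall_dual_apply_eq_zero_iff k _).mp h)
      refine ⟨(ℓ' 1)⁻¹ • ℓ', ?_⟩
      rw [LinearMap.smul_apply, smul_eq_mul, inv_mul_cancel₀ hℓ']
    refine ⟨lc ℓ₁ s, ?_⟩
    rw [← lc_sub_mul ℓ₁ hℓ₁ p f s]
    refine lc_mem ℓ₁ r _ ?_
    rw [← coe_mem_pow_iff, coe_sub, MvPolynomial.coe_mul]
    have h5 : (↑v⁻¹ : MvPowerSeries (Fin N) K) * v = 1 := v.inv_mul
    have h6 := sub_mem (add_mem hm' (Ideal.mul_mem_right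
      ((MvPolynomial.map (algebraMap k K) f : MvPolynomial (Fin N) K) : MvPowerSeries (Fin N) K) _
        hs)) (Ideal.mul_mem_left _ (w * (↑v⁻¹ : MvPowerSeries (Fin N) K)) hm)
    convert h6 using 1
    rw [hw, hv]
    linear_combination (-w * g) * h5

end Main

end Groth.Agent.Vancyc.H690.FibQuad
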