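import Groth.Agent.Vancyc.H690.FibCoord
import Groth.Agent.Vancyc.H690.FibQuad

/-!
# Coordinates and equation at a rational non-degenerate quadratic point
-/

set_option autoImplicit false
universe u v

namespace Groth.Agent.Vancyc.H690.FibMain

open IsLocalRing TensorProduct Groth.Agent.Vancyc.H690.ResDer Groth.Agent.Vancyc.H690.FibKey VanCyc
  Groth.Agent.Vancyc.H690.FibCoord Groth.Agent.Vancyc.H690.FibQuad

/-- **Coordinates and equation** of a local `k`-algebra with residue field `k` which is geometrically a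
non-degenerate quadratic singularity. -/
theorem exists_coords {k O : Type u} [Field k] [CommRing O] [IsLocalRing O] [Algebra k O]
    [Algebra.EssFiniteType k O] (hs : Function.Surjective (algebraMap k (ResidueField O))) {n : ℕ}
    (hq : ∀ (M : Ideal (AlgebraicClosure k ⊗[k] O)) [M.IsMaximal],
      IsNondegQuadSing (AlgebraicClosure k) (Localization.AtPrime M) n) :
    ∃ x : Fin (n + 1) → O, (∀ i, x i ∈ maximalIdeal O) ∧
      (∀ z ∈ maximalIdeal O, ∃ c : Fin (n + 1) → k, z - ∑ i, algebraMap k O (c i) * x i ∈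
        maximalIdeal O ^ 2) ∧
      ∃ a : Fin (n + 1) → Fin (n + 1) → k, QuadNondeg a ∧
      MvPolynomial.aeval x (quadPoly a) ∈ maximalIdeal O ^ 3 ∧
      ∀ r, 3 ≤ r → ∀ f p : MvPolynomial (Fin (n + 1)) k,
        f - quadPoly a ∈ MvPolynomial.idealOfVars (Fin (n + 1)) k ^ 3 →
        MvPolynomial.aeval x f ∈ maximalIdeal O ^ r → MvPolynomial.aeval x p ∈ maximalIdeal O ^ r →
        ∃ s : MvPolynomial (Fin (n + 1)) k,
          p - s * f ∈ MvPolynomial.idealOfVars (Fin (n + 1)) k ^ r := by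
  let κ := ResidueField O
  let K := AlgebraicClosure k
  have halg : Algebra.IsAlgebraic k κ := by
    refine ⟨fun y => ?_⟩
    obtain ⟨c, rfl⟩ := hs y
    exact isAlgebraic_algebraMap c
  let emb : κ →ₐ[k] K := IsAlgClosed.lift
  let _ : Algebra κ K := emb.toRingHom.toAlgebra
  have : IsScalarTower k κ K := IsScalarTower.of_algebraMap_eq fun c => (emb.commutes c).symm
  have : IsNoetherianRing (K ⊗[k] O) := Algebra.EssFiniteType.isNoetherianRing K _
  let L := Localization.AtPrime (RingHom.ker (ResDer.mu k κ K O))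
  have : IsNoetherianRing L := IsLocalization.isNoetherianRing
    (RingHom.ker (ResDer.mu k κ K O)).primeCompl L inferInstance
  have hq' : IsNondegQuadSing K L n := hq _
  obtain ⟨x₀, hx₀, hgen₀⟩ := ResField.exists_gen hq'
  have hκ : ∀ b : O, algebraMap O κ b = 0 → b ∈ maximalIdeal O := fun b hb =>
    (residue_eq_zero_iff b).mp hb
  have hκ' : ∀ b ∈ maximalIdeal O, algebraMap O κ b = 0 := fun b hb =>
    (residue_eq_zero_iff b).mpr hb
  obtain ⟨x, hx, hgenO⟩ := exists_coord_of_rank
    (rank_cotangent_le k κ K O L hκ hκ' hs x₀ hx₀ hgen₀)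
  refine ⟨x, hx, hgenO, ?_⟩
  let x' : Fin (n + 1) → L := fun i => algebraMap (K ⊗[k] O) L (1 ⊗ₜ x i)
  have hmemL : ∀ (b : O) (r : ℕ), b ∈ maximalIdeal O ^ r →
      algebraMap (K ⊗[k] O) L (1 ⊗ₜ b) ∈ maximalIdeal L ^ r :=
    fun b r hb => algebraMap_mem (κ := κ) (k := k) (K := K) (L := L) hκ' b r hb
  have hx' : ∀ i, x' i ∈ maximalIdeal L := fun i => by
    have h1 := hmemL (x i) 1 (by rw [pow_one]; exact hx i)
    rwa [pow_one] at h1
  have hgen : maximalIdeal L ≤ Ideal.span (Set.range x') ⊔ maximalIdeal L ^ 2 := by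
    have hmax : ((maximalIdeal O).map
        (Algebra.TensorProduct.includeRight : O →ₐ[k] K ⊗[k] O)).map (algebraMap (K ⊗[k] O) L) =
        maximalIdeal L := by
      rw [← ker_mu (K := K) hκ hκ' hs,
        IsLocalization.AtPrime.map_eq_maximalIdeal (RingHom.ker (mu k κ K O)) L]
    refine hmax.ge.trans (Ideal.map_le_iff_le_comap.mpr (Ideal.map_le_iff_le_comap.mpr ?_))
    intro z hz
    rw [Ideal.mem_comap, Ideal.mem_comap]
    obtain ⟨c, hc⟩ := hgenO z hz
    have h1 := hmemL _ 2 hc
    let j : O →+* L := (algebraMap (K ⊗[k] O) L).comp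
      (Algebra.TensorProduct.includeRight : O →ₐ[k] K ⊗[k] O).toRingHom
    have h2 : j (z - ∑ i, algebraMap k O (c i) * x i) ∈ maximalIdeal L ^ 2 := h1
    have h3 : j z = ∑ i, j (algebraMap k O (c i)) * x' i +
        j (z - ∑ i, algebraMap k O (c i) * x i) := by
      rw [map_sub, map_sum]
      simp only [map_mul]
      have h4 : ∀ i, j (x i) = x' i := fun i => rfl
      simp only [h4]
      ring
    change j z ∈ _
    rw [h3]
    refine add_mem (Ideal.mem_sup_left (Ideal.sum_mem _ fun i _ => Ideal.mul_mem_left _ _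
      (Ideal.subset_span ⟨i, rfl⟩))) (Ideal.mem_sup_right h2)
  obtain ⟨g, hg, H⟩ := Groth.Agent.Vancyc.H678.P2.exists_nondegQuadSeries hq' x' hx' hgen
  refine exists_quad (K := K) (Nat.succ_pos n) x g hg ?_ ?_
  · intro ℓ r p hp
    exact aeval_lc_mem (κ := κ) (L := L) hκ hκ' hs ℓ r x p ((H r p).mpr hp)
  · intro r p hp
    refine (H r _).mp ?_
    have h1 := hmemL _ r hp
    have h2 : (algebraMap (K ⊗[k] O) L).comp
        ((Algebra.TensorProduct.includeRight : O →ₐ[k] K ⊗[k] O).toRingHom.comp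
          (MvPolynomial.aeval x : MvPolynomial (Fin (n + 1)) k →ₐ[k] O).toRingHom) =
        (MvPolynomial.aeval x' : MvPolynomial (Fin (n + 1)) K →ₐ[K] L).toRingHom.comp
          (MvPolynomial.map (algebraMap k K)) := by
      refine MvPolynomial.ringHom_ext (fun c => ?_) fun i => ?_
      · change algebraMap (K ⊗[k] O) L (1 ⊗ₜ[k] (MvPolynomial.aeval x (MvPolynomial.C c))) =
          MvPolynomial.aeval x' (MvPolynomial.map (algebraMap k K) (MvPolynomial.C c))
        have h3 : (1 ⊗ₜ[k] (algebraMap k O c) : K ⊗[k] O) = algebraMap k K c ⊗ₜ[k] 1 :=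
          (Algebra.TensorProduct.includeRight : O →ₐ[k] K ⊗[k] O).commutes c
        rw [MvPolynomial.map_C, MvPolynomial.algHom_C, MvPolynomial.algHom_C,
          IsScalarTower.algebraMap_apply K (K ⊗[k] O) L,
          Algebra.TensorProduct.algebraMap_apply, Algebra.algebraMap_self_apply, h3]
      · change algebraMap (K ⊗[k] O) L (1 ⊗ₜ[k] (MvPolynomial.aeval x (MvPolynomial.X i))) =
          MvPolynomial.aeval x' (MvPolynomial.map (algebraMap k K) (MvPolynomial.X i))
        rw [MvPolynomial.map_X, MvPolynomial.aeval_X, MvPolynomial.aeval_X]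
    have h3 := congr($h2 p)
    change algebraMap (K ⊗[k] O) L (1 ⊗ₜ[k] (MvPolynomial.aeval x p)) =
      MvPolynomial.aeval x' (MvPolynomial.map (algebraMap k K) p) at h3
    rwa [h3] at h1

end Groth.Agent.Vancyc.H690.FibMain
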