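import Groth.Agent.Hensel.Exist
import Groth.Agent.S0505
import Groth.Prelude.Def_QuadSing
import Mathlib.Algebra.Polynomial.Lifts
import Mathlib.RingTheory.DualNumber

/-!
# The henselian polynomial ring `A{x}` by its universal property

`IsHensFree A R x`: the local `A`-algebra `R` with the elements `x i` of its maximal ideal is the
henselization of `A[x]` at the origin `(𝔪_A, x)`, expressed by the universal property with respect
to henselian local `A`-algebras.
-/

set_option autoImplicit false
universe u v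

namespace Groth.Agent.Vancyc.H690.HensFree

open IsLocalRing

/-- A nonzero quotient of a henselian local ring is henselian. -/
theorem henselianLocalRing_of_surjective {R S : Type*} [CommRing R] [CommRing S]
    [HenselianLocalRing R] [IsLocalRing S] (φ : R →+* S) (hφ : Function.Surjective φ) :
    HenselianLocalRing S := by
  have hloc : IsLocalHom φ := IsLocalHom.of_surjective φ hφ
  refine ⟨fun f hf a₀ h1 h2 => ?_⟩
  obtain ⟨g, hg, -, hgm⟩ := Polynomial.lifts_and_natDegree_eq_and_monic (f := φ) (p := f)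
    (by rw [Polynomial.lifts_iff_coeff_lifts]; exact fun n => hφ _) hf
  obtain ⟨b₀, rfl⟩ := hφ a₀
  have h3 : φ (g.eval b₀) = f.eval (φ b₀) := by rw [← hg, Polynomial.eval_map_apply]
  have h4 : φ (g.derivative.eval b₀) = f.derivative.eval (φ b₀) := by
    rw [← hg, Polynomial.derivative_map, Polynomial.eval_map_apply]
  obtain ⟨b, hb1, hb2⟩ := HenselianLocalRing.is_henselian g hgm b₀
    (by
      rw [mem_maximalIdeal, mem_nonunits_iff] at h1 ⊢
      intro h
      exact h1 (h3 ▸ h.map φ))
    ((isUnit_map_iff φ _).mp (h4 ▸ h2))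
  refine ⟨φ b, ?_, ?_⟩
  · rw [Polynomial.IsRoot, ← hg, Polynomial.eval_map_apply, hb1.eq_zero, map_zero]
  · rw [← map_sub, ← Ideal.mem_comap]
    have := maximalIdeal_comap φ
    rw [this]
    exact hb2

/-- The quotient of a henselian local ring by an ideal contained in the maximal ideal. -/
theorem henselianLocalRing_quotient {R : Type*} [CommRing R] [HenselianLocalRing R] (J : Ideal R)
    (hJ : J ≤ maximalIdeal R) : HenselianLocalRing (R ⧸ J) := by
  have hne : J ≠ ⊤ := fun h => (maximalIdeal.isMaximal R).ne_top (top_le_iff.mp (h ▸ hJ))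
  have : Nontrivial (R ⧸ J) := Ideal.Quotient.nontrivial_iff.mpr hne
  have : IsLocalRing (R ⧸ J) := IsLocalRing.of_surjective' _ Ideal.Quotient.mk_surjective
  exact henselianLocalRing_of_surjective (Ideal.Quotient.mk J) Ideal.Quotient.mk_surjective

/-- `R`, with the elements `x`, is the henselization of `A[x]` at the origin. -/
structure IsHensFree (A R : Type u) [CommRing A] [CommRing R] [Algebra A R]
    {ι : Type v} (x : ι → R) : Prop where
  henselian : HenselianLocalRing R
  isLocalHom : IsLocalHom (algebraMap A R)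
  not_isUnit : ∀ i, ¬ IsUnit (x i)
  existsUnique : ∀ (T : Type u) [CommRing T] [HenselianLocalRing T] [Algebra A T]
    [IsLocalHom (algebraMap A T)] (t : ι → T), (∀ i, t i ∈ maximalIdeal T) →
    ∃! φ : R →ₐ[A] T, ∀ i, φ (x i) = t i

namespace IsHensFree

section Basic

variable {A R : Type u} [CommRing A] [CommRing R] [Algebra A R] {ι : Type v} {x : ι → R}

theorem isLocalRing (h : IsHensFree A R x) : IsLocalRing R :=
  have := h.henselian
  inferInstance

theorem mem_maximalIdeal [IsLocalRing R] (h : IsHensFree A R x) (i : ι) : x i ∈ maximalIdeal R := by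
  rw [IsLocalRing.mem_maximalIdeal]
  exact h.not_isUnit i

variable {T : Type u} [CommRing T] [HenselianLocalRing T] [Algebra A T]
  [IsLocalHom (algebraMap A T)]

/-- The map out of `A{x}` given by the universal property. -/
noncomputable def lift (h : IsHensFree A R x) (t : ι → T) (ht : ∀ i, t i ∈ maximalIdeal T) :
    R →ₐ[A] T :=
  (h.existsUnique T t ht).choose

@[simp]
theorem lift_apply (h : IsHensFree A R x) (t : ι → T) (ht : ∀ i, t i ∈ maximalIdeal T) (i : ι) :
    h.lift t ht (x i) = t i :=
  (h.existsUnique T t ht).choose_spec.1 i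

theorem hom_ext (h : IsHensFree A R x) {φ ψ : R →ₐ[A] T} (hφ : ∀ i, φ (x i) ∈ maximalIdeal T)
    (e : ∀ i, φ (x i) = ψ (x i)) : φ = ψ := by
  obtain ⟨χ, -, hχ⟩ := h.existsUnique T (fun i => φ (x i)) hφ
  rw [hχ φ fun i => rfl, hχ ψ fun i => (e i).symm]

/-- The maximal ideal of `A{x}` is generated by `𝔪_A` and `x`. -/
theorem maximalIdeal_eq [IsLocalRing A] [IsLocalRing R] (h : IsHensFree A R x) :
    maximalIdeal R = (maximalIdeal A).map (algebraMap A R) ⊔ Ideal.span (Set.range x) := by
  have h1 := h.henselian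
  have h2 := h.isLocalHom
  set J : Ideal R := (maximalIdeal A).map (algebraMap A R) ⊔ Ideal.span (Set.range x) with hJ
  have hJm : J ≤ maximalIdeal R := by
    refine sup_le ?_ ?_
    · exact ((local_hom_TFAE (algebraMap A R)).out 0 2 rfl rfl).mp inferInstance
    · rw [Ideal.span_le]
      rintro _ ⟨i, rfl⟩
      exact h.mem_maximalIdeal i
  refine le_antisymm ?_ hJm
  have h3 : HenselianLocalRing (R ⧸ J) := henselianLocalRing_quotient J hJm
  have h4 : IsLocalHom (Ideal.Quotient.mk J) :=
    IsLocalHom.of_surjective _ Ideal.Quotient.mk_surjective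
  have h5 : IsLocalHom (algebraMap A (R ⧸ J)) :=
    RingHom.isLocalHom_comp (Ideal.Quotient.mk J) (algebraMap A R)
  have h6 : IsLocalHom (algebraMap A (ResidueField A)) :=
    inferInstanceAs (IsLocalHom (residue A))
  let π : R →ₐ[A] ResidueField A := h.lift (fun _ => 0) fun i => Ideal.zero_mem _
  let ρ : ResidueField A →ₐ[A] R ⧸ J := Ideal.Quotient.liftₐ (maximalIdeal A)
    (Algebra.ofId A (R ⧸ J)) (by
      intro a ha
      rw [Algebra.ofId_apply]
      change Ideal.Quotient.mk J (algebraMap A R a) = 0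
      rw [Ideal.Quotient.eq_zero_iff_mem]
      exact (le_sup_left : _ ≤ J) (Ideal.mem_map_of_mem _ ha))
  have h7 : ρ.comp π = Ideal.Quotient.mkₐ A J := by
    refine h.hom_ext (fun i => ?_) fun i => ?_
    · rw [AlgHom.comp_apply, h.lift_apply, map_zero]
      exact Ideal.zero_mem _
    · rw [AlgHom.comp_apply, h.lift_apply, map_zero, Ideal.Quotient.mkₐ_eq_mk]
      exact (Ideal.Quotient.eq_zero_iff_mem.mpr
        ((le_sup_right : _ ≤ J) (Ideal.subset_span ⟨i, rfl⟩))).symm
  intro r hr
  have h8 : π r = 0 := by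
    by_contra hne
    have h9 : IsUnit (ρ (π r)) := (isUnit_iff_ne_zero.mpr hne).map ρ
    rw [← AlgHom.comp_apply, h7, Ideal.Quotient.mkₐ_eq_mk] at h9
    exact hr ((isUnit_map_iff (Ideal.Quotient.mk J) r).mp h9)
  rw [← Ideal.Quotient.eq_zero_iff_mem, ← Ideal.Quotient.mkₐ_eq_mk A, ← h7, AlgHom.comp_apply, h8,
    map_zero]

/-- Algebra maps out of `A{x}` sending `x` into the maximal ideal are local. -/
theorem map_maximalIdeal_le [IsLocalRing A] [IsLocalRing R] (h : IsHensFree A R x)
    (φ : R →ₐ[A] T) (hφ : ∀ i, φ (x i) ∈ maximalIdeal T) :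
    (maximalIdeal R).map (φ : R →+* T) ≤ maximalIdeal T := by
  rw [h.maximalIdeal_eq, Ideal.map_sup]
  refine sup_le ?_ ?_
  · rw [Ideal.map_map, φ.comp_algebraMap]
    exact ((local_hom_TFAE (algebraMap A T)).out 0 2 rfl rfl).mp inferInstance
  · rw [Ideal.map_span, Ideal.span_le]
    rintro _ ⟨_, ⟨i, rfl⟩, rfl⟩
    exact hφ i

theorem isLocalHom_of_mem [IsLocalRing A] [IsLocalRing R] (h : IsHensFree A R x)
    (φ : R →ₐ[A] T) (hφ : ∀ i, φ (x i) ∈ maximalIdeal T) :
    IsLocalHom (φ : R →+* T) := by
  refine ((local_hom_TFAE (φ : R →+* T)).out 0 2 rfl rfl).mpr ?_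
  exact h.map_maximalIdeal_le φ hφ

/-- The kernel of a map out of `A{x}` which admits a section. -/
theorem ker_eq_of_section [IsLocalRing A] [IsLocalRing R] (h : IsHensFree A R x)
    {R' : Type u} [CommRing R'] [Algebra A R'] (π : R →ₐ[A] R') (s : R' →ₐ[A] R)
    (J : Ideal R) (hJ : J ≤ RingHom.ker π) (hJm : J ≤ maximalIdeal R)
    (hx : ∀ i, x i - s (π (x i)) ∈ J) : RingHom.ker π = J := by
  refine le_antisymm (fun r hr => ?_) hJ
  have h1 := h.henselian
  have h2 := h.isLocalHom
  have h3 : HenselianLocalRing (R ⧸ J) := henselianLocalRing_quotient J hJm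
  have h4 : IsLocalHom (Ideal.Quotient.mk J) :=
    IsLocalHom.of_surjective _ Ideal.Quotient.mk_surjective
  have h5 : IsLocalHom (algebraMap A (R ⧸ J)) :=
    RingHom.isLocalHom_comp (Ideal.Quotient.mk J) (algebraMap A R)
  have h6 : Ideal.Quotient.mkₐ A J = (Ideal.Quotient.mkₐ A J).comp (s.comp π) := by
    refine h.hom_ext (fun i => ?_) fun i => ?_
    · rw [Ideal.Quotient.mkₐ_eq_mk, IsLocalRing.mem_maximalIdeal, mem_nonunits_iff,
        isUnit_map_iff]
      exact h.not_isUnit i
    · rw [AlgHom.comp_apply, AlgHom.comp_apply, Ideal.Quotient.mkₐ_eq_mk, Ideal.Quotient.eq]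
      exact hx i
  have h7 := congr($h6 r)
  rw [AlgHom.comp_apply, AlgHom.comp_apply, (RingHom.mem_ker).mp hr, map_zero, map_zero] at h7
  rwa [Ideal.Quotient.mkₐ_eq_mk, Ideal.Quotient.eq_zero_iff_mem] at h7

end Basic

/-- Change of variables: transport along an isomorphism. -/
theorem of_algEquiv {A R R' : Type u} [CommRing A] [CommRing R] [Algebra A R] [CommRing R']
    [Algebra A R'] {ι : Type v} {x : ι → R} (h : IsHensFree A R x) (e : R ≃ₐ[A] R') :
    IsHensFree A R' (fun i => e (x i)) where
  henselian := by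
    have := h.henselian
    have : Nontrivial R' := e.injective.nontrivial
    have : IsLocalRing R' := IsLocalRing.of_surjective' (e : R →+* R') e.surjective
    exact henselianLocalRing_of_surjective (e : R →+* R') e.surjective
  isLocalHom := by
    have := h.isLocalHom
    refine ⟨fun a ha => ?_⟩
    have h1 := ha.map e.symm
    rw [AlgEquiv.commutes] at h1
    exact (isUnit_map_iff (algebraMap A R) a).mp h1
  not_isUnit i hi := h.not_isUnit i (by simpa using hi.map e.symm)
  existsUnique T _ _ _ _ t ht := by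
    obtain ⟨φ, hφ, hu⟩ := h.existsUnique T t ht
    refine ⟨φ.comp e.symm.toAlgHom, fun i => ?_, fun ψ hψ => ?_⟩
    · simpa using hφ i
    · have := hu (ψ.comp e.toAlgHom) fun i => by simpa using hψ i
      rw [← this]
      ext r
      simp

end IsHensFree

end Groth.Agent.Vancyc.H690.HensFree
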