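import Groth.Agent.Vancyc.H690.HensPres
import Mathlib.RingTheory.Localization.Integral
import Mathlib.Algebra.MvPolynomial.PDeriv
import Mathlib.Algebra.MvPolynomial.Equiv

/-!
# Elements of `A{x}` in terms of one simple root

Every finite family of elements of `A{x}` is rational in `x` and one further element `w`, which is a
simple root of a polynomial with coefficients in `A[x]`.
-/

set_option autoImplicit false
universe u v

namespace Groth.Agent.Vancyc.H690.HensGen

open IsLocalRing Groth.Agent.Vancyc.H690.HensFree Groth.Agent.Vancyc.H690.HensPres MvPolynomial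

section Option

/-- The point `(w, x)`. -/
def pt {R ι : Type*} (w : R) (x : ι → R) : Option ι → R := fun o => o.elim w x

@[simp] theorem pt_none {R ι : Type*} (w : R) (x : ι → R) : pt w x none = w := rfl
@[simp] theorem pt_some {R ι : Type*} (w : R) (x : ι → R) (i : ι) : pt w x (some i) = x i := rfl

variable {A R : Type*} [CommRing A] [CommRing R] [Algebra A R] {ι : Type*}

theorem aeval_pt_eq (w : R) (x : ι → R) (q : MvPolynomial (Option ι) A) :
    aeval (pt w x) q = Polynomial.eval₂ ((aeval x : MvPolynomial ι A →ₐ[A] R) : _ →+* R) w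
      (optionEquivLeft A ι q) := by
  induction q using MvPolynomial.induction_on with
  | C a => simp
  | add p q hp hq => simp only [map_add, hp, hq, Polynomial.eval₂_add]
  | mul_X p o hp =>
    rw [map_mul, map_mul, hp, Polynomial.eval₂_mul]
    congr 1
    rcases o with _ | i <;> simp

theorem optionEquivLeft_pderiv_none (q : MvPolynomial (Option ι) A) :
    optionEquivLeft A ι (pderiv none q) = Polynomial.derivative (optionEquivLeft A ι q) := by
  classical
  induction q using MvPolynomial.induction_on with
  | C a => simp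
  | add p q hp hq => simp only [map_add, hp, hq]
  | mul_X p o hp =>
    rw [Derivation.leibniz, map_mul, Polynomial.derivative_mul, map_add, smul_eq_mul, smul_eq_mul,
      map_mul, map_mul, hp, pderiv_X]
    rcases o with _ | i
    · simp; ring
    · simp; ring

theorem map_aeval_pt {S : Type*} [CommRing S] [Algebra A S] (φ : R →ₐ[A] S) (w : R) (x : ι → R)
    (q : MvPolynomial (Option ι) A) :
    φ (aeval (pt w x) q) = aeval (pt (φ w) (fun i => φ (x i))) q := by
  rw [← AlgHom.comp_apply, comp_aeval]
  congr 2
  funext o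
  rcases o with _ | i <;> rfl

end Option

/-- `w` is a simple root of `f ∈ A[x][w]`. -/
def IsSimpleRoot (A : Type*) {R : Type*} [CommRing A] [CommRing R] [Algebra A R] {ι : Type*}
    (x : ι → R) (w : R) (f : MvPolynomial (Option ι) A) : Prop :=
  aeval (pt w x) f = 0 ∧ IsUnit (aeval (pt w x) (pderiv none f))

/-- `r` is a fraction of polynomials in `x` and `w`. -/
def IsRational (A : Type*) {R : Type*} [CommRing A] [CommRing R] [Algebra A R] {ι : Type*}
    (x : ι → R) (w : R) (r : R) : Prop :=
  ∃ q Q : MvPolynomial (Option ι) A, IsUnit (aeval (pt w x) q) ∧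
    aeval (pt w x) q * r = aeval (pt w x) Q

section Model

variable (A : Type u) [CommRing A] [IsLocalRing A] (ι : Type)
    (R : Type u) [CommRing R] [IsLocalRing R] [Algebra (Localization.AtPrime (orig A ι)) R]
    [IsLocalHom (algebraMap (Localization.AtPrime (orig A ι)) R)]
    [Algebra A R] [IsScalarTower A (Localization.AtPrime (orig A ι)) R]

/-- The coordinates of the model. -/
noncomputable def coord : ι → R := fun i => algebraMap (Localization.AtPrime (orig A ι)) R
      (algebraMap (MvPolynomial ι A) (Localization.AtPrime (orig A ι)) (MvPolynomial.X i))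

omit [IsLocalRing R] [IsLocalHom (algebraMap (Localization.AtPrime (orig A ι)) R)] in
theorem aeval_coord (p : MvPolynomial ι A) : aeval (coord A ι R) p =
    algebraMap (Localization.AtPrime (orig A ι)) R
      (algebraMap (MvPolynomial ι A) (Localization.AtPrime (orig A ι)) p) := by
  have : (aeval (coord A ι R) : MvPolynomial ι A →ₐ[A] R) =
      (IsScalarTower.toAlgHom A (Localization.AtPrime (orig A ι)) R).comp
        (IsScalarTower.toAlgHom A (MvPolynomial ι A) (Localization.AtPrime (orig A ι))) := by
    ext i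
    simp [coord]
  rw [this]
  rfl

omit [IsLocalRing R] [IsLocalHom (algebraMap (Localization.AtPrime (orig A ι)) R)] in
/-- Clearing denominators. -/
theorem exists_clear (w : R) (p : Polynomial (Localization.AtPrime (orig A ι))) :
    ∃ (q : MvPolynomial (Option ι) A) (d : MvPolynomial (Option ι) A),
      IsUnit (aeval (pt w (coord A ι R)) d) ∧
      aeval (pt w (coord A ι R)) q = aeval (pt w (coord A ι R)) d * Polynomial.aeval w p ∧
      aeval (pt w (coord A ι R)) (pderiv none q) =
        aeval (pt w (coord A ι R)) d * Polynomial.aeval w (Polynomial.derivative p) := by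
  set L := Localization.AtPrime (orig A ι) with hL
  obtain ⟨b, hb, hbp⟩ := IsLocalization.integerNormalization_spec (orig A ι).primeCompl p
  set p' := IsLocalization.integerNormalization (orig A ι).primeCompl p with hp'
  have key : ∀ r : Polynomial (MvPolynomial ι A),
      Polynomial.eval₂ ((aeval (coord A ι R) : MvPolynomial ι A →ₐ[A] R) : _ →+* R) w r =
        Polynomial.aeval w (r.map (algebraMap (MvPolynomial ι A) L)) := by
    intro r
    rw [Polynomial.aeval_def, Polynomial.eval₂_map]
    congr 1
    ext q
    · simp only [RingHom.comp_apply]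
      exact (aeval_coord A ι R _)
    · exact (aeval_coord A ι R _)
  have hb' : aeval (pt w (coord A ι R)) (rename some b) =
      algebraMap L R (algebraMap (MvPolynomial ι A) L b) := by
    rw [aeval_rename, ← aeval_coord]
    rfl
  refine ⟨(optionEquivLeft A ι).symm p', rename some b, ?_, ?_, ?_⟩ <;> rw [hb']
  · exact (IsLocalization.map_units L ⟨b, hb⟩).map (algebraMap L R)
  · rw [aeval_pt_eq, AlgEquiv.apply_symm_apply, key, hbp, Algebra.smul_def, map_mul,
      Polynomial.algebraMap_apply, Polynomial.aeval_C]
  · rw [aeval_pt_eq, optionEquivLeft_pderiv_none, AlgEquiv.apply_symm_apply, key,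
      ← Polynomial.derivative_map, hbp, Polynomial.derivative_smul, Algebra.smul_def, map_mul,
      Polynomial.algebraMap_apply, Polynomial.aeval_C]

/-- The statement for the model. -/
theorem exists_gen_model [Hensel.IsHenselization (Localization.AtPrime (orig A ι)) R]
    {κ : Type*} [Finite κ] (G : κ → R) :
    ∃ (w : R) (f : MvPolynomial (Option ι) A), IsSimpleRoot A (coord A ι R) w f ∧
      ∀ k, IsRational A (coord A ι R) w (G k) := by
  set L := Localization.AtPrime (orig A ι) with hL
  obtain ⟨π, hπ⟩ := Groth.Agent.Hensel.Exist.exists_isHull_of_isHenselization L R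
  classical
  cases nonempty_fintype κ
  obtain ⟨E, _, _, _, χ, hχ⟩ := hπ.exists_etale_finset (Finset.univ.image G)
  have hχ' : ∀ k, ∃ e, χ e = G k := fun k => hχ (by simp)
  choose e he using hχ'
  let Q : Ideal E := (maximalIdeal R).comap χ
  have hQ : Q.IsPrime := Ideal.comap_isPrime _ _
  obtain ⟨g, hgQ, hg⟩ := Algebra.IsEtaleAt.exists_isStandardEtale (R := L) Q
  have hχg : IsUnit (χ g) := by
    by_contra h
    exact hgQ h
  let χ' : Localization.Away g →ₐ[L] R :=
    IsLocalization.liftAlgHom (M := Submonoid.powers g) (f := χ) (by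
      rintro ⟨_, n, rfl⟩
      simpa using hχg.pow n)
  have hχ' : ∀ a, χ' (algebraMap E _ a) = χ a := fun a => by
    simp [χ', IsLocalization.liftAlgHom]
  obtain ⟨⟨P⟩⟩ := hg
  have hx : P.HasMap (χ' P.x) := P.hasMap.map χ'
  obtain ⟨f, d, hd, hf, hf'⟩ := exists_clear A ι R (χ' P.x) P.f
  refine ⟨χ' P.x, f, ⟨?_, ?_⟩, fun k => ?_⟩
  · rw [hf, hx.1, mul_zero]
  · rw [hf']
    exact hd.mul hx.isUnit_derivative_f
  · obtain ⟨p, n, hp⟩ := P.exists_mul_aeval_x_g_pow_eq_aeval_x (algebraMap E _ (e k))
    have h1 := congr(χ' $hp)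
    rw [map_mul, hχ', he, map_pow, ← Polynomial.aeval_algHom_apply, ← Polynomial.aeval_algHom_apply]
      at h1
    obtain ⟨q₁, d₁, hd₁, hq₁, -⟩ := exists_clear A ι R (χ' P.x) (P.g ^ n)
    obtain ⟨q₂, d₂, hd₂, hq₂, -⟩ := exists_clear A ι R (χ' P.x) p
    refine ⟨d₂ * q₁, d₁ * q₂, ?_, ?_⟩
    · rw [map_mul, hq₁, map_pow]
      exact hd₂.mul (hd₁.mul (hx.2.pow n))
    · rw [map_mul, map_mul, hq₁, hq₂, map_pow, ← h1]
      ring

end Model

/-- Two henselian polynomial rings in the same variables are isomorphic. -/
theorem exists_algEquiv {A R R' : Type u} [CommRing A] [CommRing R] [Algebra A R] [CommRing R']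
    [Algebra A R'] {ι : Type v} {x : ι → R} {x' : ι → R'} (h : IsHensFree A R x)
    (h' : IsHensFree A R' x') : ∃ e : R ≃ₐ[A] R', ∀ i, e (x i) = x' i := by
  have h1 := h.henselian
  have h2 := h.isLocalHom
  have h3 := h'.henselian
  have h4 := h'.isLocalHom
  let f : R →ₐ[A] R' := h.lift x' h'.not_isUnit
  let g : R' →ₐ[A] R := h'.lift x h.not_isUnit
  have hf : ∀ i, f (x i) = x' i := fun i => h.lift_apply _ _ _
  have hg : ∀ i, g (x' i) = x i := fun i => h'.lift_apply _ _ _
  have hfg : f.comp g = AlgHom.id A R' := h'.hom_ext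
    (fun i => by rw [AlgHom.comp_apply, hg, hf]; exact h'.not_isUnit i)
    fun i => by rw [AlgHom.comp_apply, hg, hf, AlgHom.id_apply]
  have hgf : g.comp f = AlgHom.id A R := h.hom_ext
    (fun i => by rw [AlgHom.comp_apply, hf, hg]; exact h.not_isUnit i)
    fun i => by rw [AlgHom.comp_apply, hf, hg, AlgHom.id_apply]
  exact ⟨AlgEquiv.ofAlgHom f g hfg hgf, hf⟩

/-- Finite families of elements of `A{x}` are rational in `x` and one simple root `w`. -/
theorem exists_gen {A R : Type u} [CommRing A] [IsLocalRing A] [CommRing R] [Algebra A R]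
    {ι : Type} {x : ι → R} (h : IsHensFree A R x) {κ : Type*} [Finite κ] (G : κ → R) :
    ∃ (w : R) (f : MvPolynomial (Option ι) A), IsSimpleRoot A x w f ∧
      ∀ k, IsRational A x w (G k) := by
  obtain ⟨S, _, _, _, _, hS, -⟩ :=
    Groth.Agent.Hensel.Exist.exists_isHenselization (Localization.AtPrime (orig A ι))
  let _ : Algebra A S := ((algebraMap (Localization.AtPrime (orig A ι)) S).comp
    (algebraMap A (Localization.AtPrime (orig A ι)))).toAlgebra
  have : IsScalarTower A (Localization.AtPrime (orig A ι)) S := IsScalarTower.of_algebraMap_eq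
    fun _ => rfl
  have h' : IsHensFree A S (coord A ι S) := isHensFree_of_isHenselization A ι S
  obtain ⟨e, he⟩ := exists_algEquiv h' h
  obtain ⟨w, f, ⟨hf, hf'⟩, hG⟩ := exists_gen_model A ι S fun k => e.symm (G k)
  have he' : ∀ q : MvPolynomial (Option ι) A,
      e (aeval (pt w (coord A ι S)) q) = aeval (pt (e w) x) q := by
    intro q
    have := map_aeval_pt (e : S →ₐ[A] R) w (coord A ι S) q
    simp only [AlgEquiv.coe_toAlgHom, he] at this
    exact this
  refine ⟨e w, f, ⟨?_, ?_⟩, fun k => ?_⟩
  · rw [← he', hf, map_zero]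
  · rw [← he']
    exact hf'.map e
  · obtain ⟨q, Q, hq, hQ⟩ := hG k
    refine ⟨q, Q, ?_, ?_⟩
    · rw [← he']
      exact hq.map e
    · rw [← he', ← he', ← hQ, map_mul, e.apply_symm_apply]

end Groth.Agent.Vancyc.H690.HensGen
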