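import Groth.Agent.Vancyc.H690.HensFree

/-!
# Henselizations of finitely presented algebras at a rational point of the closed fibre

`IsHensPres A S y I`: `S` is the henselization of `A[y]/I` at the origin, by universal property.
-/

set_option autoImplicit false
universe u v

namespace Groth.Agent.Vancyc.H690.HensPres

open IsLocalRing Groth.Agent.Vancyc.H690.HensFree

/-- `S`, with the elements `y`, is the henselization of `A[y]/I` at the origin. -/
structure IsHensPres (A S : Type u) [CommRing A] [CommRing S] [Algebra A S]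
    {ι : Type v} (y : ι → S) (I : Ideal (MvPolynomial ι A)) : Prop where
  henselian : HenselianLocalRing S
  isLocalHom : IsLocalHom (algebraMap A S)
  not_isUnit : ∀ i, ¬ IsUnit (y i)
  rel : ∀ p ∈ I, MvPolynomial.aeval y p = 0
  existsUnique : ∀ (T : Type u) [CommRing T] [HenselianLocalRing T] [Algebra A T]
    [IsLocalHom (algebraMap A T)] (t : ι → T), (∀ i, t i ∈ maximalIdeal T) →
    (∀ p ∈ I, MvPolynomial.aeval t p = 0) →
    ∃! φ : S →ₐ[A] T, ∀ i, φ (y i) = t i

/-- Elements of an algebra generated by `y` are constant modulo the ideal generated by `y`. -/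
theorem exists_sub_mem_span {A B₀ : Type*} [CommRing A] [CommRing B₀] [Algebra A B₀] {ι : Type*}
    (y : ι → B₀) (hy : Function.Surjective (MvPolynomial.aeval (R := A) y)) (b : B₀) :
    ∃ a : A, b - algebraMap A B₀ a ∈ Ideal.span (Set.range y) := by
  obtain ⟨p, rfl⟩ := hy b
  induction p using MvPolynomial.induction_on with
  | C a => exact ⟨a, by simp⟩
  | add p q hp hq =>
    obtain ⟨a, ha⟩ := hp
    obtain ⟨c, hc⟩ := hq
    refine ⟨a + c, ?_⟩
    rw [map_add, map_add, add_sub_add_comm]
    exact Ideal.add_mem _ ha hc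
  | mul_X p i _ =>
    refine ⟨0, ?_⟩
    rw [map_zero, sub_zero, map_mul, MvPolynomial.aeval_X]
    exact Ideal.mul_mem_left _ _ (Ideal.subset_span ⟨i, rfl⟩)

section Localization

variable {A : Type u} [CommRing A] [IsLocalRing A] {B₀ : Type u} [CommRing B₀] [Algebra A B₀]
  {ι : Type v} (y : ι → B₀) (hy : Function.Surjective (MvPolynomial.aeval (R := A) y))
  (P : Ideal B₀) [P.IsPrime] (hP : (maximalIdeal A).map (algebraMap A B₀) ≤ P)
  (hyP : ∀ i, y i ∈ P)

include hy hP hyP in
/-- Membership in the prime at the origin can be tested after a local map. -/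
theorem mem_iff_of_local {T : Type*} [CommRing T] [IsLocalRing T] [Algebra A T]
    [IsLocalHom (algebraMap A T)] (β : B₀ →ₐ[A] T) (hβ : ∀ i, β (y i) ∈ maximalIdeal T) (b : B₀) :
    b ∈ P ↔ β b ∈ maximalIdeal T := by
  obtain ⟨a, ha⟩ := exists_sub_mem_span y hy b
  have h1 : Ideal.span (Set.range y) ≤ P := by
    rw [Ideal.span_le]
    rintro _ ⟨i, rfl⟩
    exact hyP i
  have h2 : Ideal.span (Set.range y) ≤ (maximalIdeal T).comap (β : B₀ →+* T) := by
    rw [Ideal.span_le]
    rintro _ ⟨i, rfl⟩
    exact hβ i
  have h3 : β b - algebraMap A T a ∈ maximalIdeal T := by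
    have := h2 ha
    rw [Ideal.mem_comap] at this
    simpa using this
  have h4 : b ∈ P ↔ algebraMap A B₀ a ∈ P :=
    ⟨fun h => by simpa using P.sub_mem h (h1 ha), fun h => by simpa using P.add_mem (h1 ha) h⟩
  have h5 : β b ∈ maximalIdeal T ↔ algebraMap A T a ∈ maximalIdeal T :=
    ⟨fun h => by simpa using (maximalIdeal T).sub_mem h h3,
      fun h => by simpa using (maximalIdeal T).add_mem h3 h⟩
  rw [h4, h5]
  constructor
  · intro h
    by_contra hne
    have h6 : IsUnit (algebraMap A T a) := not_not.mp hne
    have h7 := ((isUnit_map_iff (algebraMap A T) a).mp h6).map (algebraMap A B₀)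
    exact Ideal.IsPrime.ne_top inferInstance (Ideal.eq_top_of_isUnit_mem _ h h7)
  · intro h
    have h6 : a ∈ maximalIdeal A := by
      rw [IsLocalRing.mem_maximalIdeal, mem_nonunits_iff] at h ⊢
      exact fun h' => h (h'.map _)
    exact hP (Ideal.mem_map_of_mem _ h6)

include hy hP hyP in
/-- The henselization of a finitely generated algebra at the origin has the expected universal
property. -/
theorem isHensPres_of_isHenselization
    (Bh : Type u) [CommRing Bh] [IsLocalRing Bh] [Algebra (Localization.AtPrime P) Bh]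
    [IsLocalHom (algebraMap (Localization.AtPrime P) Bh)]
    [hH : Hensel.IsHenselization (Localization.AtPrime P) Bh]
    [Algebra A Bh] [IsScalarTower A (Localization.AtPrime P) Bh] :
    IsHensPres A Bh
      (fun i => algebraMap (Localization.AtPrime P) Bh (algebraMap B₀ (Localization.AtPrime P) (y i)))
      (RingHom.ker (MvPolynomial.aeval (R := A) y)) := by
  set L := Localization.AtPrime P with hL
  have hcomp : ∀ p : MvPolynomial ι A, MvPolynomial.aeval
      (fun i => algebraMap L Bh (algebraMap B₀ L (y i))) p =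
      algebraMap L Bh (algebraMap B₀ L (MvPolynomial.aeval y p)) := by
    intro p
    have : (MvPolynomial.aeval (R := A) (fun i => algebraMap L Bh (algebraMap B₀ L (y i)))) =
        ((IsScalarTower.toAlgHom A L Bh).comp (IsScalarTower.toAlgHom A B₀ L)).comp
          (MvPolynomial.aeval y) := by
      ext i
      simp
    rw [this]
    rfl
  have hlocA : IsLocalHom (algebraMap A L) := by
    refine ⟨fun a ha => ?_⟩
    rw [IsScalarTower.algebraMap_apply A B₀ L, IsLocalization.AtPrime.isUnit_to_map_iff L P] at ha
    by_contra hne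
    exact ha (hP (Ideal.mem_map_of_mem _ hne))
  have hloc : IsLocalHom (algebraMap A Bh) := by
    rw [IsScalarTower.algebraMap_eq A L Bh]
    exact RingHom.isLocalHom_comp _ _
  refine ⟨hH.henselian, hloc, ?_, ?_, ?_⟩
  · intro i hi
    have h1 := (isUnit_map_iff (algebraMap L Bh) _).mp hi
    rw [IsLocalization.AtPrime.isUnit_to_map_iff L P] at h1
    exact h1 (hyP i)
  · intro p hp
    rw [hcomp, RingHom.mem_ker.mp hp, map_zero, map_zero]
  · intro T _ _ _ _ t ht hrel
    -- the map from `B₀`
    let e : (MvPolynomial ι A ⧸ RingHom.ker (MvPolynomial.aeval (R := A) y)) ≃ₐ[A] B₀ :=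
      Ideal.quotientKerAlgEquivOfSurjective hy
    have he : ∀ p, e (Ideal.Quotient.mk _ p) = MvPolynomial.aeval y p := fun p => rfl
    let β₀ : (MvPolynomial ι A ⧸ RingHom.ker (MvPolynomial.aeval (R := A) y)) →ₐ[A] T :=
      Ideal.Quotient.liftₐ (RingHom.ker (MvPolynomial.aeval (R := A) y))
        (MvPolynomial.aeval t) hrel
    let β : B₀ →ₐ[A] T := β₀.comp e.symm.toAlgHom
    have hβ : ∀ p : MvPolynomial ι A,
        β (MvPolynomial.aeval y p) = MvPolynomial.aeval t p := by
      intro p
      rw [← he]
      change β₀ (e.symm (e (Ideal.Quotient.mk _ p))) = _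
      rw [e.symm_apply_apply]
      rfl
    have hβy : ∀ i, β (y i) = t i := fun i => by
      have := hβ (MvPolynomial.X i)
      simpa using this
    have hmem := mem_iff_of_local (A := A) y hy P hP hyP β fun i => by rw [hβy]; exact ht i
    have hunit : ∀ s : P.primeCompl, IsUnit ((β : B₀ →+* T) s) := fun s => by
      by_contra hne
      exact s.2 ((hmem s).mpr hne)
    let β' : L →+* T := IsLocalization.lift hunit
    have hβ' : ∀ b, β' (algebraMap B₀ L b) = β b := fun b => IsLocalization.lift_eq hunit b
    have hβ'loc : IsLocalHom β' := by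
      refine ⟨fun l hl => ?_⟩
      obtain ⟨⟨b, s⟩, hbs⟩ := IsLocalization.surj P.primeCompl l
      have h1 : β' l * β' (algebraMap B₀ L s) = β b := by
        rw [← map_mul, hbs, hβ']
      have h2 : IsUnit (β b) := by
        rw [← h1, hβ']
        exact hl.mul (hunit s)
      have h3 : b ∉ P := fun h => ((hmem b).mp h) h2
      have h4 : IsUnit (algebraMap B₀ L b) := (IsLocalization.AtPrime.isUnit_to_map_iff L P b).mpr h3
      rw [← hbs] at h4
      exact isUnit_of_mul_isUnit_left h4
    obtain ⟨g, hg, hgu⟩ := hH.universal T β' hβ'loc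
    have hg' : ∀ l, g (algebraMap L Bh l) = β' l := fun l => congr($hg l)
    refine ⟨{ toRingHom := g, commutes' := fun a => ?_ }, fun i => ?_, fun ψ hψ => ?_⟩
    · change g (algebraMap A Bh a) = _
      rw [IsScalarTower.algebraMap_apply A L Bh, hg', IsScalarTower.algebraMap_apply A B₀ L, hβ',
        AlgHom.commutes]
    · change g _ = _
      rw [hg', hβ', hβy]
    · have h1 : (ψ : Bh →+* T).comp (algebraMap L Bh) = β' := by
        refine IsLocalization.ringHom_ext P.primeCompl ?_
        ext b
        obtain ⟨p, rfl⟩ := hy b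
        simp only [RingHom.comp_apply]
        rw [hβ', hβ]
        change ψ _ = _
        rw [← hcomp, ← AlgHom.comp_apply]
        congr 1
        ext i
        simpa using hψ i
      have h2 := hgu (ψ : Bh →+* T) h1
      ext b
      exact congr($h2 b)

end Localization

section Quotient

variable {A R S : Type u} [CommRing A] [CommRing R] [Algebra A R]
  [CommRing S] [Algebra A S] {ι : Type v} {x : ι → R} {y : ι → S} {I : Ideal (MvPolynomial ι A)}

/-- The henselization of `A[y]/I` is the quotient of `A{x}` by the ideal generated by `I`. -/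
theorem exists_surjective_ker_eq (hR : IsHensFree A R x) (hS : IsHensPres A S y I) :
    ∃ π : R →ₐ[A] S, Function.Surjective π ∧ (∀ i, π (x i) = y i) ∧
      RingHom.ker π = I.map (MvPolynomial.aeval x : MvPolynomial ι A →ₐ[A] R) := by
  have h1 := hR.henselian
  have h2 := hR.isLocalHom
  have h3 := hS.henselian
  have h4 := hS.isLocalHom
  let π : R →ₐ[A] S := hR.lift y hS.not_isUnit
  have hπ : ∀ i, π (x i) = y i := fun i => hR.lift_apply _ _ _
  have hπa : ∀ p : MvPolynomial ι A, π (MvPolynomial.aeval x p) = MvPolynomial.aeval y p := by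
    intro p
    rw [← AlgHom.comp_apply]
    congr 1
    ext i
    simpa using hπ i
  set J : Ideal R := I.map (MvPolynomial.aeval x : MvPolynomial ι A →ₐ[A] R) with hJ
  have hJk : J ≤ RingHom.ker π := by
    rw [hJ, Ideal.map_le_iff_le_comap]
    intro p hp
    rw [Ideal.mem_comap, RingHom.mem_ker, hπa]
    exact hS.rel p hp
  have hJm : J ≤ maximalIdeal R := by
    refine hJk.trans ?_
    intro r hr hu
    exact not_isUnit_zero ((RingHom.mem_ker.mp hr) ▸ hu.map π)
  have h5 : HenselianLocalRing (R ⧸ J) := henselianLocalRing_quotient J hJm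
  have h6 : IsLocalHom (Ideal.Quotient.mk J) :=
    IsLocalHom.of_surjective _ Ideal.Quotient.mk_surjective
  have h7 : IsLocalHom (algebraMap A (R ⧸ J)) :=
    RingHom.isLocalHom_comp (Ideal.Quotient.mk J) (algebraMap A R)
  have hx : ∀ i, Ideal.Quotient.mk J (x i) ∈ maximalIdeal (R ⧸ J) := fun i => by
    rw [IsLocalRing.mem_maximalIdeal, mem_nonunits_iff, isUnit_map_iff]
    exact hR.not_isUnit i
  obtain ⟨σ, hσ, -⟩ := hS.existsUnique (R ⧸ J) (fun i => Ideal.Quotient.mk J (x i)) hx
    (fun p hp => by
      have : (MvPolynomial.aeval fun i => Ideal.Quotient.mk J (x i)) =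
          (Ideal.Quotient.mkₐ A J).comp (MvPolynomial.aeval x) := by
        ext i
        simp
      rw [this, AlgHom.comp_apply, Ideal.Quotient.mkₐ_eq_mk, Ideal.Quotient.eq_zero_iff_mem]
      exact Ideal.mem_map_of_mem _ hp)
  have h8 : σ.comp π = Ideal.Quotient.mkₐ A J := by
    refine hR.hom_ext (fun i => ?_) fun i => ?_
    · rw [AlgHom.comp_apply, hπ, hσ]
      exact hx i
    · rw [AlgHom.comp_apply, hπ, hσ, Ideal.Quotient.mkₐ_eq_mk]
  let π' : (R ⧸ J) →ₐ[A] S := Ideal.Quotient.liftₐ J π fun r hr => hJk hr
  have h9 : π'.comp σ = AlgHom.id A S := by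
    obtain ⟨χ, hχ, hχu⟩ := hS.existsUnique S y hS.not_isUnit hS.rel
    rw [hχu (π'.comp σ) fun i => by
      rw [AlgHom.comp_apply, hσ]
      exact hπ i, hχu (AlgHom.id A S) fun i => rfl]
  refine ⟨π, fun s => ?_, hπ, le_antisymm (fun r hr => ?_) hJk⟩
  · obtain ⟨r, hr⟩ := Ideal.Quotient.mk_surjective (σ s)
    refine ⟨r, ?_⟩
    have := congr($h9 s)
    rw [AlgHom.comp_apply, ← hr] at this
    exact this
  · have := congr($h8 r)
    rw [AlgHom.comp_apply, RingHom.mem_ker.mp hr, map_zero, Ideal.Quotient.mkₐ_eq_mk] at this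
    exact Ideal.Quotient.eq_zero_iff_mem.mp this.symm

end Quotient

section Existence

/-- The origin of the closed fibre of `A[x]`. -/
noncomputable def orig (A : Type u) [CommRing A] [IsLocalRing A] (ι : Type v) : Ideal (MvPolynomial ι A) :=
  (maximalIdeal A).comap MvPolynomial.constantCoeff

variable (A : Type u) [CommRing A] [IsLocalRing A]

instance (ι : Type v) : (orig A ι).IsPrime :=
  inferInstanceAs (((maximalIdeal A).comap MvPolynomial.constantCoeff).IsPrime)

theorem isHensFree_of_isHenselization (ι : Type)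
    (Bh : Type u) [CommRing Bh] [IsLocalRing Bh] [Algebra (Localization.AtPrime (orig A ι)) Bh]
    [IsLocalHom (algebraMap (Localization.AtPrime (orig A ι)) Bh)]
    [hH : Hensel.IsHenselization (Localization.AtPrime (orig A ι)) Bh]
    [Algebra A Bh] [IsScalarTower A (Localization.AtPrime (orig A ι)) Bh] :
    IsHensFree A Bh (fun i => algebraMap (Localization.AtPrime (orig A ι)) Bh
      (algebraMap (MvPolynomial ι A) (Localization.AtPrime (orig A ι)) (MvPolynomial.X i))) := by
  have h := isHensPres_of_isHenselization (A := A) (B₀ := MvPolynomial ι A) MvPolynomial.X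
    (by rw [MvPolynomial.aeval_X_left]; exact Function.surjective_id) (orig A ι)
    (by
      rw [Ideal.map_le_iff_le_comap]
      intro a ha
      rw [Ideal.mem_comap]
      change MvPolynomial.constantCoeff _ ∈ maximalIdeal A
      rw [MvPolynomial.algebraMap_eq, MvPolynomial.constantCoeff_C]
      exact ha)
    (fun i => by
      change MvPolynomial.constantCoeff _ ∈ maximalIdeal A
      rw [MvPolynomial.constantCoeff_X]
      exact Ideal.zero_mem _) Bh
  refine ⟨h.henselian, h.isLocalHom, h.not_isUnit, fun T _ _ _ _ t ht => ?_⟩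
  refine h.existsUnique T t ht fun p hp => ?_
  have : p = 0 := by
    rw [RingHom.mem_ker, MvPolynomial.aeval_X_left] at hp
    exact hp
  rw [this, map_zero]

/-- Existence of `A{x}`. -/
theorem exists_isHensFree (ι : Type) :
    ∃ (R : Type u) (_ : CommRing R) (_ : Algebra A R) (x : ι → R), IsHensFree A R x := by
  obtain ⟨S, _, _, _, _, hS, -⟩ :=
    Groth.Agent.Hensel.Exist.exists_isHenselization (Localization.AtPrime (orig A ι))
  let _ : Algebra A S := ((algebraMap (Localization.AtPrime (orig A ι)) S).comp
    (algebraMap A (Localization.AtPrime (orig A ι)))).toAlgebra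
  have : IsScalarTower A (Localization.AtPrime (orig A ι)) S := IsScalarTower.of_algebraMap_eq
    fun _ => rfl
  exact ⟨S, inferInstance, inferInstance, _, isHensFree_of_isHenselization A ι S⟩

end Existence

end Groth.Agent.Vancyc.H690.HensPres
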