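import Groth.Agent.Vancyc.H690.HensGen
import Groth.Agent.Hensel.MvHensel
import Mathlib.LinearAlgebra.Matrix.ToLinearEquiv

/-!
# The inverse function theorem for `A{x}`
-/

set_option autoImplicit false
universe u v

namespace Groth.Agent.Vancyc.H690.InvFun

open IsLocalRing Groth.Agent.Vancyc.H690.HensFree Groth.Agent.Vancyc.H690.HensPres
  Groth.Agent.Vancyc.H690.HensGen MvPolynomial

section Dual

variable {A K : Type*} [CommRing A] [CommRing K] [Algebra A K] {σ : Type*} [Fintype σ]

/-- Taylor expansion in the dual numbers. -/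
theorem aeval_dual (a b : σ → K) (q : MvPolynomial σ A) :
    aeval (fun o => (TrivSqZeroExt.inl (a o) + TrivSqZeroExt.inr (b o) : DualNumber K)) q =
      TrivSqZeroExt.inl (aeval a q) + TrivSqZeroExt.inr (∑ o, b o * aeval a (pderiv o q)) := by
  classical
  induction q using MvPolynomial.induction_on with
  | C c =>
    simp only [algHom_C, pderiv_C, map_zero, mul_zero, Finset.sum_const_zero,
      TrivSqZeroExt.inr_zero, add_zero]
    rfl
  | add p q hp hq =>
    rw [map_add, hp, hq]
    ext
    · simp
    · simp [mul_add, Finset.sum_add_distrib]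
  | mul_X p o hp =>
    have h1 : ∀ (p q c d : K), ((TrivSqZeroExt.inl p + TrivSqZeroExt.inr q : DualNumber K) *
        (TrivSqZeroExt.inl c + TrivSqZeroExt.inr d)) =
        TrivSqZeroExt.inl (p * c) + TrivSqZeroExt.inr (p * d + q * c) := by
      intro p q c d
      ext
      · simp
      · simp
    rw [map_mul, hp, aeval_X, h1, map_mul, aeval_X]
    congr 2
    simp only [Derivation.leibniz, smul_eq_mul, map_add, map_mul, aeval_X, pderiv_X, mul_add,
      Finset.sum_add_distrib, Finset.sum_mul]
    congr 1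
    · rw [Finset.sum_eq_single o]
      · simp [mul_comm]
      · intro b' _ hb'
        simp [hb'.symm]
      · simp
    · refine Finset.sum_congr rfl fun i _ => ?_
      ring

end Dual

section Root

variable {A : Type*} [CommRing A] {ι : Type*}

/-- Uniqueness of the simple root in a local ring. -/
theorem root_unique {T : Type*} [CommRing T] [IsLocalRing T] [Algebra A T]
    (f : MvPolynomial (Option ι) A) (t : ι → T) (w w' : T)
    (hw : aeval (pt w t) f = 0) (hw' : aeval (pt w' t) f = 0)
    (hd : IsUnit (aeval (pt w t) (pderiv none f))) (hsub : w - w' ∈ maximalIdeal T) : w = w' := by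
  rw [aeval_pt_eq] at hw hw' hd
  rw [optionEquivLeft_pderiv_none] at hd
  refine IsLocalRing.eq_of_eval_eq_zero_of_not_isUnit_sub
    (f := (optionEquivLeft A ι f).map ((aeval t : MvPolynomial ι A →ₐ[A] T) : _ →+* T))
    ?_ ?_ hsub ?_
  · rw [Polynomial.eval_map, hw]
  · rw [Polynomial.eval_map, hw']
  · rw [Polynomial.derivative_map, Polynomial.eval_map]
    exact hd

end Root

/-- Dual numbers over a henselian local ring are henselian local. -/
theorem isLocalRing_dual (K : Type u) [CommRing K] [IsLocalRing K] :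
    IsLocalRing (DualNumber K) := by
  refine IsLocalRing.of_nonunits_add fun a b ha hb => ?_
  rw [mem_nonunits_iff, TrivSqZeroExt.isUnit_iff_isUnit_fst] at ha hb ⊢
  rw [TrivSqZeroExt.fst_add]
  exact IsLocalRing.nonunits_add ha hb

theorem henselian_dual (K : Type u) [CommRing K] [HenselianLocalRing K] :
    HenselianLocalRing (DualNumber K) := by
  have := isLocalRing_dual K
  have : Module.Finite K (DualNumber K) := inferInstanceAs (Module.Finite K (K × K))
  exact Groth.Agent.S0505.result K (DualNumber K)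

section Closed

variable {A R : Type u} [CommRing A] [IsLocalRing A] [CommRing R] [Algebra A R] {ι : Type v}
  {x : ι → R}

/-- The closed point of `A{x}`. -/
theorem exists_closedPoint (h : IsHensFree A R x) :
    ∃ π : R →ₐ[A] ResidueField A, (∀ i, π (x i) = 0) ∧ ∀ r, π r = 0 ↔ ¬ IsUnit r := by
  have h1 := h.henselian
  have h2 := h.isLocalHom
  have h6 : IsLocalHom (algebraMap A (ResidueField A)) :=
    inferInstanceAs (IsLocalHom (residue A))
  let π : R →ₐ[A] ResidueField A := h.lift (fun _ => 0) fun i => Ideal.zero_mem _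
  have hπ : ∀ i, π (x i) = 0 := fun i => h.lift_apply _ _ _
  have hloc : IsLocalHom (π : R →+* ResidueField A) :=
    h.isLocalHom_of_mem π fun i => by rw [hπ]; exact Ideal.zero_mem _
  refine ⟨π, hπ, fun r => ?_⟩
  constructor
  · intro hr hu
    exact not_isUnit_zero (hr ▸ hu.map π)
  · intro hu
    by_contra hne
    exact hu ((isUnit_map_iff (π : R →+* ResidueField A) r).mp (isUnit_iff_ne_zero.mpr hne))

end Closed

section Main

variable {A R : Type u} [CommRing A] [IsLocalRing A] [CommRing R] [Algebra A R] {ι : Type}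
  {x : ι → R}

/-- The ideal generated by `𝔪_A`, by `G` and by the square of the maximal ideal. -/
def spanIdeal (A : Type*) {R κ : Type*} [CommRing A] [IsLocalRing A] [CommRing R] [IsLocalRing R]
    [Algebra A R] (G : κ → R) : Ideal R :=
  (maximalIdeal A).map (algebraMap A R) ⊔ Ideal.span (Set.range G) ⊔ maximalIdeal R ^ 2

/-- Tangent vectors of `A{x}` killing enough functions vanish. -/
theorem tangent_eq_zero [IsLocalRing R] {κ : Type*}
    (G : κ → R) (hG : ∀ i, x i ∈ spanIdeal A G)
    (ψ : R →ₐ[A] DualNumber (ResidueField A))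
    (hψ : ∀ r, ¬ IsUnit r → TrivSqZeroExt.fst (ψ r) = 0)
    (hψG : ∀ k, ψ (G k) = 0) (i : ι) : ψ (x i) = 0 := by
  have h1 : spanIdeal A G ≤ RingHom.ker ψ := by
    refine sup_le (sup_le ?_ ?_) ?_
    · rw [Ideal.map_le_iff_le_comap]
      intro a ha
      rw [Ideal.mem_comap, RingHom.mem_ker, AlgHom.commutes]
      have : algebraMap A (ResidueField A) a = 0 := (residue_eq_zero_iff a).mpr ha
      rw [TrivSqZeroExt.algebraMap_eq_inl', this, TrivSqZeroExt.inl_zero]
    · rw [Ideal.span_le]
      rintro _ ⟨k, rfl⟩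
      exact hψG k
    · rw [pow_two, Ideal.mul_le]
      intro r hr s hs
      rw [RingHom.mem_ker, map_mul]
      have h2 := hψ r hr
      have h3 := hψ s hs
      ext
      · simp [h2]
      · simp [h2, h3]
  exact h1 (hG i)

/-- Nondegeneracy of the Jacobian matrix of the system attached to a family of functions whose
differentials form a basis. -/
theorem det_ne_zero [IsLocalRing R] [Fintype ι] [DecidableEq ι] (h : IsHensFree A R x)
    (G : ι → R) (hG : ∀ i, x i ∈ spanIdeal A G) (hGu : ∀ i, ¬ IsUnit (G i))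
    (π : R →ₐ[A] ResidueField A) (hπx : ∀ i, π (x i) = 0) (hπ : ∀ r, π r = 0 ↔ ¬ IsUnit r)
    (w : R) (f : MvPolynomial (Option ι) A) (hf : IsSimpleRoot A x w f)
    (q Q : ι → MvPolynomial (Option ι) A) (hq : ∀ i, IsUnit (aeval (pt w x) (q i)))
    (hqQ : ∀ i, aeval (pt w x) (q i) * G i = aeval (pt w x) (Q i)) :
    (Matrix.of fun o o' : Option ι => aeval (pt (π w) (fun _ => (0 : ResidueField A)))
      (pderiv o ((fun o' : Option ι => o'.elim f Q) o'))).det ≠ 0 := by
  have h1 := h.henselian
  have h2 := h.isLocalHom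
  set k := ResidueField A with hk
  have h3 : IsLocalHom (algebraMap A k) := inferInstanceAs (IsLocalHom (residue A))
  have h4 : HenselianLocalRing (DualNumber k) := henselian_dual k
  have h5 : IsLocalHom (algebraMap A (DualNumber k)) := by
    refine ⟨fun a ha => ?_⟩
    rw [TrivSqZeroExt.algebraMap_eq_inl', TrivSqZeroExt.isUnit_iff_isUnit_fst,
      TrivSqZeroExt.fst_inl] at ha
    exact (isUnit_map_iff (algebraMap A k) a).mp ha
  have hmemD : ∀ z : DualNumber k, z ∈ maximalIdeal (DualNumber k) ↔ TrivSqZeroExt.fst z = 0 := by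
    intro z
    rw [IsLocalRing.mem_maximalIdeal, mem_nonunits_iff, TrivSqZeroExt.isUnit_iff_isUnit_fst,
      isUnit_iff_ne_zero, not_not]
  intro hdet
  obtain ⟨v, hv, hvM⟩ := Matrix.exists_vecMul_eq_zero_iff.mpr hdet
  apply hv
  have hvM' : ∀ o', ∑ o, v o * aeval (pt (π w) (fun _ => (0 : k)))
      (pderiv o ((fun o' : Option ι => o'.elim f Q) o')) = 0 := fun o' => congr_fun hvM o'
  -- the tangent vector
  let ψ : R →ₐ[A] DualNumber k := h.lift (fun i => TrivSqZeroExt.inr (v (some i)))
    fun i => by rw [hmemD, TrivSqZeroExt.fst_inr]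
  have hψx : ∀ i, ψ (x i) = TrivSqZeroExt.inr (v (some i)) := fun i => h.lift_apply _ _ _
  have hψπ : (TrivSqZeroExt.fstHom A k k).comp ψ = π := by
    refine h.hom_ext (fun i => ?_) fun i => ?_
    · rw [AlgHom.comp_apply, hψx]
      simp
    · rw [AlgHom.comp_apply, hψx, hπx]
      simp
  have hψfst : ∀ r, TrivSqZeroExt.fst (ψ r) = π r := fun r => congr($hψπ r)
  -- the expected image of `(w, x)`
  set y : Option ι → DualNumber k := fun o =>
    TrivSqZeroExt.inl (pt (π w) (fun _ => (0 : k)) o) + TrivSqZeroExt.inr (v o) with hy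
  have hy' : y = pt (y none) (fun i => ψ (x i)) := by
    funext o
    rcases o with _ | i
    · rfl
    · rw [pt_some, hψx]
      change TrivSqZeroExt.inl (0 : k) + TrivSqZeroExt.inr (v (some i)) = _
      rw [TrivSqZeroExt.inl_zero, zero_add]
  have hπq : ∀ q : MvPolynomial (Option ι) A,
      aeval (pt (π w) (fun _ => (0 : k))) q = π (aeval (pt w x) q) := by
    intro q
    rw [map_aeval_pt]
    simp only [hπx]
  have hyq : ∀ o', aeval y ((fun o' : Option ι => o'.elim f Q) o') = TrivSqZeroExt.inl
      (π (aeval (pt w x) ((fun o' : Option ι => o'.elim f Q) o'))) := by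
    intro o'
    rw [hy, aeval_dual, hvM', hπq, TrivSqZeroExt.inr_zero, add_zero]
  have hyf : aeval y f = 0 := by
    have := hyq none
    simp only [Option.elim_none] at this
    rw [this, hf.1, map_zero, TrivSqZeroExt.inl_zero]
  have hyQ : ∀ i, aeval y (Q i) = 0 := by
    intro i
    have := hyq (some i)
    simp only [Option.elim_some] at this
    rw [this, ← hqQ, map_mul, (hπ (G i)).mpr (hGu i), mul_zero, TrivSqZeroExt.inl_zero]
  have hψw : ψ w = y none := by
    refine root_unique f (fun i => ψ (x i)) _ _ ?_ ?_ ?_ ?_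
    · rw [← map_aeval_pt, hf.1, map_zero]
    · rw [← hy', hyf]
    · rw [← map_aeval_pt]
      exact hf.2.map ψ
    · rw [hmemD, TrivSqZeroExt.fst_sub, hψfst]
      simp [hy]
  have hψG : ∀ i, ψ (G i) = 0 := by
    intro i
    have h6 := congr(ψ $(hqQ i))
    rw [map_mul, map_aeval_pt _ _ _ (Q i), hψw, ← hy', hyQ] at h6
    exact ((hq i).map ψ).mul_right_eq_zero.mp h6
  have hvi : ∀ i, v (some i) = 0 := by
    intro i
    have h7 := tangent_eq_zero G hG ψ (fun r hr => by rw [hψfst, hπ]; exact hr) hψG i
    rw [hψx] at h7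
    exact TrivSqZeroExt.inr_injective (by rw [h7, TrivSqZeroExt.inr_zero])
  have hψ' : ψ = (TrivSqZeroExt.inlAlgHom A k k).comp π := by
    refine h.hom_ext (fun i => ?_) fun i => ?_
    · rw [hψx, hmemD, TrivSqZeroExt.fst_inr]
    · rw [hψx, hvi, AlgHom.comp_apply, hπx, map_zero, TrivSqZeroExt.inr_zero]
  have hvn : v none = 0 := by
    have h8 : ψ w = TrivSqZeroExt.inl (π w) := congr($hψ' w)
    rw [hψw] at h8
    have h9 := congr(TrivSqZeroExt.snd $h8)
    simpa [hy] using h9
  funext o
  rcases o with _ | i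
  · exact hvn
  · exact hvi i

/-- Surjectivity on points: the equations `G = s` can be solved in every henselian local ring. -/
theorem exists_solve [IsLocalRing R] [Finite ι] (h : IsHensFree A R x)
    (G : ι → R) (hG : ∀ i, x i ∈ spanIdeal A G) (hGu : ∀ i, ¬ IsUnit (G i))
    {T : Type u} [CommRing T] [HenselianLocalRing T] [Algebra A T] [IsLocalHom (algebraMap A T)]
    (s : ι → T) (hs : ∀ i, s i ∈ maximalIdeal T) :
    ∃ φ : R →ₐ[A] T, (∀ i, φ (x i) ∈ maximalIdeal T) ∧ ∀ i, φ (G i) = s i := by
  classical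
  cases nonempty_fintype ι
  have h1 := h.henselian
  have h2 := h.isLocalHom
  obtain ⟨π, hπx, hπ⟩ := exists_closedPoint h
  obtain ⟨w, f, hf, hrat⟩ := exists_gen h G
  choose q Q hq hqQ using hrat
  obtain ⟨w₀, hw₀⟩ := residue_surjective (π w)
  have hdet := det_ne_zero h G hG hGu π hπx hπ w f hf q Q hq hqQ
  let F : Option ι → MvPolynomial (Option ι) T := fun o => o.elim (map (algebraMap A T) f)
    fun i => map (algebraMap A T) (Q i) - C (s i) * map (algebraMap A T) (q i)
  let y₀ : Option ι → T := pt (algebraMap A T w₀) (fun _ => 0)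
  have hy₀ : ∀ p : MvPolynomial (Option ι) A, eval y₀ (map (algebraMap A T) p) =
      algebraMap A T (eval (pt w₀ (fun _ => 0)) p) := by
    intro p
    have h3 : y₀ = (algebraMap A T) ∘ (pt w₀ (fun _ => 0)) := by
      funext o
      rcases o with _ | i
      · rfl
      · simp [y₀]
    rw [eval_map, h3]
    change _ = algebraMap A T (eval₂ (RingHom.id A) _ p)
    rw [MvPolynomial.eval₂_comp_left, RingHom.comp_id]
  have hπp : ∀ p : MvPolynomial (Option ι) A,
      residue A (eval (pt w₀ (fun _ => 0)) p) = aeval (pt (π w) (fun _ => 0)) p := by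
    intro p
    have h3 : pt (π w) (fun _ : ι => (0 : ResidueField A)) =
        (residue A) ∘ (pt w₀ (fun _ => 0)) := by
      funext o
      rcases o with _ | i
      · exact hw₀.symm
      · simp
    rw [h3]
    change residue A (eval₂ (RingHom.id A) _ p) = _
    rw [MvPolynomial.eval₂_comp_left, RingHom.comp_id, aeval_def]
    rfl
  have hπq : ∀ q : MvPolynomial (Option ι) A,
      aeval (pt (π w) (fun _ => (0 : ResidueField A))) q = π (aeval (pt w x) q) := by
    intro q
    rw [map_aeval_pt]
    simp only [hπx]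
  have hmem : ∀ p : MvPolynomial (Option ι) A, π (aeval (pt w x) p) = 0 →
      eval y₀ (map (algebraMap A T) p) ∈ maximalIdeal T := by
    intro p hp
    rw [hy₀]
    rw [← hπq, ← hπp, residue_eq_zero_iff] at hp
    exact ((local_hom_TFAE (algebraMap A T)).out 0 2 rfl rfl).mp inferInstance
      (Ideal.mem_map_of_mem _ hp)
  have h0 : ∀ o, eval y₀ (F o) ∈ maximalIdeal T := by
    intro o
    rcases o with _ | i
    · exact hmem f (by rw [hf.1, map_zero])
    · change eval y₀ (map (algebraMap A T) (Q i) - C (s i) * map (algebraMap A T) (q i)) ∈ _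
      rw [map_sub, map_mul, eval_C]
      refine Ideal.sub_mem _ (hmem (Q i) ?_) (Ideal.mul_mem_right _ _ (hs i))
      rw [← hqQ, map_mul, (hπ (G i)).mpr (hGu i), mul_zero]
  let κT : ResidueField A →+* ResidueField T := ResidueField.map (algebraMap A T)
  have hmat : (residue T) (eval y₀ (Groth.Agent.Hensel.MvHensel.jac F).det) =
      κT (Matrix.of fun o o' : Option ι => aeval (pt (π w) (fun _ => (0 : ResidueField A)))
      (pderiv o ((fun o' : Option ι => o'.elim f Q) o'))).det := by
    rw [RingHom.map_det, RingHom.map_det, RingHom.map_det]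
    congr 1
    ext o o'
    simp only [RingHom.mapMatrix_apply, Matrix.map_apply, Groth.Agent.Hensel.MvHensel.jac,
      Matrix.of_apply]
    rw [← hπp]
    change _ = κT (residue A _)
    rw [ResidueField.map_residue, ← hy₀]
    rcases o' with _ | i
    · change residue T (eval y₀ (pderiv o (map (algebraMap A T) f))) = _
      rw [pderiv_map]
      rfl
    · change residue T (eval y₀ (pderiv o (map (algebraMap A T) (Q i) -
        C (s i) * map (algebraMap A T) (q i)))) = _
      have h3 : residue T (s i) = 0 := (residue_eq_zero_iff _).mpr (hs i)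
      rw [map_sub, Derivation.leibniz, pderiv_C, smul_zero, add_zero, smul_eq_mul, map_sub, map_mul,
        eval_C, map_sub, map_mul, h3, zero_mul, sub_zero, pderiv_map]
      rfl
  have hunit : IsUnit (Ideal.Quotient.mk (maximalIdeal T)
      (eval y₀ (Groth.Agent.Hensel.MvHensel.jac F).det)) := by
    change IsUnit ((residue T) (eval y₀ (Groth.Agent.Hensel.MvHensel.jac F).det))
    rw [hmat]
    exact (isUnit_iff_ne_zero.mpr hdet).map κT
  obtain ⟨y, hy0, hy1⟩ := Groth.Agent.Hensel.MvHensel.exists_root (I := maximalIdeal T) F y₀ h0 hunit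
  have hyx : ∀ i, y (some i) ∈ maximalIdeal T := fun i => by
    simpa [y₀] using hy1 (some i)
  let φ : R →ₐ[A] T := h.lift (fun i => y (some i)) hyx
  have hφx : ∀ i, φ (x i) = y (some i) := fun i => h.lift_apply _ _ _
  have hy' : y = pt (y none) (fun i => φ (x i)) := by
    funext o
    rcases o with _ | i
    · rfl
    · rw [pt_some, hφx]
  have heval : ∀ p : MvPolynomial (Option ι) A, eval y (map (algebraMap A T) p) = aeval y p :=
    fun p => by rw [eval_map]; rfl
  have hyf : aeval y f = 0 := by
    rw [← heval]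
    exact hy0 none
  have hyQ : ∀ i, aeval y (Q i) = s i * aeval y (q i) := by
    intro i
    have h3 : eval y (map (algebraMap A T) (Q i) - C (s i) * map (algebraMap A T) (q i)) = 0 :=
      hy0 (some i)
    rw [map_sub, map_mul, eval_C, heval, heval, sub_eq_zero] at h3
    exact h3
  have hφloc : IsLocalHom (φ : R →+* T) := h.isLocalHom_of_mem φ fun i => by
    rw [hφx]
    exact hyx i
  have hφw : φ w = y none := by
    refine root_unique f (fun i => φ (x i)) _ _ ?_ ?_ ?_ ?_
    · rw [← map_aeval_pt, hf.1, map_zero]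
    · rw [← hy', hyf]
    · rw [← map_aeval_pt]
      exact hf.2.map φ
    · have h3 : w - algebraMap A R w₀ ∈ maximalIdeal R := by
        rw [IsLocalRing.mem_maximalIdeal, mem_nonunits_iff, ← hπ, map_sub, AlgHom.commutes,
          sub_eq_zero]
        exact hw₀.symm
      have h4 : φ w - algebraMap A T w₀ ∈ maximalIdeal T := by
        have h5 := h.map_maximalIdeal_le φ (fun i => by rw [hφx]; exact hyx i)
          (Ideal.mem_map_of_mem (φ : R →+* T) h3)
        have h6 : (φ : R →+* T) (w - algebraMap A R w₀) = φ w - algebraMap A T w₀ := by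
          change φ (w - algebraMap A R w₀) = _
          rw [map_sub, AlgHom.commutes]
        rwa [h6] at h5
      have h7 : y none - algebraMap A T w₀ ∈ maximalIdeal T := hy1 none
      have h8 := Ideal.sub_mem _ h4 h7
      simpa using h8
  refine ⟨φ, fun i => by rw [hφx]; exact hyx i, fun i => ?_⟩
  have h9 := congr(φ $(hqQ i))
  rw [map_mul, map_aeval_pt, map_aeval_pt, hφw, ← hy', hyQ, mul_comm] at h9
  have h10 : IsUnit (aeval y (q i)) := by
    rw [hy', ← hφw, ← map_aeval_pt]
    exact (hq i).map φ
  exact h10.mul_right_cancel h9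

/-- The inverse function theorem for `A{x}`. -/
theorem isHensFree_of_generate [IsLocalRing R] [Finite ι] (h : IsHensFree A R x)
    (G : ι → R) (hG : ∀ i, x i ∈ spanIdeal A G) (hGu : ∀ i, ¬ IsUnit (G i)) :
    IsHensFree A R G := by
  have h1 := h.henselian
  have h2 := h.isLocalHom
  let γ : R →ₐ[A] R := h.lift G hGu
  have hγ : ∀ i, γ (x i) = G i := fun i => h.lift_apply _ _ _
  obtain ⟨φ₁, hφ₁x, hφ₁⟩ := exists_solve h G hG hGu x h.not_isUnit
  have h3 : ∀ i, x i ∈ spanIdeal A (fun i => φ₁ (x i)) := by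
    intro i
    have h4 : G i ∈ maximalIdeal R := hGu i
    rw [h.maximalIdeal_eq] at h4
    have h5 := Ideal.mem_map_of_mem (φ₁ : R →+* R) h4
    have h6 : (φ₁ : R →+* R) (G i) = x i := hφ₁ i
    rw [h6, Ideal.map_sup, Ideal.map_map, φ₁.comp_algebraMap, Ideal.map_span, ← Set.range_comp]
      at h5
    exact (le_sup_left : _ ≤ spanIdeal A (fun i => φ₁ (x i))) h5
  obtain ⟨φ₂, hφ₂x, hφ₂⟩ := exists_solve h (fun i => φ₁ (x i)) h3 hφ₁x x h.not_isUnit
  have h7 : φ₁.comp γ = AlgHom.id A R := h.hom_ext
    (fun i => by rw [AlgHom.comp_apply, hγ, hφ₁]; exact h.not_isUnit i)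
    (fun i => by rw [AlgHom.comp_apply, hγ, hφ₁, AlgHom.id_apply])
  have h8 : φ₂.comp φ₁ = AlgHom.id A R := h.hom_ext
    (fun i => by rw [AlgHom.comp_apply, hφ₂]; exact h.not_isUnit i)
    (fun i => by rw [AlgHom.comp_apply, hφ₂, AlgHom.id_apply])
  have h9 : γ.comp φ₁ = AlgHom.id A R := by
    have h10 : γ = φ₂ := by
      rw [← AlgHom.id_comp γ, ← h8, AlgHom.comp_assoc, h7, AlgHom.comp_id]
    rw [h10, h8]
  let e : R ≃ₐ[A] R := AlgEquiv.ofAlgHom γ φ₁ h9 h7
  have h11 := h.of_algEquiv e
  have h12 : (fun i => e (x i)) = G := funext hγ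
  rwa [h12] at h11

end Main

end Groth.Agent.Vancyc.H690.InvFun
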