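import Groth.Agent.Vancyc.H690.DualLift
import Groth.Agent.Vancyc.H690.QuadIsom
import Mathlib.RingTheory.MvPolynomial.Ideal
import Mathlib.RingTheory.LocalRing.MaximalIdeal.Basic
import Mathlib.RingTheory.Localization.AtPrime.Basic

/-!
# Derivations of the residue field at a non-degenerate quadratic point vanish
-/

set_option autoImplicit false
universe u v

namespace Groth.Agent.Vancyc.H690.ResDer

open TrivSqZeroExt IsLocalRing TensorProduct Matrix

section Setup

variable (k κ K O : Type*) [Field k] [Field κ] [Field K] [CommRing O] [Algebra k κ] [Algebra k K]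
  [Algebra κ K] [IsScalarTower k κ K] [Algebra k O] [Algebra O κ] [IsScalarTower k O κ]

/-- The geometric point of `O`. -/
noncomputable def mu : K ⊗[k] O →ₐ[K] K :=
  Algebra.TensorProduct.lift (Algebra.ofId K K)
    ((IsScalarTower.toAlgHom k κ K).comp (IsScalarTower.toAlgHom k O κ)) fun _ _ => Commute.all _ _

@[simp]
theorem mu_tmul (a : K) (b : O) :
    mu k κ K O (a ⊗ₜ b) = a * algebraMap κ K (algebraMap O κ b) := by
  rw [mu, Algebra.TensorProduct.lift_tmul]
  rfl

theorem mu_surjective : Function.Surjective (mu k κ K O) := fun a => ⟨a ⊗ₜ 1, by simp⟩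

instance : (RingHom.ker (mu k κ K O)).IsMaximal :=
  RingHom.ker_isMaximal_of_surjective _ (mu_surjective k κ K O)

end Setup

section Main

variable {k κ K O : Type*} [Field k] [Field κ] [Field K] [CommRing O] [Algebra k κ] [Algebra k K]
  [Algebra κ K] [IsScalarTower k κ K] [Algebra k O] [Algebra O κ] [IsScalarTower k O κ]
  {L : Type*} [CommRing L] [IsLocalRing L] [Algebra (K ⊗[k] O) L] [Algebra K L]
  [IsScalarTower K (K ⊗[k] O) L] [IsLocalization.AtPrime L (RingHom.ker (mu k κ K O))]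

/-- Two `K`-algebra maps out of `L` agreeing on `O` are equal. -/
theorem algHom_ext' (k κ K O L : Type*) [Field k] [Field κ] [Field K] [CommRing O] [Algebra k κ]
    [Algebra k K] [Algebra κ K] [IsScalarTower k κ K] [Algebra k O] [Algebra O κ]
    [IsScalarTower k O κ] [CommRing L] [Algebra (K ⊗[k] O) L] [Algebra K L]
    [IsScalarTower K (K ⊗[k] O) L] [IsLocalization.AtPrime L (RingHom.ker (mu k κ K O))]
    {T : Type*} [CommRing T] [Algebra K T] (f g : L →ₐ[K] T)
    (h : ∀ b : O, f (algebraMap (K ⊗[k] O) L (1 ⊗ₜ b)) = g (algebraMap (K ⊗[k] O) L (1 ⊗ₜ b))) :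
    f = g := by
  refine IsLocalization.algHom_ext (RingHom.ker (mu k κ K O)).primeCompl ?_
  ext z
  induction z using TensorProduct.induction_on with
  | zero => simp
  | tmul a b =>
    have h1 : (a ⊗ₜ[k] b : K ⊗[k] O) = algebraMap K (K ⊗[k] O) a * (1 ⊗ₜ b) := by
      rw [Algebra.TensorProduct.algebraMap_apply, Algebra.TensorProduct.tmul_mul_tmul, one_mul,
        Algebra.algebraMap_self_apply, mul_one]
    rw [h1, map_mul, map_mul, AlgHom.commutes, AlgHom.commutes]
    congr 1
    exact h b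
  | add y z hy hz => rw [map_add, map_add, hy, hz]

variable (k κ K O L) in
omit [IsLocalRing L] in
/-- Extension to `L` of a map out of `O`. -/
theorem exists_lift {T : Type*} [CommRing T] [Algebra K T] [Algebra k T] [IsScalarTower k K T]
    (r : T →ₐ[K] K) (hr : ∀ t, r t ≠ 0 → IsUnit t) (Ψ₀ : O →ₐ[k] T)
    (hΨ : ∀ b, r (Ψ₀ b) = algebraMap κ K (algebraMap O κ b)) :
    ∃ Φ : L →ₐ[K] T, ∀ b : O, Φ (algebraMap (K ⊗[k] O) L (1 ⊗ₜ b)) = Ψ₀ b := by
  let Ψ : K ⊗[k] O →ₐ[K] T := Algebra.TensorProduct.lift (Algebra.ofId K T) Ψ₀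
    fun _ _ => Commute.all _ _
  have hΨr : ∀ z, r (Ψ z) = mu k κ K O z := by
    intro z
    have h1 : r.comp Ψ = mu k κ K O := by
      refine Algebra.TensorProduct.ext' fun a b => ?_
      rw [AlgHom.comp_apply, Algebra.TensorProduct.lift_tmul, map_mul, hΨ, mu_tmul]
      congr 1
      exact r.commutes a
    exact congr($h1 z)
  let Φ : L →ₐ[K] T := IsLocalization.liftAlgHom (M := (RingHom.ker (mu k κ K O)).primeCompl)
    (f := Ψ) (fun y => hr _ (by rw [hΨr]; exact y.2))
  refine ⟨Φ, fun b => ?_⟩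
  have h2 : Φ (algebraMap (K ⊗[k] O) L (1 ⊗ₜ b)) = Ψ (1 ⊗ₜ b) := by
    rw [IsLocalization.liftAlgHom_apply, IsLocalization.lift_eq]
    rfl
  rw [h2, Algebra.TensorProduct.lift_tmul, map_one, one_mul]

variable (k κ K O) in
/-- The residue map of `L`. -/
theorem exists_residue : ∃ ρ : L →ₐ[K] K,
    (∀ b : O, ρ (algebraMap (K ⊗[k] O) L (1 ⊗ₜ b)) = algebraMap κ K (algebraMap O κ b)) ∧
    RingHom.ker ρ = maximalIdeal L := by
  obtain ⟨ρ, hρ⟩ := exists_lift k κ K O L (T := K) (AlgHom.id K K)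
    (fun t ht => isUnit_iff_ne_zero.mpr ht)
    ((IsScalarTower.toAlgHom k κ K).comp (IsScalarTower.toAlgHom k O κ)) fun b => rfl
  refine ⟨ρ, hρ, ?_⟩
  have hsurj : Function.Surjective ρ := fun a => ⟨algebraMap K L a, by
    rw [AlgHom.commutes]; rfl⟩
  exact IsLocalRing.eq_maximalIdeal (RingHom.ker_isMaximal_of_surjective _ hsurj)

omit [IsScalarTower k κ K] [IsScalarTower k O κ] in
/-- Any `K`-algebra map `L → K` is the residue map. -/
theorem eq_residue {L : Type*} [CommRing L] [IsLocalRing L] [Algebra K L] (ρ f : L →ₐ[K] K)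
    (hρ : RingHom.ker ρ = maximalIdeal L) : f = ρ := by
  ext l
  have h1 : l - algebraMap K L (ρ l) ∈ RingHom.ker ρ := by
    rw [RingHom.mem_ker, map_sub, AlgHom.commutes, Algebra.algebraMap_self_apply, sub_self]
  have h2 : l - algebraMap K L (ρ l) ∈ RingHom.ker f := by
    rw [hρ] at h1
    have hsurj : Function.Surjective f := fun a => ⟨algebraMap K L a, by
      rw [AlgHom.commutes]; rfl⟩
    have h3 := IsLocalRing.eq_maximalIdeal (RingHom.ker_isMaximal_of_surjective f hsurj)
    rw [h3]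
    exact h1
  rw [RingHom.mem_ker, map_sub, AlgHom.commutes, Algebra.algebraMap_self_apply, sub_eq_zero] at h2
  exact h2

end Main

section Tangent

variable {K : Type u} [Field K] {L : Type v} [CommRing L] [IsLocalRing L] [Algebra K L]

theorem aeval_sq_eq_zero {N : ℕ} (v : Fin N → K) (p : MvPolynomial (Fin N) K)
    (hp : p ∈ MvPolynomial.idealOfVars (Fin N) K ^ 2) :
    MvPolynomial.aeval (fun i => (inr (v i) : DualNumber K)) p = 0 := by
  have h1 : ∀ q ∈ MvPolynomial.idealOfVars (Fin N) K,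
      fst (MvPolynomial.aeval (fun i => (inr (v i) : DualNumber K)) q) = 0 := by
    intro q hq
    refine Submodule.span_induction ?_ ?_ ?_ ?_ hq
    · rintro _ ⟨i, rfl⟩
      rw [MvPolynomial.aeval_X, fst_inr]
    · rw [map_zero, fst_zero]
    · intro q q' _ _ h h'
      rw [map_add, fst_add, h, h', add_zero]
    · intro c q _ h
      rw [smul_eq_mul, map_mul, fst_mul, h, mul_zero]
  rw [pow_two] at hp
  refine Submodule.mul_induction_on hp ?_ ?_
  · intro q hq q' hq'
    rw [map_mul]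
    ext
    · rw [fst_mul, h1 q hq, zero_mul, fst_zero]
    · rw [snd_mul, h1 q hq, h1 q' hq', snd_zero]
      simp
  · intro q q' h h'
    rw [map_add, h, h', add_zero]

/-- Tangent vectors in prescribed directions. -/
theorem exists_tangent (ρ : L →ₐ[K] K) (hρ : RingHom.ker ρ = maximalIdeal L) {N : ℕ}
    (x : Fin N → L) (hxm : ∀ i, x i ∈ maximalIdeal L)
    (hgen : maximalIdeal L ≤ Ideal.span (Set.range x) ⊔ maximalIdeal L ^ 2)
    (H2 : ∀ p : MvPolynomial (Fin N) K, MvPolynomial.aeval x p ∈ maximalIdeal L ^ 2 →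
      p ∈ MvPolynomial.idealOfVars (Fin N) K ^ 2) (v : Fin N → K) :
    ∃ χ : L →ₐ[K] DualNumber K, ∀ i, χ (x i) = inr (v i) := by
  have hx : ∀ l, l - algebraMap K L (ρ l) ∈ maximalIdeal L := by
    intro l
    rw [← hρ, RingHom.mem_ker, map_sub, AlgHom.commutes, Algebra.algebraMap_self_apply, sub_self]
  let π₂ : MvPolynomial (Fin N) K →ₐ[K] L ⧸ maximalIdeal L ^ 2 :=
    (Ideal.Quotient.mkₐ K _).comp (MvPolynomial.aeval x)
  have hπ₂ : Function.Surjective π₂ := by
    intro l
    obtain ⟨l, rfl⟩ := Ideal.Quotient.mk_surjective l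
    obtain ⟨y, hy, z, hz, hyz⟩ := Submodule.mem_sup.mp (hgen (hx l))
    obtain ⟨c, hc⟩ := Ideal.mem_span_range_iff_exists_fun.mp hy
    refine ⟨MvPolynomial.C (ρ l) + ∑ i, MvPolynomial.C (ρ (c i)) * MvPolynomial.X i, ?_⟩
    change Ideal.Quotient.mk _ (MvPolynomial.aeval x _) = _
    rw [Ideal.Quotient.eq]
    have h1 : MvPolynomial.aeval x (MvPolynomial.C (ρ l) +
        ∑ i, MvPolynomial.C (ρ (c i)) * MvPolynomial.X i) - l =
        - ∑ i, (c i - algebraMap K L (ρ (c i))) * x i - z := by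
      rw [map_add, map_sum, MvPolynomial.algHom_C]
      simp only [map_mul, MvPolynomial.algHom_C, MvPolynomial.aeval_X, sub_mul,
        Finset.sum_sub_distrib, hc]
      linear_combination hyz
    rw [h1]
    refine Ideal.sub_mem _ (Ideal.neg_mem_iff _ |>.mpr (Ideal.sum_mem _ fun i _ => ?_)) hz
    rw [pow_two]
    exact Ideal.mul_mem_mul (hx _) (hxm i)
  let e : (MvPolynomial (Fin N) K ⧸ RingHom.ker π₂) ≃ₐ[K] L ⧸ maximalIdeal L ^ 2 :=
    Ideal.quotientKerAlgEquivOfSurjective hπ₂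
  have he : ∀ p : MvPolynomial (Fin N) K, e.symm (Ideal.Quotient.mk _ (MvPolynomial.aeval x p)) =
      Ideal.Quotient.mk _ p := by
    intro p
    rw [AlgEquiv.symm_apply_eq]
    rfl
  let w : (MvPolynomial (Fin N) K ⧸ RingHom.ker π₂) →ₐ[K] DualNumber K :=
    Ideal.Quotient.liftₐ _ (MvPolynomial.aeval fun i => (inr (v i) : DualNumber K)) (by
      intro p hp
      refine aeval_sq_eq_zero v p (H2 p ?_)
      rw [RingHom.mem_ker] at hp
      exact Ideal.Quotient.eq_zero_iff_mem.mp hp)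
  let χ : L →ₐ[K] DualNumber K := (w.comp e.symm.toAlgHom).comp (Ideal.Quotient.mkₐ K _)
  refine ⟨χ, fun i => ?_⟩
  have h2 : χ (x i) = w (e.symm (Ideal.Quotient.mk _ (MvPolynomial.aeval x
      (MvPolynomial.X i : MvPolynomial (Fin N) K)))) := by
    rw [MvPolynomial.aeval_X]
    rfl
  rw [h2, he]
  change MvPolynomial.aeval (fun i => (inr (v i) : DualNumber K))
    (MvPolynomial.X i : MvPolynomial (Fin N) K) = _
  rw [MvPolynomial.aeval_X]

end Tangent

end Groth.Agent.Vancyc.H690.ResDer
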