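import Groth.Agent.Vancyc.H690.ResDer
import Groth.Agent.Vancyc.H690.DualDual

/-!
# Derivations of the residue field at a non-degenerate quadratic point vanish (end)
-/

set_option autoImplicit false
universe u v

namespace Groth.Agent.Vancyc.H690.ResDer2

open TrivSqZeroExt IsLocalRing TensorProduct Matrix Groth.Agent.Vancyc.H690.ResDer
  Groth.Agent.Vancyc.H690.DualDual

variable {k κ K O : Type u} [Field k] [Field κ] [Field K] [CommRing O] [Algebra k κ] [Algebra k K]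
  [Algebra κ K] [IsScalarTower k κ K] [Algebra k O] [Algebra O κ] [IsScalarTower k O κ]
  {L : Type u} [CommRing L] [IsLocalRing L] [Algebra (K ⊗[k] O) L] [Algebra K L]
  [IsScalarTower K (K ⊗[k] O) L] [IsLocalization.AtPrime L (RingHom.ker (mu k κ K O))]

/-- Restriction to `O` of a `K`-algebra map out of `L`. -/
theorem exists_restrict {L : Type u} [CommRing L] [Algebra (K ⊗[k] O) L] [Algebra K L]
    [IsScalarTower K (K ⊗[k] O) L] {T : Type u} [CommRing T] [Algebra K T] [Algebra k T]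
    [IsScalarTower k K T] (χ : L →ₐ[K] T) :
    ∃ χ₀ : O →ₐ[k] T, ∀ b, χ₀ b = χ (algebraMap (K ⊗[k] O) L (1 ⊗ₜ b)) := by
  let f : K ⊗[k] O →ₐ[K] T := χ.comp (IsScalarTower.toAlgHom K (K ⊗[k] O) L)
  exact ⟨(f.restrictScalars k).comp Algebra.TensorProduct.includeRight, fun b => rfl⟩

/-- The combined tangent vector of `L`. -/
theorem exists_combined (φ₀ : κ →ₐ[k] DualNumber K) (hφ₀ : ∀ y, fst (φ₀ y) = algebraMap κ K y)
    (ρ : L →ₐ[K] K)
    (hρO : ∀ b : O, ρ (algebraMap (K ⊗[k] O) L (1 ⊗ₜ b)) = algebraMap κ K (algebraMap O κ b))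
    (hρ : RingHom.ker ρ = maximalIdeal L) (φ χ : L →ₐ[K] DualNumber K)
    (hφ : ∀ b : O, φ (algebraMap (K ⊗[k] O) L (1 ⊗ₜ b)) = φ₀ (algebraMap O κ b)) :
    ∃ Φ : L →ₐ[K] DualNumber (DualNumber K), ∀ l, fst (Φ l) = φ l ∧ fst (snd (Φ l)) = snd (χ l) := by
  have hχρ : ∀ l, fst (χ l) = ρ l := fun l =>
    congr($(eq_residue ρ ((fstHom K K K).comp χ) hρ) l)
  obtain ⟨χ₀, hχ₀⟩ := exists_restrict (k := k) (O := O) χ
  obtain ⟨Ψ₀, hΨ1, hΨ2⟩ := Groth.Agent.Vancyc.H690.DualLift.exists_combine φ₀ hφ₀ χ₀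
    (fun b => by rw [hχ₀, hχρ, hρO])
  let r : DualNumber (DualNumber K) →ₐ[K] K := (fstHom K K K).comp (proj K)
  have hr : ∀ t, r t = fst (fst t) := fun t => rfl
  have hunit2 : ∀ t : DualNumber (DualNumber K), r t ≠ 0 → IsUnit t := by
    intro t ht
    rw [isUnit_iff_isUnit_fst, isUnit_iff_isUnit_fst]
    exact isUnit_iff_ne_zero.mpr ht
  obtain ⟨Φ, hΦ⟩ := exists_lift k κ K O L (T := DualNumber (DualNumber K)) r hunit2 Ψ₀
    (fun b => by rw [hr, hΨ1, hφ₀])
  refine ⟨Φ, fun l => ⟨?_, ?_⟩⟩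
  · have h1 : (fstHom K (DualNumber K) (DualNumber K)).comp Φ = φ := by
      refine algHom_ext' k κ K O L _ _ fun b => ?_
      change fst (Φ _) = _
      rw [hΦ, hΨ1, hφ]
    exact congr($h1 l)
  · have h1 : (proj K).comp Φ = χ := by
      refine algHom_ext' k κ K O L _ _ fun b => ?_
      rw [AlgHom.comp_apply, hΦ]
      refine TrivSqZeroExt.ext ?_ ?_
      · rw [fst_proj, hΨ1, hφ₀, hχρ, hρO]
      · rw [snd_proj, hΨ2, hχ₀]
    have h2 : proj K (Φ l) = χ l := congr($h1 l)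
    rw [← h2, snd_proj]

omit [Algebra k K] in
/-- Cubes of the maximal ideal are killed by combined tangent vectors. -/
theorem map_cube_eq_zero {L : Type u} [CommRing L] [IsLocalRing L] [Algebra K L]
    (Φ : L →ₐ[K] DualNumber (DualNumber K))
    (hm : ∀ l ∈ maximalIdeal L, fst (fst (Φ l)) = 0) (l : L) (hl : l ∈ maximalIdeal L ^ 3) :
    Φ l = 0 := by
  have hsq : ∀ l ∈ maximalIdeal L ^ 2, fst (fst (Φ l)) = 0 ∧ snd (fst (Φ l)) = 0 ∧
      fst (snd (Φ l)) = 0 := by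
    intro l hl
    rw [pow_two] at hl
    refine Submodule.mul_induction_on hl ?_ ?_
    · intro s hs t ht
      rw [map_mul]
      exact mul_of _ _ (hm s hs) (hm t ht)
    · intro s t hs ht
      rw [map_add]
      refine ⟨?_, ?_, ?_⟩
      · rw [fst_add, fst_add, hs.1, ht.1, add_zero]
      · rw [fst_add, snd_add, hs.2.1, ht.2.1, add_zero]
      · rw [snd_add, fst_add, hs.2.2, ht.2.2, add_zero]
  rw [pow_succ] at hl
  refine Submodule.mul_induction_on hl ?_ ?_
  · intro s hs t ht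
    obtain ⟨h1, h2, h3⟩ := hsq s hs
    rw [map_mul]
    exact mul_eq_zero_of _ _ h1 h2 h3 (hm t ht)
  · intro s t hs ht
    rw [map_add, hs, ht, add_zero]

theorem map_quadEval {K : Type u} [Field K] {L T : Type u} [CommRing L] [Algebra K L] [CommRing T] [Algebra K T]
    (Φ : L →ₐ[K] T) {N : ℕ} (a : Fin N → Fin N → K) (x : Fin N → L) :
    Φ (VanCyc.quadEval (fun i j => algebraMap K L (a i j)) x) =
      VanCyc.quadEval (fun i j => algebraMap K T (a i j)) (fun i => Φ (x i)) := by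
  rw [VanCyc.quadEval, VanCyc.quadEval, map_sum]
  refine Finset.sum_congr rfl fun i _ => ?_
  rw [map_sum]
  refine Finset.sum_congr rfl fun j _ => ?_
  split_ifs
  · rw [map_mul, map_mul, AlgHom.commutes]
  · rw [map_zero]

/-- Tangent vectors of the residue field vanish at a non-degenerate quadratic point. -/
theorem snd_eq_zero (φ₀ : κ →ₐ[k] DualNumber K) (hφ₀ : ∀ y, fst (φ₀ y) = algebraMap κ K y)
    {N : ℕ} (x : Fin N → L) (hxm : ∀ i, x i ∈ maximalIdeal L)
    (hgen : maximalIdeal L ≤ Ideal.span (Set.range x) ⊔ maximalIdeal L ^ 2)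
    (H2 : ∀ p : MvPolynomial (Fin N) K, MvPolynomial.aeval x p ∈ maximalIdeal L ^ 2 →
      p ∈ MvPolynomial.idealOfVars (Fin N) K ^ 2)
    (a : Fin N → Fin N → K) (ha : VanCyc.QuadNondeg a)
    (Ha : VanCyc.quadEval (fun i j => algebraMap K L (a i j)) x ∈ maximalIdeal L ^ 3) (b : O) :
    snd (φ₀ (algebraMap O κ b)) = 0 := by
  obtain ⟨ρ, hρO, hρ⟩ := exists_residue k κ K O (L := L)
  have hunit1 : ∀ t : DualNumber K, (fstHom K K K) t ≠ 0 → IsUnit t := by
    intro t ht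
    rw [isUnit_iff_isUnit_fst]
    exact isUnit_iff_ne_zero.mpr ht
  -- the tangent vector of `L` attached to `φ₀`
  obtain ⟨φ, hφ⟩ := exists_lift k κ K O L (T := DualNumber K) (fstHom K K K) hunit1
    (φ₀.comp (IsScalarTower.toAlgHom k O κ)) (fun b => hφ₀ _)
  have hφ' : ∀ b : O, φ (algebraMap (K ⊗[k] O) L (1 ⊗ₜ b)) = φ₀ (algebraMap O κ b) := hφ
  have hφρ : ∀ l, fst (φ l) = ρ l := fun l =>
    congr($(eq_residue ρ ((fstHom K K K).comp φ) hρ) l)
  have hρm : ∀ l ∈ maximalIdeal L, ρ l = 0 := fun l hl => by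
    rw [← hρ] at hl
    exact hl
  have hρx : ∀ i, ρ (x i) = 0 := fun i => hρm _ (hxm i)
  let c : Fin N → K := fun i => snd (φ (x i))
  have hφx : ∀ i, φ (x i) = inr (c i) := by
    intro i
    refine TrivSqZeroExt.ext ?_ ?_
    · rw [hφρ, hρx, fst_inr]
    · rw [snd_inr]
  -- `S c = 0`
  have hSc : ∀ v : Fin N → K, v ⬝ᵥ (VanCyc.polarMatrix a *ᵥ c) = 0 := by
    intro v
    obtain ⟨χ, hχ⟩ := exists_tangent ρ hρ x hxm hgen H2 v
    obtain ⟨Φ, hΦ⟩ := exists_combined φ₀ hφ₀ ρ hρO hρ φ χ hφ'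
    have hΦx : ∀ i, Φ (x i) = mk4 0 (c i) (v i) (snd (snd (Φ (x i)))) := by
      intro i
      refine ext4 ?_ ?_ ?_ ?_
      · rw [(hΦ _).1, hφρ, hρx, mk4_1]
      · rw [(hΦ _).1, mk4_2]
      · rw [(hΦ _).2, hχ, snd_inr, mk4_3]
      · rw [mk4_4]
    have h4 := map_cube_eq_zero Φ (fun l hl => by rw [(hΦ l).1, hφρ, hρm l hl]) _ Ha
    have h4'' := map_quadEval (T := DualNumber (DualNumber K)) Φ a x
    have h4' := h4''.symm.trans h4
    rw [funext hΦx, quadEval_dual] at h4'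
    have h5 := congr(snd (snd $h4'))
    rw [mk4_4] at h5
    exact h5
  have hc : c = 0 := by
    have h6 : VanCyc.polarMatrix a *ᵥ c = 0 := by
      funext i
      have h7 := hSc (Pi.single i 1)
      rwa [single_dotProduct, one_mul] at h7
    have h7 := congr((VanCyc.polarMatrix a)⁻¹ *ᵥ $h6)
    rwa [Matrix.mulVec_mulVec, Matrix.nonsing_inv_mul _ ha, Matrix.one_mulVec,
      Matrix.mulVec_zero] at h7
  -- hence `φ` kills the maximal ideal
  have hφm : ∀ l ∈ maximalIdeal L, φ l = 0 := by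
    have h8 : ∀ l ∈ maximalIdeal L, fst (φ l) = 0 := by
      intro l hl
      rw [hφρ, hρm l hl]
    have h9 : Ideal.span (Set.range x) ⊔ maximalIdeal L ^ 2 ≤ RingHom.ker φ := by
      refine sup_le ?_ ?_
      · rw [Ideal.span_le]
        rintro _ ⟨i, rfl⟩
        change φ (x i) = 0
        rw [hφx, hc, Pi.zero_apply, inr_zero]
      · rw [pow_two, Ideal.mul_le]
        intro s hs t ht
        rw [RingHom.mem_ker, map_mul]
        refine TrivSqZeroExt.ext ?_ ?_
        · rw [fst_mul, h8 s hs, zero_mul, fst_zero]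
        · rw [snd_mul', h8 s hs, h8 t ht, snd_zero, zero_mul, mul_zero, add_zero]
    exact fun l hl => h9 (hgen hl)
  have h10 : algebraMap (K ⊗[k] O) L (1 ⊗ₜ b) -
      algebraMap K L (algebraMap κ K (algebraMap O κ b)) ∈ maximalIdeal L := by
    rw [← hρ, RingHom.mem_ker, map_sub, hρO, AlgHom.commutes, Algebra.algebraMap_self_apply,
      sub_self]
  have h11 := hφm _ h10
  rw [map_sub, hφ', AlgHom.commutes, sub_eq_zero] at h11
  have h12 := congr(snd $h11)
  rw [h12]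
  rfl

end Groth.Agent.Vancyc.H690.ResDer2
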